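import Mathlib.Tactic.LinearCombination
import Mathlib.Tactic.Ring
import Mathlib.Tactic.FieldSimp
import Mathlib.Tactic.Linarith
import Mathlib.Tactic.Positivity
import Mathlib.Data.Rat.Cast.Order
import Mathlib.Algebra.Order.Ring.Rat

/-!
# The arithmetic of seven exceptional characters

`D`, `U`, `V` are the signed degree and the signed values on two classes of involutions of seven
characters, subject to the relations given by the four forms.
-/

set_option autoImplicit false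

namespace CfsgLib.AltNine

/-- The bilinear sums of one form with signs `s` on the constituents `i`, `j`, `k`. -/
def quad3 (D P Q : Fin 7 → ℚ) (i j k : Fin 7) (si sj sk : ℚ) : ℚ :=
  si * (P i * Q i / D i) + sj * (P j * Q j / D j) + sk * (P k * Q k / D k)

set_option maxHeartbeats 800000 in
theorem deg_three (d : Fin 7 → ℤ) (u v : Fin 7 → ℚ) (hd : ∀ i, d i ≠ 0) (α β δ : ℚ)
    (hα : α ≠ 0) (hβ : β ≠ 0) (hδ : δ ≠ 0) (hdet : δ * δ = α * β)
    (D : Fin 7 → ℚ) (hD : ∀ i, D i = d i)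
    (lF : ∀ P : Fin 7 → ℚ, (P = D ∨ P = u ∨ P = v) → P 0 + P 1 - P 2 = 0)
    (lR : ∀ P : Fin 7 → ℚ, (P = D ∨ P = u ∨ P = v) → P 2 + P 3 - P 4 = 0)
    (lI : ∀ P : Fin 7 → ℚ, (P = D ∨ P = u ∨ P = v) → 1 - P 0 + P 4 + P 5 = 0)
    (lB : ∀ P : Fin 7 → ℚ, (P = D ∨ P = u ∨ P = v) → 1 + P 0 + P 4 + P 6 = 0)
    (Fuu : quad3 D u u 0 1 2 1 1 (-1) = 0)
    (Fvv : quad3 D v v 0 1 2 1 1 (-1) = 2 / 3 * β)
    (Ruu : quad3 D u u 2 3 4 1 1 (-1) = 8 / 3 * α)
    (Rvv : quad3 D v v 2 3 4 1 1 (-1) = 0)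
    (Iuu : 1 + quad3 D u u 0 4 5 (-1) 1 1 = 0)
    (Ivv : 1 + quad3 D v v 0 4 5 (-1) 1 1 = 2 / 3 * β)
    (Iuv : 1 + quad3 D u v 0 4 5 (-1) 1 1 = 4 / 3 * δ)
    (Buu : 1 + quad3 D u u 0 4 6 1 1 1 = 4 / 3 * α)
    (Bvv : 1 + quad3 D v v 0 4 6 1 1 1 = β)
    (Buv : 1 + quad3 D u v 0 4 6 1 1 1 = 2 / 3 * δ) :
    (d 0).natAbs = 3 := by
  have hne : ∀ i, D i ≠ 0 := fun i => by rw [hD]; exact_mod_cast hd i
  simp only [quad3] at *
  have h0 := hne 0; have h1 := hne 1; have h2 := hne 2; have h3 := hne 3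
  have h4 := hne 4; have h5 := hne 5; have h6 := hne 6
  have dF := lF D (Or.inl rfl); have uF := lF u (Or.inr (Or.inl rfl))
  have vF := lF v (Or.inr (Or.inr rfl))
  have dR := lR D (Or.inl rfl); have uR := lR u (Or.inr (Or.inl rfl))
  have vR := lR v (Or.inr (Or.inr rfl))
  have dI := lI D (Or.inl rfl); have uI := lI u (Or.inr (Or.inl rfl))
  have vI := lI v (Or.inr (Or.inr rfl))
  have dB := lB D (Or.inl rfl); have uB := lB u (Or.inr (Or.inl rfl))
  have vB := lB v (Or.inr (Or.inr rfl))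
  clear lF lR lI lB
  -- proportionality
  have pF : u 1 = u 0 / D 0 * D 1 := by
    have e2 : u 2 = u 0 + u 1 := by linarith
    have d2 : D 2 = D 0 + D 1 := by linarith
    rw [e2, d2] at Fuu; rw [d2] at h2
    field_simp at Fuu ⊢
    have : (u 1 * D 0 - u 0 * D 1) ^ 2 = 0 := by linear_combination Fuu
    have := pow_eq_zero_iff (n := 2) (by norm_num) |>.1 this
    linarith
  have pR : v 2 = v 4 / D 4 * D 2 := by
    have e3 : v 3 = v 4 - v 2 := by linarith
    have d3 : D 3 = D 4 - D 2 := by linarith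
    rw [e3, d3] at Rvv; rw [d3] at h3
    field_simp at Rvv ⊢
    have : (v 2 * D 4 - v 4 * D 2) ^ 2 = 0 := by linear_combination Rvv
    have := pow_eq_zero_iff (n := 2) (by norm_num) |>.1 this
    linarith
  obtain ⟨lam, hlam⟩ : ∃ l, l = u 0 / D 0 := ⟨_, rfl⟩
  obtain ⟨mu, hmu⟩ : ∃ l, l = v 4 / D 4 := ⟨_, rfl⟩
  rw [← hlam] at pF; rw [← hmu] at pR
  have u0 : u 0 = lam * D 0 := by rw [hlam]; field_simp
  have v4 : v 4 = mu * D 4 := by rw [hmu]; field_simp
  clear hlam hmu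
  obtain ⟨k, hk⟩ : ∃ t, t = 1 - lam := ⟨_, rfl⟩
  obtain ⟨l, hl⟩ : ∃ t, t = 1 - mu := ⟨_, rfl⟩
  obtain ⟨p, hp⟩ : ∃ t, t = u 4 - lam * D 4 := ⟨_, rfl⟩
  obtain ⟨q, hq⟩ : ∃ t, t = v 0 - mu * D 0 := ⟨_, rfl⟩
  have sh : ∀ (a b c s t : ℚ), c ≠ 0 →
      (a - s * c) * (b - t * c) / c = a * b / c - t * a - s * b + s * t * c := by
    intro a b c s t hc; field_simp; ring
  have eI1 : k ^ 2 + p ^ 2 / D 4 + (k + p) ^ 2 / D 5 = 0 := by
    have a5 : k + p = -(u 5 - lam * D 5) := by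
      rw [hk, hp]; linear_combination uI - lam * dI + u0
    rw [a5, hk, hp, neg_sq, pow_two, pow_two, pow_two, sh _ _ _ _ _ h4, sh _ _ _ _ _ h5]
    linear_combination Iuu - 2 * lam * uI + lam ^ 2 * dI +
      ((u 0 - lam * D 0) / D 0) * u0 +
      (by field_simp; ring : u 0 * u 0 / D 0 - 2 * lam * u 0 + lam ^ 2 * D 0 =
        (u 0 - lam * D 0) / D 0 * (u 0 - lam * D 0))
  have eI2 : l ^ 2 - q ^ 2 / D 0 + (q - l) ^ 2 / D 5 = 2 / 3 * β := by
    have a5 : q - l = v 5 - mu * D 5 := by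
      rw [hl, hq]; linear_combination -vI + mu * dI + v4
    rw [a5, hl, hq, pow_two, pow_two, pow_two, sh _ _ _ _ _ h0, sh _ _ _ _ _ h5]
    linear_combination Ivv - 2 * mu * vI + mu ^ 2 * dI -
      ((v 4 - mu * D 4) / D 4) * v4 -
      (by field_simp; ring : v 4 * v 4 / D 4 - 2 * mu * v 4 + mu ^ 2 * D 4 =
        (v 4 - mu * D 4) / D 4 * (v 4 - mu * D 4))
  have eI3 : k * l - (k + p) * (q - l) / D 5 = 4 / 3 * δ := by
    have a5 : k + p = -(u 5 - lam * D 5) := by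
      rw [hk, hp]; linear_combination uI - lam * dI + u0
    have b5 : q - l = v 5 - mu * D 5 := by
      rw [hl, hq]; linear_combination -vI + mu * dI + v4
    have z0 : (u 0 - lam * D 0) * (v 0 - mu * D 0) / D 0 = 0 := by rw [u0]; simp
    have z4 : (u 4 - lam * D 4) * (v 4 - mu * D 4) / D 4 = 0 := by rw [v4]; simp
    rw [sh _ _ _ _ _ h0] at z0; rw [sh _ _ _ _ _ h4] at z4
    rw [a5, b5, hk, hl, neg_mul, neg_div, sh _ _ _ _ _ h5]
    linear_combination Iuv - mu * uI - lam * vI + lam * mu * dI + z0 - z4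
  have eB1 : k ^ 2 + p ^ 2 / D 4 + (k + p) ^ 2 / D 6 = 4 / 3 * α := by
    have a6 : k + p = -(u 6 - lam * D 6) := by
      rw [hk, hp]; linear_combination uB - lam * dB - u0
    rw [a6, hk, hp, neg_sq, pow_two, pow_two, pow_two, sh _ _ _ _ _ h4, sh _ _ _ _ _ h6]
    linear_combination Buu - 2 * lam * uB + lam ^ 2 * dB -
      ((u 0 - lam * D 0) / D 0) * u0 -
      (by field_simp; ring : u 0 * u 0 / D 0 - 2 * lam * u 0 + lam ^ 2 * D 0 =
        (u 0 - lam * D 0) / D 0 * (u 0 - lam * D 0))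
  have eB2 : l ^ 2 + q ^ 2 / D 0 + (q + l) ^ 2 / D 6 = β := by
    have a6 : q + l = -(v 6 - mu * D 6) := by
      rw [hl, hq]; linear_combination vB - mu * dB - v4
    rw [a6, hl, hq, neg_sq, pow_two, pow_two, pow_two, sh _ _ _ _ _ h0, sh _ _ _ _ _ h6]
    linear_combination Bvv - 2 * mu * vB + mu ^ 2 * dB -
      ((v 4 - mu * D 4) / D 4) * v4 -
      (by field_simp; ring : v 4 * v 4 / D 4 - 2 * mu * v 4 + mu ^ 2 * D 4 =
        (v 4 - mu * D 4) / D 4 * (v 4 - mu * D 4))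
  have eB3 : k * l + (k + p) * (q + l) / D 6 = 2 / 3 * δ := by
    have a6 : k + p = -(u 6 - lam * D 6) := by
      rw [hk, hp]; linear_combination uB - lam * dB - u0
    have b6 : q + l = -(v 6 - mu * D 6) := by
      rw [hl, hq]; linear_combination vB - mu * dB - v4
    have z0 : (u 0 - lam * D 0) * (v 0 - mu * D 0) / D 0 = 0 := by rw [u0]; simp
    have z4 : (u 4 - lam * D 4) * (v 4 - mu * D 4) / D 4 = 0 := by rw [v4]; simp
    rw [sh _ _ _ _ _ h0] at z0; rw [sh _ _ _ _ _ h4] at z4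
    rw [a6, b6, hk, hl, neg_mul_neg, sh _ _ _ _ _ h6]
    linear_combination Buv - mu * uB - lam * vB + lam * mu * dB - z0 - z4
  have eR : p ^ 2 * (1 / D 3 - 1 / D 4) = 8 / 3 * α := by
    have u2 : u 2 - lam * D 2 = 0 := by linear_combination -uF + lam * dF + u0 + pF
    have u3 : u 3 - lam * D 3 = p := by rw [hp]; linear_combination uR - lam * dR - u2
    have z2 : (u 2 - lam * D 2) * (u 2 - lam * D 2) / D 2 = 0 := by rw [u2]; simp
    rw [sh _ _ _ _ _ h2] at z2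
    have z3 : p ^ 2 / D 3 = (u 3 - lam * D 3) * (u 3 - lam * D 3) / D 3 := by rw [u3, pow_two]
    have z4 : p ^ 2 / D 4 = (u 4 - lam * D 4) * (u 4 - lam * D 4) / D 4 := by rw [hp, pow_two]
    rw [sh _ _ _ _ _ h3] at z3; rw [sh _ _ _ _ _ h4] at z4
    linear_combination Ruu + z3 - z4 - z2 - 2 * lam * uR + lam ^ 2 * dR
  have eF : q ^ 2 * (1 / D 0 + 1 / D 1) = 2 / 3 * β := by
    have v2 : v 2 - mu * D 2 = 0 := by linear_combination pR
    have v1 : v 1 - mu * D 1 = -q := by rw [hq]; linear_combination vF - mu * dF + v2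
    have z2 : (v 2 - mu * D 2) * (v 2 - mu * D 2) / D 2 = 0 := by rw [v2]; simp
    rw [sh _ _ _ _ _ h2] at z2
    have z1 : q ^ 2 / D 1 = (v 1 - mu * D 1) * (v 1 - mu * D 1) / D 1 := by
      rw [v1, pow_two, neg_mul_neg]
    have z0 : q ^ 2 / D 0 = (v 0 - mu * D 0) * (v 0 - mu * D 0) / D 0 := by rw [hq, pow_two]
    rw [sh _ _ _ _ _ h0] at z0; rw [sh _ _ _ _ _ h1] at z1
    linear_combination Fvv + z0 + z1 + z2 - 2 * mu * vF + mu ^ 2 * dF
  clear Fuu Fvv Ruu Rvv Iuu Ivv Iuv Buu Bvv Buv uF vF uR vR uI vI uB vB pF pR u0 v4 sh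
  clear hk hl hp hq
  -- determinants
  generalize hx : D 0 = x at *
  generalize hg : D 4 = g at *
  generalize ha : D 5 = a at *
  generalize hb : D 6 = b at *
  have wI : -(16 / 9) * δ ^ 2 * (x * g * a) = (-p * q + p * l * x + k * q * g) ^ 2 := by
    have ea : a = x - g - 1 := by linarith
    have e : (k ^ 2 + p ^ 2 / g + (k + p) ^ 2 / a) * (l ^ 2 - q ^ 2 / x + (q - l) ^ 2 / a) -
        (k * l - (k + p) * (q - l) / a) ^ 2 =
        (-p * q + p * l * x + k * q * g) ^ 2 / (x * g * a) := by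
      field_simp; rw [ea]; ring
    rw [eI1, eI2, eI3] at e
    field_simp at e
    linear_combination (1 / 9 : ℚ) * e
  have wB : 8 / 9 * δ ^ 2 * (x * g * b) = -(-p * q + p * l * x + k * q * g) ^ 2 := by
    have eb : b = -x - g - 1 := by linarith
    have e : (k ^ 2 + p ^ 2 / g + (k + p) ^ 2 / b) * (l ^ 2 + q ^ 2 / x + (q + l) ^ 2 / b) -
        (k * l + (k + p) * (q + l) / b) ^ 2 =
        -(-p * q + p * l * x + k * q * g) ^ 2 / (x * g * b) := by
      field_simp; rw [eb]; ring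
    rw [eB1, eB2, eB3] at e
    field_simp at e
    have hd2 : δ ^ 2 = α * β := by rw [pow_two, hdet]
    linear_combination (1 / 9 : ℚ) * e + (4 / 3) * x * g * b * hd2
  have hb2 : b = 2 * a := by
    have : δ ^ 2 * x * g * (b - 2 * a) = 0 := by linear_combination (9 / 8 : ℚ) * (wB + wI)
    simpa [hδ, h0, h4, sub_eq_zero] using this
  have ea : a = -2 * x := by linarith
  have eg : g = 3 * x - 1 := by linarith
  have eb : b = -4 * x := by linarith
  subst ea eb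
  -- consequences
  have q0 : q ≠ 0 := by
    intro h; rw [h] at eF; exact hβ (by linarith)
  have kpq : x * k * l = (k + p) * q := by
    have e : k * l - (k + p) * (q - l) / (-2 * x) - 2 * (k * l + (k + p) * (q + l) / (-4 * x)) = 0 := by
      rw [eI3, eB3]; ring
    field_simp at e
    linear_combination (-1 / 8 : ℚ) * e
  obtain ⟨L, hL⟩ : ∃ t, t = l / q := ⟨_, rfl⟩
  have elq : l = L * q := by rw [hL]; field_simp
  have ekp : k + p = x * k * L := by
    apply mul_right_cancel₀ q0; rw [← kpq, elq]; ring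
  have k0 : k ≠ 0 := by
    intro h
    rw [h] at ekp
    have hp0 : p = 0 := by linarith
    rw [hp0] at eR; exact hα (by linarith)
  have ep : p = k * (x * L - 1) := by linarith
  have E1 : 2 * g + 2 * (x * L - 1) ^ 2 - x * L ^ 2 * g = 0 := by
    have h := eI1
    rw [ekp, ep] at h
    field_simp at h
    have h' : k ^ 2 * (2 * g + 2 * (x * L - 1) ^ 2 - x * L ^ 2 * g) = 0 := by linear_combination h
    simpa [k0] using h'
  have E2 : (x - 1) * L ^ 2 + 4 * L - 6 = 0 := by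
    have h : 3 * (l ^ 2 - q ^ 2 / x + (q - l) ^ 2 / (-2 * x)) -
        2 * (l ^ 2 + q ^ 2 / x + (q + l) ^ 2 / (-4 * x)) = 0 := by rw [eI2, eB2]; ring
    rw [elq] at h
    field_simp at h
    have h' : q ^ 2 * ((x - 1) * L ^ 2 + 4 * L - 6) = 0 := by linear_combination (1 / 8 : ℚ) * h
    simpa [q0] using h'
  have E3 : (x * L - 1) ^ 2 = D 3 * (x * L ^ 2 - 1) := by
    have h : p ^ 2 * (1 / D 3 - 1 / g) = (k + p) ^ 2 / (2 * x) := by
      rw [eR]
      have : (k + p) ^ 2 / (-4 * x) - (k + p) ^ 2 / (-2 * x) = 4 / 3 * α := by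
        linear_combination eB1 - eI1
      have e : (k + p) ^ 2 / (2 * x) = 2 * ((k + p) ^ 2 / (-4 * x) - (k + p) ^ 2 / (-2 * x)) := by
        field_simp; ring
      rw [e, this]; ring
    rw [ekp, ep] at h
    field_simp at h
    have : g * ((x * L - 1) ^ 2 - D 3 * (x * L ^ 2 - 1)) = 0 := by
      linear_combination (1 / 2 : ℚ) * h + (D 3 / 2) * E1
    simpa [h4, sub_eq_zero] using this
  have E4 : 2 * x = D 1 * (L ^ 2 - 6 * L + 7) := by
    have h : q ^ 2 * (1 / x + 1 / D 1) = l ^ 2 - q ^ 2 / x + (q - l) ^ 2 / (-2 * x) := by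
      rw [eF, eI2]
    rw [elq] at h
    field_simp at h
    linear_combination h + 2 * D 1 * E2
  have E5 : D 3 = 2 * x - 1 - D 1 := by linarith
  have L0 : L ≠ 0 := by
    intro h; rw [h] at E2; norm_num at E2
  have hu : x * L ^ 2 = L ^ 2 - 4 * L + 6 := by linarith
  have hu0 : 0 < L ^ 2 - 4 * L + 6 := by nlinarith [sq_nonneg (L - 2)]
  have hw : L ^ 2 - 6 * L + 7 ≠ 0 := by
    intro h; rw [h, mul_zero] at E4; exact h0 (by linarith)
  have main : (L - 1) * (L - 3) ^ 2 * (L ^ 2 - 4 * L + 6) = 0 := by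
    have hy : D 1 * (L ^ 2 - 6 * L + 7) * L ^ 2 = 2 * (L ^ 2 - 4 * L + 6) := by
      rw [← E4, mul_assoc, hu]
    have e3 : (x * L - 1) ^ 2 * L ^ 2 = (L ^ 2 - 5 * L + 6) ^ 2 := by
      rw [← mul_pow, sub_mul, one_mul, show x * L * L = x * L ^ 2 by ring, hu]
      ring
    rw [E3, E5, hu] at e3
    have : (L - 1) * (L - 3) ^ 2 * (L ^ 2 - 4 * L + 6) * 2 = 0 := by
      linear_combination -(L ^ 2 - 6 * L + 7) * e3 +
        2 * (L ^ 2 - 6 * L + 7) * (L ^ 2 - 4 * L + 5) * hu - (L ^ 2 - 4 * L + 5) * hy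
    linarith
  rcases mul_eq_zero.1 main with h | h
  · rcases mul_eq_zero.1 h with h | h
    · have hL1 : L = 1 := by linarith
      subst hL1
      have h3' : (d 0 : ℚ) = (3 : ℤ) := by rw [← hD 0, hx]; push_cast; linarith
      have : d 0 = 3 := by exact_mod_cast h3'
      rw [this]; rfl
    · have hL3 : L = 3 := by
        have := pow_eq_zero_iff (n := 2) (by norm_num) |>.1 h; linarith
      subst hL3
      have h3' : ((3 * d 0 : ℤ) : ℚ) = (1 : ℤ) := by push_cast; rw [← hD 0, hx]; linarith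
      have : 3 * d 0 = 1 := by exact_mod_cast h3'
      omega
  · exact absurd h hu0.ne'

end CfsgLib.AltNine
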