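import Cfsg.Agent.Lib.Recognition.AltNine.Perm6

/-!
# Coordinates on the alternating group of degree six
-/

set_option autoImplicit false
set_option maxRecDepth 10000

namespace CfsgLib.AltNine

open Equiv Subgroup

/-- `(0 1 2)` in `A₆`. -/
def aP0 : alternatingGroup (Fin 6) := ⟨p0, Perm.mem_alternatingGroup.2 (by decide +kernel)⟩
/-- `(3 4 5)` in `A₆`. -/
def aP1 : alternatingGroup (Fin 6) := ⟨p1, Perm.mem_alternatingGroup.2 (by decide +kernel)⟩
/-- `(0 3 1 4)(2 5)` in `A₆`. -/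
def aQ : alternatingGroup (Fin 6) := ⟨q0, Perm.mem_alternatingGroup.2 (by decide +kernel)⟩
/-- `(0 1 3)` in `A₆`. -/
def aW : alternatingGroup (Fin 6) := ⟨w0p, Perm.mem_alternatingGroup.2 (by decide +kernel)⟩

theorem aQ_conj : aQ * aP0 * aQ⁻¹ = aP1 := by decide +kernel

theorem conj_q_facts : ∀ z : Perm (Fin 6), z * z * (z * z) = 1 →
    p0 * (z * p0 * z⁻¹) = z * p0 * z⁻¹ * p0 → z * p0 * z⁻¹ ≠ p0 → z * p0 * z⁻¹ ≠ p0⁻¹ →
    z * (z * p0 * z⁻¹) * z⁻¹ = p0⁻¹ → Perm.sign z = 1 →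
    ∃ i j : Fin 3, ∃ c : Fin 2, p0 ^ i.val * p1 ^ j.val * swap 3 4 ^ c.val * z *
      (p0 ^ i.val * p1 ^ j.val * swap 3 4 ^ c.val)⁻¹ = q0 := by decide +kernel

theorem p0_comm : ∀ i j : Fin 3, ∀ c : Fin 2, p0 ^ i.val * p1 ^ j.val * swap 3 4 ^ c.val * p0 *
      (p0 ^ i.val * p1 ^ j.val * swap 3 4 ^ c.val)⁻¹ = p0 := by decide +kernel

theorem w_facts : ∀ v : Perm (Fin 6), v * v * v = 1 → q0 * v * (q0 * v) = 1 →
    q0 * p0 * p0 * q0 * v * (q0 * p0 * p0 * q0 * v) = 1 → v = w0p := by decide +kernel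

theorem w_rels : aW ^ 3 = 1 ∧ (aQ * aW) ^ 2 = 1 ∧ (aQ * aP0 * aP0 * aQ * aW) ^ 2 = 1 := by
  decide +kernel

theorem star_words : starA 4 0 = aP0 ∧ starA 4 1 = aW ∧ starA 4 2 = aW * aQ * aQ * aW ∧
    starA 4 3 = aW * aQ * aP0 * aQ * aW := by decide +kernel

/-- An exceptional automorphism on the generators. -/
def epsX : ℕ → Perm (Fin 6)
  | 0 => swap 0 2 * swap 2 1 * (swap 3 4 * swap 4 5)
  | 1 => swap 0 1 * swap 1 3 * (swap 2 5 * swap 5 4)
  | 2 => swap 0 5 * swap 5 2 * (swap 1 4 * swap 4 3)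
  | _ => swap 0 3 * swap 3 5 * (swap 1 2 * swap 2 4)

theorem epsX_facts : (∀ i : Fin 4, Perm.sign (epsX i) = 1 ∧ epsX i * epsX i * epsX i = 1) ∧
    (∀ i j : Fin 4, i ≠ j → epsX i * epsX j * (epsX i * epsX j) = 1) ∧
    epsX 0 * epsX 1 * epsX 2 * epsX 3 * epsX 1 * epsX 2 = p0 := by decide +kernel

theorem pp_word : starA 4 0 * starA 4 1 * starA 4 2 * starA 4 3 * starA 4 1 * starA 4 2 =
    aP0 * aP1 := by decide +kernel

/-- `A₆` is generated by `(0 1 2)`, `(0 3 1 4)(2 5)` and `(0 1 3)`. -/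
theorem closure_pqw : closure ({aP0, aQ, aW} : Set (alternatingGroup (Fin 6))) = ⊤ := by
  rw [eq_top_iff, ← star_top4, closure_le]
  rintro _ ⟨i, hi, rfl⟩
  obtain ⟨e0, e1, e2, e3⟩ := star_words
  set K := closure ({aP0, aQ, aW} : Set (alternatingGroup (Fin 6)))
  have h0 : aP0 ∈ K := subset_closure (by simp)
  have h1 : aQ ∈ K := subset_closure (by simp)
  have h2 : aW ∈ K := subset_closure (by simp)
  have hi' : i = 0 ∨ i = 1 ∨ i = 2 ∨ i = 3 := by
    simp only [Set.mem_setOf_eq] at hi; omega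
  rcases hi' with rfl | rfl | rfl | rfl
  · rw [e0]; exact h0
  · rw [e1]; exact h2
  · rw [e2]; exact mul_mem (mul_mem (mul_mem h2 h1) h1) h2
  · rw [e3]; exact mul_mem (mul_mem (mul_mem (mul_mem h2 h1) h0) h1) h2

/-- An injective endomorphism of `A₆` fixing `(0 1 2)` and `(0 3 1 4)(2 5)` is the identity. -/
theorem endo_eq_id (f : alternatingGroup (Fin 6) →* alternatingGroup (Fin 6))
    (h0 : f aP0 = aP0) (h1 : f aQ = aQ) : f = MonoidHom.id _ := by
  refine MonoidHom.eq_of_eqOn_dense closure_pqw ?_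
  rintro x hx
  simp only [Set.mem_insert_iff, Set.mem_singleton_iff] at hx
  rcases hx with rfl | rfl | rfl
  · exact h0
  · exact h1
  obtain ⟨r1, r2, r3⟩ := w_rels
  apply Subtype.ext
  show (f aW : Perm (Fin 6)) = w0p
  have a1 := congrArg Subtype.val ((map_pow f aW 3).symm.trans ((congrArg f r1).trans (map_one f)))
  have a2 := congrArg Subtype.val ((congrArg f r2).trans (map_one f))
  have a3 := congrArg Subtype.val ((congrArg f r3).trans (map_one f))
  simp only [map_pow, map_mul, h0, h1, SubgroupClass.coe_pow, Subgroup.coe_mul,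
    OneMemClass.coe_one] at a1 a2 a3
  exact w_facts _ (by rw [← a1, pow_succ, pow_two]) (by rw [← pow_two]; exact a2)
    (by rw [← pow_two]; exact a3)

/-- An element of order three of `A₆` is conjugate to `(0 1 2)` or `(0 1 2)(3 4 5)`. -/
theorem conj_cube {x : Perm (Fin 6)} (h3 : x ^ 3 = 1) (h1 : x ≠ 1) :
    ∃ σ : Perm (Fin 6), σ * x * σ⁻¹ = p0 ∨ σ * x * σ⁻¹ = p0 * p1 := by
  haveI : Fact (Nat.Prime 3) := ⟨Nat.prime_three⟩
  have hc := Perm.pow_prime_eq_one_iff.1 h3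
  have hrep : x.cycleType = Multiset.replicate (Multiset.card x.cycleType) 3 :=
    Multiset.eq_replicate.2 ⟨rfl, hc⟩
  have hsum := x.sum_cycleType_le
  rw [hrep, Multiset.sum_replicate, Fintype.card_fin, smul_eq_mul] at hsum
  have hne : Multiset.card x.cycleType ≠ 0 := fun e =>
    h1 (Perm.cycleType_eq_zero.1 (Multiset.card_eq_zero.1 e))
  have key : ∀ y : Perm (Fin 6), y.cycleType = x.cycleType → ∃ σ : Perm (Fin 6), σ * x * σ⁻¹ = y :=
    fun y hy => isConj_iff.1 (Perm.isConj_iff_cycleType_eq.2 hy.symm)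
  obtain h | h : Multiset.card x.cycleType = 1 ∨ Multiset.card x.cycleType = 2 := by omega
  · obtain ⟨σ, hσ⟩ := key p0 (by rw [hrep, h]; decide +kernel)
    exact ⟨σ, Or.inl hσ⟩
  · obtain ⟨σ, hσ⟩ := key (p0 * p1) (by rw [hrep, h]; decide +kernel)
    exact ⟨σ, Or.inr hσ⟩

theorem exists_eps : ∃ f : alternatingGroup (Fin 6) →* alternatingGroup (Fin 6),
    Function.Injective f ∧ f (aP0 * aP1) = aP0 := by
  obtain ⟨hs, hp, hw⟩ := epsX_facts
  let x : ℕ → alternatingGroup (Fin 6) := fun i =>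
    if h : i < 4 then ⟨epsX i, Perm.mem_alternatingGroup.2 (hs ⟨i, h⟩).1⟩ else 1
  have hx : ∀ i, i < 4 → (x i : Perm (Fin 6)) = epsX i := fun i hi => by simp [x, hi]
  have hR : StarRels x 4 := ⟨fun i hi => Subtype.ext (by
      rw [SubgroupClass.coe_pow, hx i hi, pow_succ, pow_two]; exact (hs ⟨i, hi⟩).2),
    fun i j hi hj hne => Subtype.ext (by
      rw [SubgroupClass.coe_pow, Subgroup.coe_mul, hx i hi, hx j hj, pow_two]
      exact hp ⟨i, hi⟩ ⟨j, hj⟩ fun e => hne (congrArg Fin.val e))⟩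
  obtain ⟨f, hf⟩ := exists_hom6 x hR
  have hfp : f (aP0 * aP1) = aP0 := by
    rw [← pp_word]
    simp only [map_mul, hf 0 (by norm_num), hf 1 (by norm_num), hf 2 (by norm_num),
      hf 3 (by norm_num)]
    refine Subtype.ext ?_
    simp only [Subgroup.coe_mul, hx 0 (by norm_num), hx 1 (by norm_num), hx 2 (by norm_num),
      hx 3 (by norm_num)]
    exact hw
  refine ⟨f, ?_, hfp⟩
  have : IsSimpleGroup (alternatingGroup (Fin 6)) := alternatingGroup.isSimpleGroup (by simp)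
  rcases f.normal_ker.eq_bot_or_eq_top with h | h
  · exact (MonoidHom.ker_eq_bot_iff f).1 h
  · exfalso
    have : f (aP0 * aP1) = 1 := MonoidHom.mem_ker.1 (h ▸ mem_top _)
    rw [hfp] at this
    exact absurd this (by decide +kernel)

/-- Elements of `A₆` with the relations of `(0 1 2)` and `(0 3 1 4)(2 5)` are their images
under an automorphism. -/
theorem exists_coord {x z : alternatingGroup (Fin 6)} (hx : x ^ 3 = 1) (hx1 : x ≠ 1)
    (hz : z ^ 4 = 1) (hc : x * (z * x * z⁻¹) = z * x * z⁻¹ * x) (hn : z * x * z⁻¹ ≠ x)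
    (hn' : z * x * z⁻¹ ≠ x⁻¹) (hzz : z * (z * x * z⁻¹) * z⁻¹ = x⁻¹) :
    ∃ f : alternatingGroup (Fin 6) →* alternatingGroup (Fin 6),
      Function.Injective f ∧ f x = aP0 ∧ f z = aQ := by
  obtain ⟨σ, hσ⟩ := conj_cube (x := (x : Perm (Fin 6)))
    (by rw [← SubgroupClass.coe_pow, hx]; rfl) fun e => hx1 (Subtype.ext e)
  obtain ⟨g, hg, hgx⟩ : ∃ g : alternatingGroup (Fin 6) →* alternatingGroup (Fin 6),
      Function.Injective g ∧ g x = aP0 := by
    rcases hσ with h | h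
    · exact ⟨(MulAut.conjNormal σ).toMonoidHom, (MulAut.conjNormal σ).injective,
        Subtype.ext (by simpa [aP0] using h)⟩
    · obtain ⟨f, hf, hfp⟩ := exists_eps
      refine ⟨f.comp (MulAut.conjNormal σ).toMonoidHom, hf.comp (MulAut.conjNormal σ).injective, ?_⟩
      show f (MulAut.conjNormal σ x) = aP0
      rw [show MulAut.conjNormal σ x = aP0 * aP1 from Subtype.ext (by simpa [aP0, aP1] using h),
        hfp]
  set z' := g z with hz'
  have e : g (z * x * z⁻¹) = z' * aP0 * z'⁻¹ := by rw [map_mul, map_mul, map_inv, hgx]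
  have c1 : (z' : Perm (Fin 6)) * z' * (z' * z') = 1 := by
    have := congrArg Subtype.val ((congrArg g hz).trans (map_one g))
    rw [map_pow, SubgroupClass.coe_pow, OneMemClass.coe_one, pow_succ, pow_succ, pow_two,
      mul_assoc ((z' : Perm (Fin 6)) * z')] at this
    exact this
  have c2 := congrArg Subtype.val (congrArg g hc)
  rw [map_mul, map_mul g _ x, e, hgx] at c2
  have c3 : z' * aP0 * z'⁻¹ ≠ aP0 := fun h => hn (hg (by rw [e, h, hgx]))
  have c4 : z' * aP0 * z'⁻¹ ≠ aP0⁻¹ := fun h => hn' (hg (by rw [e, h, map_inv, hgx]))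
  have c5 := congrArg Subtype.val (congrArg g hzz)
  rw [map_mul, map_mul, map_inv, e, map_inv, hgx] at c5
  obtain ⟨i, j, c, h⟩ := conj_q_facts _ c1 c2 (fun h => c3 (Subtype.ext h))
    (fun h => c4 (Subtype.ext h)) c5 (Perm.mem_alternatingGroup.1 z'.2)
  set τ : Perm (Fin 6) := p0 ^ i.val * p1 ^ j.val * swap 3 4 ^ c.val with hτ
  refine ⟨(MulAut.conjNormal τ).toMonoidHom.comp g, (MulAut.conjNormal τ).injective.comp hg, ?_, ?_⟩
  · show MulAut.conjNormal τ (g x) = aP0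
    rw [hgx]
    exact Subtype.ext ((MulAut.conjNormal_apply _ _).trans (p0_comm i j c))
  · show MulAut.conjNormal τ (g z) = aQ
    exact Subtype.ext ((MulAut.conjNormal_apply _ _).trans h)

end CfsgLib.AltNine
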