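import Cfsg.Agent.Lib.Recognition.AltNine.EndSigma
import Cfsg.Agent.Lib.StrongEmbedding.Swap

/-!
# The embedded `A₉` is the whole group

It contains the centralizers of its involutions and meets two classes of involutions.
-/

set_option autoImplicit false
set_option linter.style.haveILetI false
set_option linter.unusedSectionVars false

namespace CfsgLib.AltNine

open Subgroup Equiv End

universe u

namespace Frame9

variable {G : Type u} [Group G] {S : Setup G} (F : Frame9 S)

/-- An involution of the image is conjugate inside it to `u` or to `σ`. -/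
theorem invol_image {x : G} (hx : x ∈ F.f.range) (h2 : orderOf x = 2) :
    ∃ k ∈ F.f.range, k * F.f u9 * k⁻¹ = x ∨ k * F.f σ9 * k⁻¹ = x := by
  obtain ⟨y, rfl⟩ := hx
  rw [orderOf_injective F.f F.injective] at h2
  obtain ⟨k, hk⟩ := invol_cases y (by rw [← pow_two, ← h2, pow_orderOf_eq_one])
    (fun e => by rw [e, orderOf_one] at h2; omega)
  refine ⟨F.f k, ⟨k, rfl⟩, hk.imp ?_ ?_⟩ <;> rintro rfl <;> simp

variable [Finite G]

theorem centralizer_invol_le {x : G} (hx : x ∈ F.f.range) (h2 : orderOf x = 2) {g : G}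
    (hg : g * x = x * g) : g ∈ F.f.range := by
  obtain ⟨k, hk, e⟩ := F.invol_image hx h2
  have key : ∀ p, k * p * k⁻¹ = x → centralizer ({p} : Set G) ≤ F.f.range → g ∈ F.f.range := by
    intro p e hp
    have hc : k⁻¹ * g * k * p = p * (k⁻¹ * g * k) := by
      calc k⁻¹ * g * k * p = k⁻¹ * (g * (k * p * k⁻¹)) * k := by group
        _ = k⁻¹ * (k * p * k⁻¹ * g) * k := by rw [e, hg]
        _ = _ := by group
    rw [show g = k * (k⁻¹ * g * k) * k⁻¹ by group]
    exact mul_mem (mul_mem hk (hp (mem_centralizer_singleton_iff.2 hc))) (inv_mem hk)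
  rcases e with e | e
  · exact key _ e F.centralizer_u_le
  · exact key _ e F.centralizer_sigma_le

/-- Involutions of the image conjugate in the group are conjugate in the image. -/
theorem isConj_image {i j : G} (hi : i ∈ F.f.range) (hi2 : orderOf i = 2) (hj : j ∈ F.f.range)
    (hj2 : orderOf j = 2) (h : IsConj j i) : ∃ k ∈ F.f.range, k * j * k⁻¹ = i := by
  obtain ⟨k, hk, e⟩ := F.invol_image hi hi2
  obtain ⟨l, hl, e'⟩ := F.invol_image hj hj2
  have key : ∀ p, k * p * k⁻¹ = i → l * p * l⁻¹ = j → ∃ k ∈ F.f.range, k * j * k⁻¹ = i :=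
    fun p e e' => ⟨k * l⁻¹, mul_mem hk (inv_mem hl), by rw [← e, ← e']; group⟩
  rcases e with e | e <;> rcases e' with e' | e'
  · exact key _ e e'
  · exact absurd ((isConj_iff.2 ⟨k, e⟩).trans (h.symm.trans (isConj_iff.2 ⟨l, e'⟩).symm)) F.not_isConj
  · exact absurd ((isConj_iff.2 ⟨l, e'⟩).trans (h.trans (isConj_iff.2 ⟨k, e⟩).symm)) F.not_isConj
  · exact key _ e e'

/-- The embedding is onto. -/
theorem range_eq_top : F.f.range = ⊤ := by
  haveI : Fact (Nat.Prime 2) := ⟨Nat.prime_two⟩
  by_contra hne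
  have hse : Cfsg.IsStronglyEmbedded F.f.range := by
    refine ⟨hne, ?_, fun g hg => ?_⟩
    · exact even_iff_two_dvd.2 (F.orderOf_u ▸ F.f.range.orderOf_dvd_natCard ⟨u9, rfl⟩)
    · rw [← Nat.not_even_iff_odd, even_iff_two_dvd]
      intro h2
      obtain ⟨i, hi⟩ := exists_prime_orderOf_dvd_card'
        (G := (F.f.range ⊓ F.f.range.map (MulAut.conj g).toMonoidHom : Subgroup G)) 2 h2
      obtain ⟨i, hiK, j, hj, hij⟩ := i
      rw [← Subgroup.orderOf_coe] at hi
      change orderOf i = 2 at hi
      change g * j * g⁻¹ = i at hij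
      have hj2 : orderOf j = 2 := by
        rw [← hi, ← hij, ← MulAut.conj_apply, MulEquiv.orderOf_eq]
      obtain ⟨k, hk, e⟩ := F.isConj_image hiK hi hj hj2 (isConj_iff.2 ⟨g, hij⟩)
      have hc : k⁻¹ * g * j = j * (k⁻¹ * g) := by
        calc k⁻¹ * g * j = k⁻¹ * (g * j * g⁻¹) * g := by group
          _ = j * (k⁻¹ * g) := by rw [hij, ← e]; group
      have := mul_mem hk (F.centralizer_invol_le hj hj2 hc)
      rw [mul_inv_cancel_left] at this
      exact hg this
  exact F.not_isConj
    (CfsgLib.StrongEmbedding.isConj_involutions hse F.orderOf_u F.orderOf_sigma)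

include F in
/-- A group with such a frame is the alternating group of degree nine. -/
theorem nonempty_mulEquiv : Nonempty (G ≃* alternatingGroup (Fin 9)) :=
  ⟨(MulEquiv.ofBijective F.f ⟨F.injective, MonoidHom.range_eq_top.1 F.range_eq_top⟩).symm⟩

end Frame9

end CfsgLib.AltNine
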