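import Cfsg.Agent.Lib.Recognition.AltNine.Emb
import Cfsg.Agent.Lib.Recognition.AltNine.CaseLargeEnd

/-!
# The case `C(a) = 3 × A₆`: the group is `A₉`
-/

set_option autoImplicit false

namespace CfsgLib.AltNine

open Subgroup

universe u

theorem Setup.case_large {G : Type u} [Group G] [Finite G] (S : Setup G)
    (hB : Subgroup.centralizer ({S.b} : Set G) ≤ S.H) (L : Subgroup G)
    (hLC : L ≤ Subgroup.centralizer ({S.a} : Set G)) (haL : S.a ∉ L)
    (hsup : Subgroup.zpowers S.a ⊔ L = Subgroup.centralizer ({S.a} : Set G))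
    (hL : Nonempty (L ≃* alternatingGroup (Fin 6))) : Nonempty (G ≃* alternatingGroup (Fin 9)) :=
  let ⟨F⟩ := S.exists_frame9 hB L hLC haL hsup hL
  F.nonempty_mulEquiv

end CfsgLib.AltNine
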