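import Cfsg.Agent.Lib.Recognition.AltNine.Exceptional
import Cfsg.Agent.Lib.Chars17.IrrBasic
import Cfsg.Agent.Lib.Coprime.HyperplaneGeneration
import Cfsg.Agent.Lib.Characters.Scalar
import Cfsg.Agent.Lib.Characters.Ito
import Cfsg.Agent.Lib.Characters.Values
import Mathlib.GroupTheory.Transfer

/-!
# All centralizers of `J` in `H`: then `H` is the whole group
-/

set_option autoImplicit false
set_option linter.style.haveILetI false
set_option linter.unusedSectionVars false

namespace CfsgLib.AltNine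

open Cfsg CfsgLib.ThreeCubed CfsgLib.ThreeCubedWreath CfsgLib.Characters
open scoped ComplexConjugate

theorem model_facts :
    (el4.any fun x => decide (jrep 1 = jrep 0 * (x * jrep 0 * x⁻¹))) = true ∧
    (el4.any fun x => decide (jrep 0 * jrep 0 = jrep 2 * (x * jrep 2 * x⁻¹))) = true ∧
    (el4.all fun x => decide (isJ x) || el4.any fun y => decide (¬ isJ (y * x * y⁻¹ * x⁻¹))) = true ∧
    w0 * jrep 2 = jrep 2 * w0 ∧ jrep 0 * jrep 2 = jrep 2 * jrep 0 ∧
    w0 * jrep 0 ≠ jrep 0 * w0 := by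
  decide +kernel

attribute [local irreducible] el4 M4set

universe u

namespace Setup

variable {G : Type u} [Group G] [Finite G] (S : Setup G)

theorem normal_coprime_eq_bot (hC : ∀ j ∈ S.J, j ≠ 1 → Subgroup.centralizer ({j} : Set G) ≤ S.H)
    (N : Subgroup G) [N.Normal] (h3 : (Nat.card N).Coprime 3) : N = ⊥ := by
  haveI : Fact (Nat.Prime 3) := ⟨Nat.prime_three⟩
  have hel : Cfsg.IsElementaryAbelian 3 S.J :=
    ⟨⟨⟨fun a b => Subtype.ext (S.J_comm a.2 b.2)⟩⟩,
      fun a ha => by simpa [pow_three, mul_assoc] using S.J_cube ha⟩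
  have hJ1 : S.J ≠ ⊥ := fun h => by
    have := S.card_J
    rw [h, Subgroup.card_bot] at this
    omega
  have hgen := Coprime39.eq_hyperCent (p := 3) (X := N) hel hJ1 h3
    (by rw [Subgroup.normalizer_eq_top_iff.2 ‹N.Normal›]; exact le_top)
  rw [eq_bot_iff, ← hgen]
  refine iSup_le fun B => ?_
  obtain ⟨B, hBJ, hB⟩ := B
  intro n hn
  obtain ⟨hnN, hnB⟩ := Subgroup.mem_inf.1 hn
  have hcard : Nat.card B ≠ 1 := by
    intro h1
    rw [Subgroup.eq_bot_of_card_eq B h1, Subgroup.relIndex_bot_left, S.card_J] at hB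
    omega
  obtain ⟨j, hj, hj1⟩ : ∃ j ∈ B, j ≠ 1 := by
    by_contra h
    push Not at h
    exact hcard (by rw [(Subgroup.eq_bot_iff_forall B).2 h, Subgroup.card_bot])
  have hnC : n ∈ Subgroup.centralizer ({j} : Set G) :=
    Subgroup.mem_centralizer_singleton_iff.2 (Subgroup.mem_centralizer_iff.1 hnB j hj).symm
  have hcore := S.cores j (S.le_H (hBJ hj)) (orderOf_eq_prime
    (by simpa [pow_three, mul_assoc] using S.J_cube (hBJ hj)) hj1)
  have hle : N.subgroupOf (Subgroup.centralizer ({j} : Set G)) ≤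
      Cfsg.pPrimeCore 3 (Subgroup.centralizer ({j} : Set G)) :=
    CfsgLib.PCore.le_pPrimeCore inferInstance
      (h3.coprime_dvd_left (Subgroup.card_comap_dvd_of_injective N
        (Subgroup.centralizer ({j} : Set G)).subtype (Subgroup.subtype_injective _)))
  rw [hcore] at hle
  exact Subgroup.mem_bot.2
    (congrArg Subtype.val (Subgroup.mem_bot.1 (hle (x := ⟨n, hnC⟩) hnN)))

theorem centralizer_card_c (hC : ∀ j ∈ S.J, j ≠ 1 → Subgroup.centralizer ({j} : Set G) ≤ S.H) :
    Nat.card (Subgroup.centralizer ({S.c} : Set G)) = 81 := by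
  rw [card_centralizer_jrep S.e S.hJ hC (by rw [wim_el S.e (jrep_sign 2)]; exact (jrep_mem 2).1)
    (fun h => S.jrep_ne_one 2 (congrArg Subtype.val h)), wim_el S.e (jrep_sign 2), jrep_centralizer]
  rfl

theorem c_mem_center_or (hC : ∀ j ∈ S.J, j ≠ 1 → Subgroup.centralizer ({j} : Set G) ≤ S.H)
    (χ : IrrCharacter G) (h3 : (χ : G → ℂ) 1 = 3) (hker : CfsgLib.Chars17.irrKer χ = ⊥) :
    ∀ g : G, g * S.c = S.c * g := by
  classical
  letI : Fintype G := Fintype.ofFinite G
  set X := Subgroup.centralizer ({S.c} : Set G)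
  letI : Fintype X := Fintype.ofFinite X
  obtain ⟨n, ρ, hρ, hχ⟩ := χ.2
  have hn : n = 3 := by
    have : (χ : G → ℂ) 1 = n := by rw [← hχ]; simp
    rw [h3] at this
    exact_mod_cast this.symm
  have hres : IsCharacter X (fun x => (χ : G → ℂ) x) :=
    CfsgLib.CharGalois.isCharacter_comp (isCharacter_of_irr χ.2) X.subtype
  have hcf := Induction.isClassFunction_of_isCharacter hres
  have hcoef : ∀ ψ : IrrCharacter X,
      ∃ k : ℕ, classInner (fun x : X => (χ : G → ℂ) x) (ψ : X → ℂ) = k :=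
    fun ψ => classInner_char_nat hres (irr_isCharacter ψ)
  choose k hk using hcoef
  have hsum : ∀ x : X, (χ : G → ℂ) x = ∑ ψ, (k ψ : ℂ) * (ψ : X → ℂ) x := by
    intro x
    show (fun x : X => (χ : G → ℂ) x) x = _
    rw [classFunction_eq_sum hcf]
    simp [hk]
  choose dg hdg0 hdg using fun ψ : IrrCharacter X => irr_exists_degree ψ.2
  have hdeg : ∑ ψ, k ψ * dg ψ = 3 := by
    have := hsum 1
    rw [OneMemClass.coe_one, h3] at this
    simp only [hdg] at this
    exact_mod_cast this.symm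
  -- two elements of `X` which do not commute
  obtain ⟨hw, ha, hne⟩ := model_facts.2.2.2
  have mw : sg w0.left * sgn w0.right = 1 := base_mem _ (by simp)
  have memX : ∀ x, sg x.left * sgn x.right = 1 → x * jrep 2 = jrep 2 * x → ge S.e x ∈ X :=
    fun x hx hxc => Subgroup.mem_centralizer_singleton_iff.2 (congrArg Subtype.val
      (wim_inj S.e (a := el S.e x * el S.e (jrep 2)) (b := el S.e (jrep 2) * el S.e x)
        (by rw [wim_mul, wim_mul, wim_el S.e hx, wim_el S.e (jrep_sign 2), hxc])))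
  let u : X := ⟨ge S.e w0, memX _ mw hw⟩
  let v : X := ⟨ge S.e (jrep 0), memX _ (jrep_sign 0) ha⟩
  have huv : u * v ≠ v * u := fun h => hne (by
    have h' : el S.e w0 * el S.e (jrep 0) = el S.e (jrep 0) * el S.e w0 :=
      Subtype.ext (congrArg (fun z : X => (z : G)) h)
    have := congrArg (wim S.e) h'
    rwa [wim_mul, wim_mul, wim_el S.e mw, wim_el S.e (jrep_sign 0)] at this)
  obtain ⟨ψ, hkψ, hdψ⟩ : ∃ ψ, k ψ ≠ 0 ∧ dg ψ ≠ 1 := by
    by_contra h
    push Not at h
    apply huv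
    have hone : ∀ ψ : IrrCharacter X, k ψ ≠ 0 →
        (ψ : X → ℂ) (u * v * (v * u)⁻¹) = (ψ : X → ℂ) 1 := by
      intro ψ hψ
      have h1 : (ψ : X → ℂ) 1 = 1 := by rw [hdg, h ψ hψ, Nat.cast_one]
      have hm := fun a b => CfsgLib.CharIto.map_mul_of_degree_one (irr_isCharacter ψ) h1 a b
      have hi : (ψ : X → ℂ) (v * u) * (ψ : X → ℂ) (v * u)⁻¹ = 1 := by
        rw [← hm, mul_inv_cancel, h1]
      rw [h1, hm, hm u v, mul_comm ((ψ : X → ℂ) u), ← hm v u, hi]
    have hker' : ((u * v * (v * u)⁻¹ : X) : G) ∈ CfsgLib.Chars17.irrKer χ := by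
      rw [CfsgLib.Chars17.mem_irrKer, hsum, h3]
      have := hsum 1
      rw [OneMemClass.coe_one, h3] at this
      rw [this]
      refine Finset.sum_congr rfl fun ψ _ => ?_
      by_cases hψ : k ψ = 0
      · simp [hψ]
      · rw [hone ψ hψ]
    rw [hker, Subgroup.mem_bot] at hker'
    exact mul_inv_eq_one.1 (Subtype.ext hker')
  have hdvd : dg ψ ∣ 81 := by
    have := irr_degree_dvd_card ψ
    obtain ⟨d, hd, hd0, hd'⟩ := this
    rw [S.centralizer_card_c hC] at hd'
    have : dg ψ = d := by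
      have := (hdg ψ).symm.trans hd
      exact_mod_cast this
    rwa [this]
  have hle : k ψ * dg ψ ≤ 3 := hdeg ▸ Finset.single_le_sum
    (f := fun ψ => k ψ * dg ψ) (fun _ _ => Nat.zero_le _) (Finset.mem_univ ψ)
  have hk1 : 1 ≤ k ψ := Nat.one_le_iff_ne_zero.2 hkψ
  have hd3 : dg ψ = 3 ∧ k ψ = 1 := by
    have h0 := hdg0 ψ
    have : dg ψ ≤ 3 := le_trans (Nat.le_mul_of_pos_left _ hk1) hle
    interval_cases hdv : dg ψ <;> omega
  have heq : ∀ x : X, (χ : G → ℂ) x = (ψ : X → ℂ) x := by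
    intro x
    rw [hsum, Finset.sum_eq_single ψ]
    · rw [hd3.2, Nat.cast_one, one_mul]
    · intro φ _ hφ
      have h2 : k φ * dg φ + k ψ * dg ψ ≤ 3 := by
        rw [← hdeg, ← Finset.sum_pair (f := fun ψ => k ψ * dg ψ) hφ]
        exact Finset.sum_le_sum_of_subset (Finset.subset_univ _)
      rw [hd3.1, hd3.2] at h2
      have : k φ = 0 := by
        rcases Nat.eq_zero_or_pos (k φ) with h | h
        · exact h
        · have := Nat.mul_pos h (hdg0 φ); omega
      simp [this]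
    · simp
  obtain ⟨m, σ, hσ, hψσ⟩ := ψ.2
  haveI := hσ
  have hm : m = 3 := by
    have := hdg ψ
    rw [hd3.1, ← hψσ] at this
    exact_mod_cast (by simpa using this : (m : ℂ) = 3)
  have hcX : S.c ∈ X := Subgroup.mem_centralizer_singleton_iff.2 rfl
  have hcen : (⟨S.c, hcX⟩ : X) ∈ Subgroup.center X :=
    Subgroup.mem_center_iff.2 fun x => Subtype.ext (Subgroup.mem_centralizer_singleton_iff.1 x.2)
  obtain ⟨w, hw'⟩ := CfsgLib.CharScalar.center_scalar σ hcen
  have hnorm : ‖σ.character ⟨S.c, hcX⟩‖ = (Module.finrank ℂ (Fin m → ℂ) : ℝ) :=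
    (norm_char_eq_iff_scalar σ _).2 ⟨w, hw'⟩
  rw [hψσ, ← heq ⟨S.c, hcX⟩, Module.finrank_fin_fun, hm] at hnorm
  obtain ⟨ω, hω⟩ := (norm_char_eq_iff_scalar ρ S.c).1 (by
    rw [hχ, Module.finrank_fin_fun, hn]; exact hnorm)
  intro g
  have hρc : ρ (g * S.c * (S.c * g)⁻¹) = 1 := by
    have hcomm : ρ g * ρ S.c = ρ S.c * ρ g := by
      rw [hω]; ext x; simp
    rw [map_mul, map_mul, hcomm, ← map_mul, ← map_mul, mul_inv_cancel, map_one]
  have hmem : g * S.c * (S.c * g)⁻¹ ∈ CfsgLib.Chars17.irrKer χ := by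
    rw [CfsgLib.Chars17.mem_irrKer, ← hχ, CfsgLib.Chars17.character_eq_one_iff]
    exact hρc
  rw [hker, Subgroup.mem_bot, mul_inv_eq_one] at hmem
  exact hmem

theorem case_small (hA : Subgroup.centralizer ({S.a} : Set G) ≤ S.H)
    (hB : Subgroup.centralizer ({S.b} : Set G) ≤ S.H) : S.H = ⊤ := by
  classical
  haveI : Fact (Nat.Prime 3) := ⟨Nat.prime_three⟩
  letI : Fintype G := Fintype.ofFinite G
  have hC := S.centralizer_le_of_cases hA hB
  obtain ⟨χ, hχ⟩ := S.exists_degree_three hA hB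
  set K := CfsgLib.Chars17.irrKer χ with hK
  by_cases hK1 : K = ⊥
  · rw [eq_top_iff]
    intro g _
    exact S.centralizer_c_le
      (Subgroup.mem_centralizer_singleton_iff.2 (S.c_mem_center_or hC χ hχ hK1 g))
  have h3K : 3 ∣ Nat.card K := by
    by_contra h
    exact hK1 (S.normal_coprime_eq_bot hC K
      ((Nat.prime_three.coprime_iff_not_dvd.2 h).symm))
  obtain ⟨P, hPH, hJP⟩ := S.exists_sylow
  -- the centre of `P` meets `K` in a conjugate of `c`
  have hKP : K.subgroupOf (P : Subgroup G) ≠ ⊥ := by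
    intro h
    obtain ⟨x, hx⟩ := exists_prime_orderOf_dvd_card' (G := K) 3 h3K
    have hp : IsPGroup 3 (Subgroup.zpowers (x : G)) := IsPGroup.of_card (n := 1) (by
      rw [Nat.card_zpowers, Subgroup.orderOf_coe, hx, pow_one])
    obtain ⟨P', hP'⟩ := hp.exists_le_sylow
    obtain ⟨g, hg⟩ := MulAction.exists_smul_eq G P' P
    have hmem : g * x * g⁻¹ ∈ (P : Subgroup G) := by
      rw [← hg, Sylow.coe_subgroup_smul]
      exact ⟨x, hP' (Subgroup.mem_zpowers _), rfl⟩
    have := Subgroup.mem_subgroupOf.2 (show ((⟨_, hmem⟩ : (P : Subgroup G)) : G) ∈ K from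
      (inferInstance : K.Normal).conj_mem _ x.2 g)
    rw [h, Subgroup.mem_bot] at this
    have h1 : (x : G) = 1 := conj_eq_one_iff.1 (congrArg Subtype.val this)
    rw [← Subgroup.orderOf_coe, h1, orderOf_one] at hx
    omega
  haveI : Group.IsNilpotent (P : Subgroup G) := P.isPGroup'.isNilpotent
  obtain ⟨z, hzK, hzc, hz1⟩ := Coprime39.exists_central_mem _ hKP
  obtain ⟨i, hi⟩ := P.isPGroup' z
  obtain ⟨y, hyK, hyc, hy1, hy3⟩ : ∃ y : (P : Subgroup G), (y : G) ∈ K ∧
      y ∈ Subgroup.center (P : Subgroup G) ∧ y ≠ 1 ∧ y ^ 3 = 1 := by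
    obtain ⟨y, hy⟩ := exists_prime_orderOf_dvd_card' (G := Subgroup.zpowers z) 3 (by
      rw [Nat.card_zpowers]
      obtain ⟨m, -, hm⟩ := (Nat.dvd_prime_pow Nat.prime_three).1 (orderOf_dvd_of_pow_eq_one hi)
      rcases m with _ | m
      · rw [pow_zero, orderOf_eq_one_iff] at hm; exact absurd hm hz1
      · rw [hm]; exact dvd_pow_self 3 (Nat.succ_ne_zero m))
    refine ⟨y.1, (Subgroup.zpowers_le.2 hzK) y.2, (Subgroup.zpowers_le.2 hzc) y.2, fun h => ?_, ?_⟩
    · rw [← Subgroup.orderOf_coe, h, orderOf_one] at hy; omega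
    · have h := congrArg Subtype.val (pow_orderOf_eq_one y)
      simp only [hy, SubmonoidClass.coe_pow, OneMemClass.coe_one] at h
      exact h
  have hyJ : (y : G) ∈ S.J := by
    have hyH : (y : G) ∈ S.H := hPH y.2
    have hcj : ∀ j ∈ S.J, (y : G) * j = j * (y : G) := fun j hj =>
      congrArg Subtype.val (Subgroup.mem_center_iff.1 hyc ⟨j, hJP hj⟩).symm
    have hA' : Subgroup.closure ((S.J : Set G) ∪ {(y : G)}) = S.J := by
      have hcomm : ∀ p ∈ ((S.J : Set G) ∪ {(y : G)}), ∀ q ∈ ((S.J : Set G) ∪ {(y : G)}),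
          p * q = q * p := by
        rintro p (hp | rfl) q (hq | rfl)
        · exact S.J_comm hp hq
        · exact (hcj p hp).symm
        · exact hcj q hq
        · rfl
      haveI hmc := Subgroup.isMulCommutative_closure (k := ((S.J : Set G) ∪ {(y : G)})) hcomm
      refine S.mem_J_of_comm _ ((Subgroup.closure_le _).2 ?_) ?_ ?_ ?_
      · rintro p (hp | rfl)
        · exact S.le_H hp
        · exact hyH
      · intro p hp q hq
        exact congrArg Subtype.val (mul_comm' (⟨p, hp⟩ : Subgroup.closure _) ⟨q, hq⟩)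
      · intro p hp
        induction hp using Subgroup.closure_induction with
        | mem x hx =>
          rcases hx with hx | rfl
          · exact S.J_cube hx
          · simpa [pow_three, mul_assoc] using congrArg Subtype.val hy3
        | one => simp
        | mul a b ha hb iha ihb =>
          have hab : Commute a b :=
            congrArg Subtype.val (mul_comm' (⟨a, ha⟩ : Subgroup.closure _) ⟨b, hb⟩)
          have := hab.mul_pow 3
          simp only [pow_three, ← mul_assoc] at this ⊢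
          rw [this, iha]
          simpa [mul_assoc] using ihb
        | inv a ha iha =>
          rw [← mul_inv_rev, ← mul_inv_rev, ← mul_assoc, iha, inv_one]
      · rw [← S.card_J]
        exact Subgroup.card_le_of_le fun p hp => Subgroup.subset_closure (Or.inl hp)
    exact hA'.le (Subgroup.subset_closure (Or.inr rfl))
  obtain ⟨p, ⟨d, hd⟩, hp⟩ := jclass S.e S.hJ hC hyJ (fun h => hy1 (Subtype.ext h))
  have h81 : 81 ∣ Nat.card (Subgroup.centralizer ({(y : G)} : Set G)) := by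
    have hPc : (P : Subgroup G) ≤ Subgroup.centralizer ({(y : G)} : Set G) := fun g hg =>
      Subgroup.mem_centralizer_singleton_iff.2
        (congrArg Subtype.val (Subgroup.mem_center_iff.1 hyc ⟨g, hg⟩))
    refine dvd_trans ?_ (Subgroup.card_dvd_of_le hPc)
    rw [P.card_eq_multiplicity]
    show 3 ^ 4 ∣ 3 ^ _
    refine pow_dvd_pow 3 ?_
    have h648 : 3 ^ 4 ∣ Nat.card G := by
      refine dvd_trans ?_ (S.card_H ▸ S.H.card_subgroup_dvd_card)
      norm_num
    exact (Nat.prime_three.pow_dvd_iff_le_factorization Nat.card_pos.ne').1 h648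
  rw [hp] at h81
  have hp2 : p = 2 := by
    fin_cases p
    · exact absurd h81 (by norm_num)
    · exact absurd h81 (by norm_num)
    · rfl
  subst hp2
  have hcK : S.c ∈ K := by
    have := (inferInstance : K.Normal).conj_mem _ hyK (d : G)⁻¹
    rw [← hd] at this
    simpa [Setup.c, mul_assoc] using this
  -- `J ≤ K`
  obtain ⟨e1, e2, e3, -⟩ := model_facts
  simp only [List.any_eq_true, decide_eq_true_eq] at e1 e2
  have move : ∀ (p q r x : W), p ∈ el4 → q ∈ el4 → x ∈ el4 → r = p * (x * q * x⁻¹) →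
      ge S.e p ∈ K → ge S.e q ∈ K → ge S.e r ∈ K := by
    intro p q r x hp hq hx hr hpK hqK
    have hr4 : r ∈ el4 := mem_el4.2 (hr ▸ mul_mem (mem_el4.1 hp)
      (mul_mem (mul_mem (mem_el4.1 hx) (mem_el4.1 hq)) (inv_mem (mem_el4.1 hx))))
    have he : el S.e r = el S.e p * (el S.e x * el S.e q * (el S.e x)⁻¹) := wim_inj S.e (by
      rw [wim_mul, wim_mul, wim_mul, wim_inv, wim_el S.e (mem_M4_iff.1 (mem_el4.1 hr4)),
        wim_el S.e (mem_M4_iff.1 (mem_el4.1 hp)), wim_el S.e (mem_M4_iff.1 (mem_el4.1 hq)),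
        wim_el S.e (mem_M4_iff.1 (mem_el4.1 hx)), hr])
    show ((el S.e r : S.H) : G) ∈ K
    rw [he]
    exact mul_mem hpK ((inferInstance : K.Normal).conj_mem _ hqK _)
  have mJ : ∀ p, jrep p ∈ el4 := fun p => mem_el4.2 (isJ_iff.1 (jrep_mem p).1).1
  obtain ⟨x2, hx2, e2⟩ := e2
  have haa := move (jrep 2) (jrep 2) (jrep 0 * jrep 0) x2 (mJ 2) (mJ 2) hx2 e2 hcK hcK
  have haK : S.a ∈ K := by
    have h : ge S.e (jrep 0 * jrep 0) = S.a * S.a := congrArg Subtype.val (wim_inj S.e
      (a := el S.e (jrep 0 * jrep 0)) (b := el S.e (jrep 0) * el S.e (jrep 0)) (by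
        rw [wim_mul, wim_el S.e (jrep_sign 0), wim_el S.e (mem_M4_iff.1 (mul_mem
          (mem_el4.1 (mJ 0)) (mem_el4.1 (mJ 0))))]))
    rw [h] at haa
    have := mul_mem haa haa
    rwa [show S.a * S.a * (S.a * S.a) = S.a * S.a * S.a * S.a by group,
      S.J_cube (S.jrep_memJ 0), one_mul] at this
  obtain ⟨x1, hx1, e1⟩ := e1
  have hbK : S.b ∈ K := move (jrep 0) (jrep 0) (jrep 1) x1 (mJ 0) (mJ 0) hx1 e1 haK haK
  have hJK : S.J ≤ K := by
    intro j hj
    by_cases hj1 : j = 1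
    · exact hj1 ▸ one_mem K
    obtain ⟨q, ⟨f, hf⟩, -⟩ := jclass S.e S.hJ hC hj hj1
    rw [← hf]
    refine (inferInstance : K.Normal).conj_mem _ ?_ _
    fin_cases q <;> assumption
  -- Frattini
  have hFr : ∀ g : G, ∃ k ∈ K, k * g ∈ S.H := by
    intro g
    have h2 : S.J.map (MulAut.conj g).toMonoidHom ≤ K := by
      rintro _ ⟨x, hx, rfl⟩
      exact (inferInstance : K.Normal).conj_mem _ (hJK hx) g
    obtain ⟨P1, hP1⟩ := (S.isPGroup_J.comap_subtype (K := K)).exists_le_sylow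
    obtain ⟨P2, hP2⟩ := (((S.isPGroup_J.map (MulAut.conj g).toMonoidHom)).comap_subtype
      (K := K)).exists_le_sylow
    obtain ⟨y, hy⟩ := MulAction.exists_smul_eq K P2 P1
    have hsub : (P1 : Subgroup K).map K.subtype ≤ S.H :=
      S.le_H_of_isPGroup (P1.isPGroup'.map _) fun x hx => ⟨⟨x, hJK hx⟩, hP1 hx, rfl⟩
    refine ⟨y, y.2, S.mem_H_of_conj_J fun x hx => hsub ?_⟩
    refine ⟨y * ⟨g * x * g⁻¹, h2 ⟨x, hx, rfl⟩⟩ * y⁻¹, ?_, by simp [mul_assoc]⟩
    rw [← hy, Sylow.coe_subgroup_smul]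
    exact ⟨_, hP2 ⟨x, hx, rfl⟩, rfl⟩
  have hidx : K.index = (K.subgroupOf S.H).index := by
    rw [Subgroup.index_eq_card, Subgroup.index_eq_card]
    refine (Nat.card_congr (Equiv.ofBijective (fun q => Quotient.liftOn' q
      (fun h : S.H => (QuotientGroup.mk (h : G) : G ⧸ K)) fun a b hab => ?_) ⟨?_, ?_⟩)).symm
    · rw [QuotientGroup.leftRel_apply, Subgroup.mem_subgroupOf] at hab
      exact QuotientGroup.eq.2 (by simpa using hab)
    · rintro ⟨a⟩ ⟨b⟩ hab
      refine Quotient.sound' ?_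
      rw [QuotientGroup.leftRel_apply, Subgroup.mem_subgroupOf]
      simpa using QuotientGroup.eq.1 hab
    · rintro ⟨g⟩
      obtain ⟨k, hk, hkg⟩ := hFr g
      refine ⟨Quotient.mk'' ⟨k * g, hkg⟩, QuotientGroup.eq.2 ?_⟩
      have := (inferInstance : K.Normal).conj_mem _ (inv_mem hk) g⁻¹
      simpa [mul_assoc] using this
  have h9 : 9 ≤ K.index := by
    have hsum := classInner_irr_self χ.2
    rw [classInner, inv_mul_eq_iff_eq_mul₀ (Nat.cast_ne_zero.2 Nat.card_pos.ne'), mul_one] at hsum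
    have hre := congrArg Complex.re hsum
    simp only [Complex.re_sum, Complex.natCast_re, Complex.mul_conj, Complex.ofReal_re] at hre
    have hsub : ∑ g ∈ Finset.univ.filter (fun g => g ∈ K), Complex.normSq ((χ : G → ℂ) g) ≤
        ∑ g, Complex.normSq ((χ : G → ℂ) g) :=
      Finset.sum_le_sum_of_subset_of_nonneg (Finset.subset_univ _)
        fun g _ _ => Complex.normSq_nonneg _
    rw [hre, Finset.sum_congr rfl fun g hg => by
      rw [CfsgLib.Chars17.mem_irrKer.1 (Finset.mem_filter.1 hg).2, hχ],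
      Finset.sum_const, nsmul_eq_mul] at hsub
    rw [show (Finset.univ.filter fun g => g ∈ K).card = Nat.card K by
      rw [Nat.card_eq_fintype_card, Fintype.card_subtype], Complex.normSq_ofNat] at hsub
    rw [← K.card_mul_index, Nat.cast_mul] at hsub
    have hKpos : (0 : ℝ) < Nat.card K := by exact_mod_cast Nat.card_pos
    have : ((9 : ℕ) : ℝ) ≤ (K.index : ℝ) := by push_cast; nlinarith
    exact_mod_cast this
  -- `K ∩ H = J`
  have hKH : ∀ x ∈ K, x ∈ S.H → x ∈ S.J := by
    by_contra hcon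
    push Not at hcon
    obtain ⟨x, hxK, hxH, hxJ⟩ := hcon
    set K' := K.subgroupOf S.H
    have hle : S.J.subgroupOf S.H ≤ K' := fun y hy => hJK hy
    have hcJ : Nat.card (S.J.subgroupOf S.H) = 27 := by
      rw [Nat.card_congr (Subgroup.subgroupOfEquivOfLe S.le_H).toEquiv, S.card_J]
    have hmul : Nat.card K' * K.index = 648 := by rw [hidx, Subgroup.card_mul_index, S.card_H]
    have hK'le : Nat.card K' ≤ 72 := by nlinarith
    obtain ⟨q, hq⟩ := hcJ ▸ Subgroup.card_dvd_of_le hle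
    have hne : (S.J.subgroupOf S.H).relIndex K' ≠ 1 := fun h =>
      hxJ (Subgroup.relIndex_eq_one.1 h (x := ⟨x, hxH⟩) hxK)
    have hrel := Subgroup.card_mul_index ((S.J.subgroupOf S.H).subgroupOf K')
    rw [← Subgroup.relIndex, Nat.card_congr (Subgroup.subgroupOfEquivOfLe hle).toEquiv, hcJ] at hrel
    have h2 : (S.J.subgroupOf S.H).relIndex K' = 2 := by
      have hpos : 0 < (S.J.subgroupOf S.H).relIndex K' := by
        rcases Nat.eq_zero_or_pos ((S.J.subgroupOf S.H).relIndex K') with h | h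
        · rw [h, mul_zero] at hrel
          exact absurd hrel.symm Nat.card_pos.ne'
        · exact h
      omega
    have hx' := List.all_eq_true.1 e3 _ (mem_el4.2 (wim_mem S.e ⟨x, hxH⟩))
    rw [Bool.or_eq_true, decide_eq_true_eq, List.any_eq_true] at hx'
    rcases hx' with hx' | ⟨y, hy, hy'⟩
    · exact hxJ ((S.memJ ⟨x, hxH⟩).2 hx')
    rw [decide_eq_true_eq] at hy'
    let z : S.H := el S.e y * ⟨x, hxH⟩ * (el S.e y)⁻¹
    have hzK : z ∈ K' := (inferInstance : K.Normal).conj_mem _ hxK _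
    refine hy' ?_
    have hmem : z * (⟨x, hxH⟩ : S.H)⁻¹ ∈ S.J.subgroupOf S.H := by
      have key := Subgroup.mul_mem_iff_of_index_two
        (H := (S.J.subgroupOf S.H).subgroupOf K') h2
        (a := ⟨z, hzK⟩) (b := ⟨(⟨x, hxH⟩ : S.H)⁻¹, inv_mem (show (⟨x, hxH⟩ : S.H) ∈ K' from hxK)⟩)
      refine key.2 (iff_of_false (fun hz => ?_) fun h => hxJ ?_)
      · have : (el S.e y : G)⁻¹ * (z : G) * (el S.e y : G) ∈ S.J := by
          have hn : (el S.e y : G) ∈ Subgroup.normalizer (S.J : Set G) :=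
            S.normalizer_eq ▸ (el S.e y).2
          exact (Subgroup.mem_normalizer_iff''.1 hn (z : G)).1 hz
        exact hxJ (by simpa [z, mul_assoc] using this)
      · simpa [Subgroup.mem_subgroupOf] using h
    have := (S.memJ (z * (⟨x, hxH⟩ : S.H)⁻¹)).1 hmem
    simpa [z, wim_mul, wim_inv, wim_el S.e (mem_M4_iff.1 (mem_el4.1 hy))] using this
  -- Burnside inside `K`
  obtain ⟨Q, hQ⟩ := (S.isPGroup_J.comap_subtype (K := K)).exists_le_sylow
  have hQJ : (Q : Subgroup K) = S.J.subgroupOf K := by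
    refine le_antisymm (fun y hy => ?_) hQ
    have hH : (Q : Subgroup K).map K.subtype ≤ S.H :=
      S.le_H_of_isPGroup (Q.isPGroup'.map _) fun x hx => ⟨⟨x, hJK hx⟩, hQ hx, rfl⟩
    exact hKH _ y.2 (hH ⟨y, hy, rfl⟩)
  have hnorm : Subgroup.normalizer ((Q : Subgroup K) : Set K) ≤
      Subgroup.centralizer ((Q : Subgroup K) : Set K) := by
    rw [hQJ]
    intro y hy
    have hyJ : (y : G) ∈ S.J := hKH _ y.2 (S.mem_H_of_conj_J fun j hj => S.le_H
      ((Subgroup.mem_normalizer_iff.1 hy ⟨j, hJK hj⟩).1 hj))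
    exact Subgroup.mem_centralizer_iff.2 fun t ht => Subtype.ext (S.J_comm ht hyJ)
  set N : Subgroup K := (MonoidHom.transferSylow Q hnorm).ker
  have hNc : N.IsComplement' (Q : Subgroup K) := MonoidHom.ker_transferSylow_isComplement' Q hnorm
  have hN3 : (Nat.card N).Coprime 3 :=
    (Nat.prime_three.coprime_iff_not_dvd.2
      (MonoidHom.not_dvd_card_ker_transferSylow Q hnorm)).symm
  have hNcore : N ≤ Cfsg.pPrimeCore 3 K := CfsgLib.PCore.le_pPrimeCore inferInstance hN3
  have hcore : Cfsg.pPrimeCore 3 K = ⊥ := by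
    haveI : ((Cfsg.pPrimeCore 3 K).map K.subtype).Normal := by
      rw [CfsgLib.PCore.map_pPrimeCore_subtype_of_normal]; infer_instance
    have := S.normal_coprime_eq_bot hC ((Cfsg.pPrimeCore 3 K).map K.subtype)
      (Nat.Coprime.coprime_dvd_left (Subgroup.card_map_dvd _ _) CfsgLib.PCore.pPrimeCore_coprime)
    rwa [Subgroup.map_eq_bot_iff_of_injective _ K.subtype_injective] at this
  have hQtop : (Q : Subgroup K) = ⊤ :=
    Subgroup.isComplement'_bot_left.1 ((eq_bot_iff.2 (hNcore.trans hcore.le)) ▸ hNc)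
  have hKJ : K = S.J := le_antisymm
    (fun y hy => (hQJ.symm.trans hQtop).ge (Subgroup.mem_top ⟨y, hy⟩)) hJK
  rw [S.normalizer_eq, ← hKJ]
  exact Subgroup.normalizer_eq_top_iff.2 inferInstance

end Setup

end CfsgLib.AltNine
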