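import Cfsg.Agent.Lib.ThreeCubedWreath.Local

/-!
# The centralizer of `(r, 1, 1)` in the model
-/

set_option autoImplicit false

namespace CfsgLib.AltNine

open Cfsg CfsgLib.ThreeCubed CfsgLib.ThreeCubedWreath

attribute [local irreducible] M4set

/-- An element of order four on `J / <a>`. -/
def rA : W := ⟨(.r 0, .r 0, .sr 0), .sr 0⟩

theorem rA_facts : sg rA.left * sgn rA.right = 1 ∧ rA * jrep 0 = jrep 0 * rA ∧
    ∀ t, ∃ i : Fin 3, rA * (rA * Jel t * rA⁻¹) * rA⁻¹ * Jel t = jrep 0 ^ i.val := by decide +kernel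

theorem Jel_pow : ∀ i : Fin 3, jrep 0 ^ i.val = Jel (i, 0, 0) := by decide +kernel

theorem Jel_injective : Function.Injective Jel := by
  intro s t
  revert s t
  decide +kernel

theorem isJ_Jel : ∀ t, isJ (Jel t) := by decide +kernel

theorem jrep_bc : ∀ t : Fin 3 × Fin 3 × Fin 3, t.2 ≠ 0 → ∃ i : Fin 3, ∃ p : Fin 2, ∃ a b : Fin 2,
    ∃ k : Fin 3, ∃ c : Fin 2,
    conjC 0 a b k c * jrep p.succ * (conjC 0 a b k c)⁻¹ = Jel t * jrep 0 ^ i.val := by decide +kernel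

theorem rA_pow_isJ : ∀ j k : Fin 4, isJ (rA ^ j.val * (rA ^ k.val)⁻¹) → j = k := by decide +kernel

theorem rA_pow_fix : ∀ j : Fin 4, j ≠ 0 → ∀ t : Fin 3 × Fin 3 × Fin 3, t.2 ≠ 0 → ∀ i : Fin 3,
    rA ^ j.val * Jel t * (rA ^ j.val)⁻¹ ≠ Jel t * jrep 0 ^ i.val := by decide +kernel

theorem rA_pow_classes : ∀ j : Fin 4, ∀ i : Fin 3,
    rA ^ j.val * Jel (0, 1, 0) * (rA ^ j.val)⁻¹ ≠ Jel (0, 1, 1) * jrep 0 ^ i.val := by
  decide +kernel

theorem rA_mem : rA ∈ M4 := mem_M4_iff.2 rA_facts.1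

/-- The centralizer consists of `Jel u * rA ^ j`. -/
theorem exists_form {x : W} (hx : x ∈ M4) (hc : x * jrep 0 = jrep 0 * x) :
    ∃ u : Fin 3 × Fin 3 × Fin 3, ∃ j : Fin 4, x = Jel u * rA ^ j.val := by
  classical
  let F : (Fin 3 × Fin 3 × Fin 3) × Fin 4 → W := fun q => Jel q.1 * rA ^ q.2.val
  have hinj : Function.Injective F := by
    rintro ⟨u, j⟩ ⟨v, k⟩ h
    have hJ : isJ (rA ^ j.val * (rA ^ k.val)⁻¹) := by
      have e : (Jel u)⁻¹ * Jel v = rA ^ j.val * (rA ^ k.val)⁻¹ := by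
        rw [eq_mul_inv_iff_mul_eq, mul_assoc, inv_mul_eq_iff_eq_mul]
        exact h.symm
      rw [← e]
      exact isJ_mul (isJ_inv (isJ_Jel u)) (isJ_Jel v)
    obtain rfl := rA_pow_isJ j k hJ
    exact Prod.ext (Jel_injective (mul_right_cancel (h : Jel u * rA ^ j.val = Jel v * rA ^ j.val))) rfl
  have hsub : Finset.univ.image F ⊆ M4set.filter fun y => y * jrep 0 = jrep 0 * y := by
    intro y hy
    obtain ⟨⟨u, j⟩, -, rfl⟩ := Finset.mem_image.1 hy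
    refine Finset.mem_filter.2 ⟨mem_M4set.2 (mul_mem (isJ_iff.1 (isJ_Jel u)).1
      (pow_mem rA_mem _)), ?_⟩
    have h1 : Commute (Jel u) (jrep 0) := isJ_comm (isJ_Jel u) (jrep_mem 0).1
    have h2 : Commute rA (jrep 0) := rA_facts.2.1
    exact (h1.mul_left (h2.pow_left _)).eq
  have heq := Finset.eq_of_subset_of_card_le hsub (by
    rw [jrep_centralizer 0, Finset.card_image_of_injective _ hinj]
    simp)
  have hxm : x ∈ M4set.filter fun y => y * jrep 0 = jrep 0 * y :=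
    Finset.mem_filter.2 ⟨mem_M4set.2 hx, hc⟩
  rw [← heq] at hxm
  obtain ⟨⟨u, j⟩, -, h⟩ := Finset.mem_image.1 hxm
  exact ⟨u, j, h.symm⟩

theorem conj_form (u t : Fin 3 × Fin 3 × Fin 3) (j : Fin 4) :
    Jel u * rA ^ j.val * Jel t * (Jel u * rA ^ j.val)⁻¹ =
      rA ^ j.val * Jel t * (rA ^ j.val)⁻¹ := by
  have h := isJ_comm (isJ_Jel u) (isJ_conj (isJ_Jel t) (pow_mem rA_mem j.val))
  calc Jel u * rA ^ j.val * Jel t * (Jel u * rA ^ j.val)⁻¹
      = Jel u * (rA ^ j.val * Jel t * (rA ^ j.val)⁻¹) * (Jel u)⁻¹ := by group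
    _ = _ := by rw [h, mul_inv_cancel_right]

theorem cent_a_fix {x : W} (hx : x ∈ M4) (hc : x * jrep 0 = jrep 0 * x)
    {t : Fin 3 × Fin 3 × Fin 3} (ht : t.2 ≠ 0) (i : Fin 3)
    (h : x * Jel t * x⁻¹ = Jel t * jrep 0 ^ i.val) : isJ x := by
  obtain ⟨u, j, rfl⟩ := exists_form hx hc
  rw [conj_form] at h
  by_cases hj : j = 0
  · subst hj
    simpa using isJ_Jel u
  · exact absurd h (rA_pow_fix j hj t ht i)

theorem cent_a_classes {x : W} (hx : x ∈ M4) (hc : x * jrep 0 = jrep 0 * x) (i : Fin 3) :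
    x * Jel (0, 1, 0) * x⁻¹ ≠ Jel (0, 1, 1) * jrep 0 ^ i.val := by
  obtain ⟨u, j, rfl⟩ := exists_form hx hc
  rw [conj_form]
  exact rA_pow_classes j i

end CfsgLib.AltNine
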