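import Cfsg.Agent.Lib.Recognition.Nine.Main
import Cfsg.Agent.Lib.Recognition.ThreeSelfChar
import Cfsg.Agent.Lib.OrderElim.A6Line

/-!
# Self-centralizing Sylow 3-subgroups of order 9 with normalizer quotient of order 4

If an element of the normalizer squares to the inversion and two elements of order 3 are not fused,
the subgroup is normal or the group is the alternating group of degree 6.
-/

set_option autoImplicit false
set_option linter.unusedSectionVars false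
set_option linter.style.haveILetI false

namespace CfsgLib.AltNine

open Subgroup

variable {X : Type*} [Group X] [Finite X] {E : Subgroup X}

theorem nine_hyp (hS : ThreeSelfCentral.Hyp E) : ThreeNine.Hyp E := by
  obtain ⟨⟨s, hs⟩, hs1⟩ : ∃ s : E, s ≠ 1 := by
    haveI : Nontrivial E := Finite.one_lt_card_iff_nontrivial.1 (by rw [hS.card]; norm_num)
    exact exists_ne 1
  refine ⟨hS.card, hS.exp3, le_antisymm (fun x hx => ?_) (fun x hx => ?_),
    fun t ht h1 => (hS.cent t ht h1).le.trans le_normalizer, hS.syl⟩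
  · rw [← hS.cent s hs fun h => hs1 (Subtype.ext h), mem_centralizer_singleton_iff]
    exact (mem_centralizer_iff.1 hx s hs).symm
  · rw [mem_centralizer_iff]
    exact fun t ht => ThreeSelfCentral.mul_comm_mem hS ht hx

/-- `N(E)/E` of order 4 acting without fixed lines, two classes of elements of order 3. -/
theorem normalizer_top_or_six (hS : ThreeSelfCentral.Hyp E)
    (hN36 : Nat.card (normalizer (E : Set X)) = 36) {r : X} (hr : r ∈ normalizer (E : Set X))
    (hr2 : ∀ s ∈ E, r * (r * s * r⁻¹) * r⁻¹ = s⁻¹) {s₀ t₀ : X} (hs₀ : s₀ ∈ E) (ht₀ : t₀ ∈ E)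
    (hs₀1 : s₀ ≠ 1) (ht₀1 : t₀ ≠ 1)
    (hne : ∀ g ∈ normalizer (E : Set X), g * s₀ * g⁻¹ ≠ t₀) :
    normalizer (E : Set X) = ⊤ ∨ Nonempty (X ≃* alternatingGroup (Fin 6)) := by
  refine or_iff_not_imp_left.2 fun hNtop => ?_
  have hS9 := nine_hyp hS
  haveI : Fact (Nat.Prime 3) := ⟨Nat.prime_three⟩
  obtain ⟨P, hP⟩ := hS.syl
  set N := normalizer (E : Set X) with hNdef
  -- an element with its image under `r` generates
  have hgen : ∀ {s : X} {K : Subgroup X}, s ∈ E → s ≠ 1 → s ∈ K → r * s * r⁻¹ ∈ K → E ≤ K := by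
    intro s K hs h1 hK hK'
    refine ThreeNine.le_of_two_mem hS9 hs ((mem_normalizer_iff.1 hr s).1 hs) h1
      ⟨fun e => h1 (conj_eq_one_iff.1 e), fun e => ?_, fun e => ?_⟩ hK hK'
    · have := hr2 s hs
      rw [e, e] at this
      exact ThreeSelfCentral.inv_ne_self hS hs h1 this.symm
    · have := hr2 s hs
      rw [e, show r * s⁻¹ * r⁻¹ = (r * s * r⁻¹)⁻¹ by group, e, inv_inv] at this
      exact ThreeSelfCentral.inv_ne_self hS hs h1 this.symm
  -- a subgroup normalized by `E` meets a conjugate of `E`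
  have h3J : ∀ J : Subgroup X, J ≠ ⊥ → E ≤ normalizer (J : Set X) →
      ∃ g ∈ J, g ≠ 1 ∧ g ^ 3 = 1 := by
    intro J hJb hEJ
    have h3 : 3 ∣ Nat.card J := by
      by_contra h3
      exact hJb (ThreeNine.eq_bot_of_normalized hS9 h3 hEJ)
    obtain ⟨g, hg⟩ := exists_prime_orderOf_dvd_card' 3 h3
    refine ⟨g, g.2, fun e => ?_, ?_⟩
    · rw [OneMemClass.coe_eq_one.1 e, orderOf_one] at hg; norm_num at hg
    · rw [← orderOf_dvd_iff_pow_eq_one, Subgroup.orderOf_coe, hg]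
  set M : Subgroup X := sInf {K : Subgroup X | K.Normal ∧ K ≠ ⊥} with hMdef
  have hMn : M.Normal := ⟨fun x hx g => by
    rw [hMdef, mem_sInf] at hx ⊢
    exact fun K hK => hK.1.conj_mem x (hx K hK) g⟩
  have hSM : E ≤ M := le_sInf fun K hK => by
    haveI := hK.1
    obtain ⟨g, hgK, hg1, hg3⟩ := h3J K hK.2 (by rw [normalizer_eq_top]; exact le_top)
    obtain ⟨s, hs, hc⟩ := ThreeSelfCentral.exists_conj_mem hS hg3
    obtain ⟨c, rfl⟩ := isConj_iff.1 hc
    exact hgen hs (fun e => hg1 (conj_eq_one_iff.1 e)) (hK.1.conj_mem g hgK c)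
      (hK.1.conj_mem _ (hK.1.conj_mem g hgK c) r)
  have hmin : ∀ K : Subgroup X, K.Normal → K ≠ ⊥ → M ≤ K := fun K h1 h2 => sInf_le ⟨h1, h2⟩
  have hfr : ∀ g : X, ∃ m ∈ M, ∃ n ∈ N, g = m * n := by
    intro g
    have hPM : (P : Subgroup X) ≤ M := hP.symm ▸ hSM
    have h := Sylow.normalizer_sup_eq_top (N := M) (P.subtype hPM)
    rw [Sylow.coe_subtype, subgroupOf_map_subtype, inf_eq_left.2 hPM, hP, sup_comm] at h
    have hg : g ∈ ((M ⊔ N : Subgroup X) : Set X) := by rw [h]; exact mem_top g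
    rw [Subgroup.normal_mul] at hg
    obtain ⟨m, hm, n, hn, e⟩ := Set.mem_mul.1 hg
    exact ⟨m, hm, n, hn, e.symm⟩
  have hMN : ¬ M ≤ N := fun h => hNtop (eq_top_iff.2 fun g _ => by
    obtain ⟨m, hm, n, hn, rfl⟩ := hfr g
    exact mul_mem (h hm) hn)
  -- the hypotheses inside `M`
  set T : Subgroup M := E.subgroupOf M with hTdef
  have hTmem : ∀ x : M, x ∈ T ↔ (x : X) ∈ E := fun x => mem_subgroupOf
  have hT : ThreeSelfCentral.Hyp T := by
    refine ⟨?_, ?_, ?_, ?_⟩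
    · rw [Nat.card_congr (subgroupOfEquivOfLe hSM).toEquiv, hS.card]
    · intro s hs
      exact Subtype.ext (by simpa using hS.exp3 _ ((hTmem s).1 hs))
    · intro s hs h1
      ext x
      rw [hTmem, ← hS.cent _ ((hTmem s).1 hs) (fun e => h1 (Subtype.ext e)),
        mem_centralizer_singleton_iff, mem_centralizer_singleton_iff]
      exact ⟨fun h => congrArg Subtype.val h, fun h => Subtype.ext h⟩
    · have hPM : (P : Subgroup X) ≤ M := hP.symm ▸ hSM
      exact ⟨P.subtype hPM, by rw [Sylow.coe_subtype, hP]⟩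
  have hsimple : IsSimpleGroup M := by
    haveI : Nontrivial M := ⟨⟨⟨s₀, hSM hs₀⟩, 1, fun e => hs₀1 (congrArg Subtype.val e)⟩⟩
    refine ⟨fun K hKn => ?_⟩
    by_contra hcon
    obtain ⟨hKb, hKt⟩ := not_or.1 hcon
    set K' := K.map M.subtype with hK'
    have hmemK : ∀ x : M, (x : X) ∈ K' ↔ x ∈ K := fun x =>
      mem_map_iff_mem M.subtype_injective
    have hKM : K' ≤ M := map_subtype_le K
    have hconj : ∀ m ∈ M, ∀ x ∈ K', m * x * m⁻¹ ∈ K' := by
      intro m hm x hx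
      obtain ⟨k, hk, rfl⟩ := mem_map.1 hx
      exact (hmemK (⟨m, hm⟩ * k * ⟨m, hm⟩⁻¹)).2 (hKn.conj_mem k hk ⟨m, hm⟩)
    have h3 : ∀ J : Subgroup X, J ≤ M → (∀ m ∈ M, ∀ x ∈ J, m * x * m⁻¹ ∈ J) → J ≠ ⊥ →
        ∃ s ∈ E, s ≠ 1 ∧ s ∈ J := by
      intro J hJM hJ hJb
      obtain ⟨g, hgJ, hg1, hg3⟩ := h3J J hJb fun m hm => by
        rw [mem_normalizer_iff]
        refine fun x => ⟨hJ m (hSM hm) x, fun hx => ?_⟩
        simpa [mul_assoc] using hJ m⁻¹ (inv_mem (hSM hm)) _ hx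
      obtain ⟨s, hs, hc⟩ := ThreeSelfCentral.exists_conj_mem hT
        (g := (⟨g, hJM hgJ⟩ : M)) (Subtype.ext hg3)
      obtain ⟨c, hc⟩ := isConj_iff.1 hc
      have hc' : (c : X) * g * (c : X)⁻¹ = s := congrArg Subtype.val hc
      exact ⟨s, (hTmem s).1 hs, fun e => hg1 (conj_eq_one_iff.1 (hc'.trans e)),
        hc' ▸ hJ c c.2 g hgJ⟩
    have hK'b : K' ≠ ⊥ := fun h => hKb ((map_eq_bot_iff_of_injective K M.subtype_injective).1 h)
    by_cases hSK : E ≤ K'
    · refine hKt (eq_top_iff.2 fun x _ => (hmemK x).1 ?_)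
      have hcore : E ≤ K'.normalCore := fun s hs g => by
        obtain ⟨m, hm, n, hn, rfl⟩ := hfr g
        rw [show m * n * s * (m * n)⁻¹ = m * (n * s * n⁻¹) * m⁻¹ by group]
        exact hconj m hm _ (hSK ((mem_normalizer_iff.1 hn s).1 hs))
      have hb : K'.normalCore ≠ ⊥ := fun h => hs₀1 (mem_bot.1 (h ▸ hcore hs₀))
      exact normalCore_le _ (hmin _ inferInstance hb x.2)
    obtain ⟨s, hs, hs1, hsK⟩ := h3 K' hKM hconj hK'b
    set R := K'.map (MulAut.conj r).toMonoidHom with hR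
    have hmemR : ∀ x, x ∈ R ↔ r⁻¹ * x * r ∈ K' := fun x => by
      rw [hR]
      constructor
      · rintro ⟨k, hk, rfl⟩
        simpa [mul_assoc] using hk
      · exact fun h => ⟨_, h, by simp [mul_assoc]⟩
    have hRM : R ≤ M := fun x hx => by
      have := hMn.conj_mem _ (hKM ((hmemR x).1 hx)) r
      simpa [mul_assoc] using this
    have hRconj : ∀ m ∈ M, ∀ x ∈ R, m * x * m⁻¹ ∈ R := fun m hm x hx => by
      rw [hmemR, show r⁻¹ * (m * x * m⁻¹) * r =
        (r⁻¹ * m * r) * (r⁻¹ * x * r) * (r⁻¹ * m * r)⁻¹ by group]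
      refine hconj _ ?_ _ ((hmemR x).1 hx)
      simpa using hMn.conj_mem m hm r⁻¹
    have hL : K' ⊓ R = ⊥ := by
      by_contra hLb
      obtain ⟨t, ht, ht1, htK, htR⟩ := h3 (K' ⊓ R) (inf_le_left.trans hKM)
        (fun m hm x hx => ⟨hconj m hm x hx.1, hRconj m hm x hx.2⟩) hLb
      have ht' : r⁻¹ * t * r ∈ E := by
        simpa using (mem_normalizer_iff.1 (inv_mem hr) t).1 ht
      refine hSK (hgen ht' (fun e => ht1 ?_) ((hmemR t).1 htR) ?_)
      · rw [show t = r * (r⁻¹ * t * r) * r⁻¹ by group, e]; group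
      · rw [show r * (r⁻¹ * t * r) * r⁻¹ = t by group]; exact htK
    have hsR : r * s * r⁻¹ ∈ R := by rw [hmemR]; simpa [mul_assoc] using hsK
    have hs' : r * s * r⁻¹ ∈ E := (mem_normalizer_iff.1 hr s).1 hs
    refine hMN fun m hm => ThreeNine.mem_normalizer_of_conj hS9 hs'
      (fun e => hs1 (conj_eq_one_iff.1 e)) ?_
    have hy := hRconj m hm _ hsR
    rw [← hS.cent s hs hs1, mem_centralizer_singleton_iff]
    set y := m * (r * s * r⁻¹) * m⁻¹
    have h1 : y * s * y⁻¹ * s⁻¹ ∈ K' ⊓ R := by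
      refine ⟨K'.mul_mem (hconj _ (hRM hy) s hsK) (K'.inv_mem hsK), ?_⟩
      rw [show y * s * y⁻¹ * s⁻¹ = y * (s * y⁻¹ * s⁻¹) by group]
      exact R.mul_mem hy (hRconj s (hKM hsK) _ (R.inv_mem hy))
    rw [hL, mem_bot, mul_inv_eq_one, mul_inv_eq_iff_eq_mul] at h1
    exact h1
  haveI := hsimple
  have h360 : Nat.card M = 360 := by
    refine ThreeSelfCentral.card_eq hT ⟨⟨s₀, hSM hs₀⟩, ⟨t₀, hSM ht₀⟩, ?_, ?_, fun g e => ?_⟩
    · rw [Subgroup.orderOf_mk]; exact orderOf_eq_prime (hS.exp3 _ hs₀) hs₀1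
    · rw [Subgroup.orderOf_mk]; exact orderOf_eq_prime (hS.exp3 _ ht₀) ht₀1
    · have e' : (g : X) * s₀ * (g : X)⁻¹ = t₀ := congrArg Subtype.val e
      exact hne g (ThreeNine.mem_normalizer_of_conj hS9 hs₀ hs₀1 (e'.symm ▸ ht₀)) e'
  -- the whole normalizer lies in `M`
  obtain ⟨PT, hPT⟩ := hT.syl
  have hn := CfsgLib.Small.card_normalizer_mul_card_sylow PT
  have hn9 := ThreeSelfCentral.card_sylow_modEq hT
  have hG : ¬ IsMulCommutative M := CfsgLib.Small.nc_of_not_prime (by rw [h360]; norm_num)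
  have hn1 := CfsgLib.Small.one_lt_card_sylow hG (p := 3) (by rw [h360]; norm_num)
  rw [hPT, h360] at hn
  have hTN : normalizer (T : Set M) = N.subgroupOf M := (subgroupOf_normalizer_eq hSM).symm
  have hcardT : Nat.card (normalizer (T : Set M)) = Nat.card (N ⊓ M : Subgroup X) := by
    rw [hTN, ← inf_subgroupOf_right, Nat.card_congr (subgroupOfEquivOfLe inf_le_right).toEquiv]
  obtain ⟨k, hk⟩ := card_dvd_of_le (le_inf le_normalizer hSM : E ≤ N ⊓ M)
  rw [hS.card] at hk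
  have hk4 : k ∣ 4 := by
    have := card_dvd_of_le (inf_le_left : N ⊓ M ≤ N)
    rw [hk, hN36] at this
    exact Nat.dvd_of_mul_dvd_mul_left (by norm_num) (this : 9 * k ∣ 9 * 4)
  rw [hcardT, hk] at hn
  rw [Nat.ModEq] at hn9
  have hk4' : k = 4 := by
    have : k ≤ 4 := Nat.le_of_dvd (by norm_num) hk4
    interval_cases k <;> omega
  have hNM : N ≤ M := (eq_of_le_of_card_ge (inf_le_left : N ⊓ M ≤ N)
    (by rw [hk, hk4', hN36])) ▸ inf_le_right
  have hMtop : M = ⊤ := eq_top_iff.2 fun g _ => by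
    obtain ⟨m, hm, n, hn', rfl⟩ := hfr g
    exact mul_mem hm (hNM hn')
  obtain ⟨ε⟩ := CfsgLib.OrderElim.A6.nonempty_mulEquiv_alternating_six h360
  exact ⟨(Subgroup.topEquiv.symm.trans (MulEquiv.subgroupCongr hMtop.symm)).trans ε⟩

end CfsgLib.AltNine
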