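import Cfsg.Agent.Lib.Recognition.AltNine.Local
import Cfsg.Agent.Lib.Recognition.AltNine.CentAModel
import Cfsg.Agent.Lib.Recognition.AltNine.CentASix
import Mathlib.GroupTheory.Transfer

/-!
# The centralizer of an element with one non-trivial coordinate

It lies in `H` or is the direct product of `<a>` and a copy of the alternating group of degree 6.
-/

set_option autoImplicit false
set_option linter.style.haveILetI false

namespace CfsgLib.AltNine

open Subgroup CfsgLib.ThreeCubed CfsgLib.ThreeCubedWreath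

universe u

theorem zmod_three_facts : (Multiplicative.ofAdd (1 : ZMod 3)) ^ 3 = 1 ∧
    Multiplicative.ofAdd (1 : ZMod 3) ≠ 1 ∧
    (∀ v u : Multiplicative (ZMod 3), v ≠ 1 → ∃ k : Fin 3, v ^ k.val = u) ∧
    ∀ (v : Multiplicative (ZMod 3)) (i : Fin 3), v ≠ 1 → v ^ i.val = 1 → i = 0 := by decide

variable {G : Type u} [Group G]

attribute [local irreducible] M4set

namespace Setup

variable (S : Setup G)

theorem a_cube : S.a ^ 3 = 1 := by
  rw [pow_three, ← mul_assoc]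
  exact wim_cube S.e (by rw [wim_el S.e (jrep_sign 0)]; exact isJ_cube (jrep_mem 0).1)

theorem wim_a (h : S.a ∈ S.H) : wim S.e ⟨S.a, h⟩ = jrep 0 :=
  wim_el S.e (jrep_sign 0)

theorem sign_Jel (t : Fin 3 × Fin 3 × Fin 3) : sg (Jel t).left * sgn (Jel t).right = 1 :=
  mem_M4_iff.1 (isJ_iff.1 (isJ_Jel t)).1

theorem Jel_memJ (t : Fin 3 × Fin 3 × Fin 3) : ge S.e (Jel t) ∈ S.J :=
  (S.memJ _).2 (by rw [wim_el S.e (sign_Jel t)]; exact isJ_Jel t)

theorem exists_eq_Jel {x : G} (hx : x ∈ S.J) : ∃ t, x = ge S.e (Jel t) := by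
  obtain ⟨t, ht⟩ := exists_Jel ((S.memJ ⟨x, S.le_H hx⟩).1 hx)
  exact ⟨t, ge_eq S.e (sign_Jel t) ht.symm⟩

theorem mem_zpowers_a {x : G} : x ∈ zpowers S.a ↔ ∃ i : Fin 3, x = S.a ^ i.val := by
  refine ⟨?_, fun ⟨i, hi⟩ => hi ▸ pow_mem (mem_zpowers _) _⟩
  rintro ⟨k, rfl⟩
  refine ⟨⟨(k % 3).toNat, by omega⟩, ?_⟩
  show S.a ^ k = S.a ^ (k % 3).toNat
  rw [← zpow_natCast, ← zpow_mod_orderOf, orderOf_eq_prime S.a_cube (S.jrep_ne_one 0)]
  congr 1
  omega

theorem card_cent_a_H :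
    Nat.card {g : G // g ∈ S.H ∧ g * S.a = S.a * g} = 108 := by
  classical
  refine Eq.trans ?_ (jrep_centralizer 0)
  rw [← Nat.card_eq_finsetCard]
  refine Nat.card_congr
    { toFun := fun g => ⟨wim S.e ⟨g, g.2.1⟩, Finset.mem_filter.2 ⟨wim_mem' S.e _, by
        rw [← wim_el S.e (jrep_sign 0), ← wim_mul, ← wim_mul]
        exact congrArg (wim S.e) (Subtype.ext g.2.2)⟩⟩
      invFun := fun x => ⟨(el S.e x.1 : G), SetLike.coe_mem _, by
        obtain ⟨hx, hcomm⟩ := Finset.mem_filter.1 x.2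
        exact congrArg Subtype.val (wim_inj S.e (a := el S.e x.1 * el S.e (jrep 0))
          (b := el S.e (jrep 0) * el S.e x.1) (by
            rw [wim_mul, wim_mul, wim_el S.e (mem_M4set_iff.1 hx), wim_el S.e (jrep_sign 0),
              hcomm]))⟩
      left_inv := fun g => Subtype.ext (ge_eq S.e (mem_M4set_iff.1 (wim_mem' S.e _)) rfl).symm
      right_inv := fun x => Subtype.ext ?_ }
  exact Eq.trans (congrArg (wim S.e) (Subtype.ext rfl))
    (wim_el S.e (mem_M4set_iff.1 (Finset.mem_filter.1 x.2).1))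

theorem le_centralizer_a : S.J ≤ centralizer ({S.a} : Set G) := fun x hx =>
  mem_centralizer_singleton_iff.2 (S.J_comm hx (S.jrep_memJ 0))

section

variable [Finite G] (hB : centralizer ({S.b} : Set G) ≤ S.H)
  (hC : centralizer ({S.c} : Set G) ≤ S.H)
  (hF : ∀ {j g : G}, j ∈ S.J → g * j * g⁻¹ ∈ S.J → ∃ k ∈ S.H, k * j * k⁻¹ = g * j * g⁻¹)

include hB hC in
omit [Finite G] in
theorem exists_centralizer_le {t : Fin 3 × Fin 3 × Fin 3} (ht : t.2 ≠ 0) :
    ∃ i : Fin 3, centralizer ({ge S.e (Jel t) * S.a ^ i.val} : Set G) ≤ S.H := by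
  obtain ⟨i, p, a, b, k, c, h⟩ := jrep_bc t ht
  refine ⟨i, ?_⟩
  set m := el S.e (conjC 0 a b k c)
  have hp : centralizer ({ge S.e (jrep p.succ)} : Set G) ≤ S.H := by
    fin_cases p
    · exact hB
    · exact hC
  have heq : (m : G) * ge S.e (jrep p.succ) * (m : G)⁻¹ = ge S.e (Jel t) * S.a ^ i.val := by
    have : m * el S.e (jrep p.succ) * m⁻¹ = el S.e (Jel t) * el S.e (jrep 0) ^ i.val := by
      refine wim_inj S.e ?_
      rw [wim_mul, wim_mul, wim_inv, wim_mul, wim_pow, wim_el S.e (sign_Jel t),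
        wim_el S.e (jrep_sign 0), wim_el S.e (jrep_sign p.succ),
        wim_el S.e (conjC_mem _ _ _ _ _), h]
    simpa [ge] using congrArg Subtype.val this
  intro x hx
  rw [← heq, mem_centralizer_singleton_iff] at hx
  have h1 : (m : G)⁻¹ * x * (m : G) ∈ centralizer ({ge S.e (jrep p.succ)} : Set G) := by
    rw [mem_centralizer_singleton_iff]
    calc (m : G)⁻¹ * x * (m : G) * ge S.e (jrep p.succ)
        = (m : G)⁻¹ * (x * ((m : G) * ge S.e (jrep p.succ) * (m : G)⁻¹)) * (m : G) := by group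
      _ = (m : G)⁻¹ * ((m : G) * ge S.e (jrep p.succ) * (m : G)⁻¹ * x) * (m : G) := by rw [hx]
      _ = ge S.e (jrep p.succ) * ((m : G)⁻¹ * x * (m : G)) := by group
  rw [show x = (m : G) * ((m : G)⁻¹ * x * (m : G)) * (m : G)⁻¹ by group]
  exact mul_mem (mul_mem m.2 (hp h1)) (inv_mem m.2)

include hB hC hF in
omit [Finite G] in
/-- Modulo `<a>` the subgroup `J` is the centralizer of each of its non-identity elements. -/
theorem mem_J_of_comm_a {x j : G} (hxa : x * S.a = S.a * x) (hj : j ∈ S.J)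
    (hja : j ∉ zpowers S.a) (h : x * j * x⁻¹ * j⁻¹ ∈ zpowers S.a) : x ∈ S.J := by
  obtain ⟨i₀, hi₀⟩ := S.mem_zpowers_a.1 h
  obtain ⟨t, rfl⟩ := S.exists_eq_Jel hj
  have ht : t.2 ≠ 0 := by
    intro h0
    refine hja (S.mem_zpowers_a.2 ⟨t.1, ?_⟩)
    have : el S.e (Jel t) = el S.e (jrep 0) ^ t.1.val := wim_inj S.e (by
      rw [wim_pow, wim_el S.e (sign_Jel t), wim_el S.e (jrep_sign 0), Jel_pow]
      rw [show t = (t.1, 0, 0) from Prod.ext rfl h0])
    simpa [ge] using congrArg Subtype.val this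
  set j := ge S.e (Jel t) with hjdef
  have hxj : x * j * x⁻¹ = S.a ^ i₀.val * j := by rw [← hi₀]; group
  obtain ⟨i, hi⟩ := S.exists_centralizer_le hB hC ht
  rw [← hjdef] at hi
  have hjm : j * S.a ^ i.val ∈ S.J := mul_mem hj (pow_mem (S.jrep_memJ 0) _)
  have hxai : x * S.a ^ i.val * x⁻¹ = S.a ^ i.val := by
    have hcomm : Commute x S.a := hxa
    rw [(hcomm.pow_right _).eq, mul_inv_cancel_right]
  have hxm : x * (j * S.a ^ i.val) * x⁻¹ ∈ S.J := by
    rw [show x * (j * S.a ^ i.val) * x⁻¹ = x * j * x⁻¹ * (x * S.a ^ i.val * x⁻¹) by group, hxai,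
      hxj]
    exact mul_mem (mul_mem (pow_mem (S.jrep_memJ 0) _) hj) (pow_mem (S.jrep_memJ 0) _)
  obtain ⟨k, hk, hk'⟩ := hF hjm hxm
  have hkx : k⁻¹ * x ∈ centralizer ({j * S.a ^ i.val} : Set G) := by
    rw [mem_centralizer_singleton_iff]
    calc k⁻¹ * x * (j * S.a ^ i.val) = k⁻¹ * (x * (j * S.a ^ i.val) * x⁻¹) * x := by group
      _ = k⁻¹ * (k * (j * S.a ^ i.val) * k⁻¹) * x := by rw [hk']
      _ = j * S.a ^ i.val * (k⁻¹ * x) := by group
  have hxH : x ∈ S.H := by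
    rw [show x = k * (k⁻¹ * x) by group]
    exact mul_mem hk (hi hkx)
  let y : S.H := ⟨x, hxH⟩
  refine (S.memJ y).2 (cent_a_fix (wim_mem S.e y) ?_ ht i₀ ?_)
  · rw [← wim_el S.e (jrep_sign 0), ← wim_mul, ← wim_mul]
    exact congrArg (wim S.e) (Subtype.ext hxa)
  · have e : y * el S.e (Jel t) * y⁻¹ = el S.e (Jel t) * el S.e (jrep 0) ^ i₀.val := Subtype.ext (by
      push_cast
      show x * j * x⁻¹ = j * S.a ^ i₀.val
      rw [hxj, S.J_comm (pow_mem (S.jrep_memJ 0) _) hj])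
    have e' := congrArg (wim S.e) e
    rwa [wim_mul, wim_mul, wim_inv, wim_mul, wim_pow, wim_el S.e (sign_Jel t),
      wim_el S.e (jrep_sign 0)] at e'

include hB hC hF in
theorem centralizer_a_cases_of :
    centralizer ({S.a} : Set G) ≤ S.H ∨
      ∃ L : Subgroup G, L ≤ centralizer ({S.a} : Set G) ∧ S.a ∉ L ∧
        zpowers S.a ⊔ L = centralizer ({S.a} : Set G) ∧
          Nonempty (L ≃* alternatingGroup (Fin 6)) := by
  classical
  haveI : Fact (Nat.Prime 3) := ⟨Nat.prime_three⟩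
  set C := centralizer ({S.a} : Set G) with hCdef
  let ca : C := ⟨S.a, mem_centralizer_singleton_iff.2 rfl⟩
  set Z : Subgroup C := zpowers ca with hZdef
  have hca3 : ca ^ 3 = 1 := Subtype.ext (by rw [Subgroup.coe_pow, OneMemClass.coe_one]; exact S.a_cube)
  have hoca : orderOf ca = 3 :=
    orderOf_eq_prime hca3 fun h => S.jrep_ne_one 0 (congrArg Subtype.val h)
  have hcen : ∀ x : C, x * ca = ca * x := fun x => Subtype.ext (mem_centralizer_singleton_iff.1 x.2)
  haveI : Z.Normal := ⟨fun z hz x => by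
    obtain ⟨k, rfl⟩ := hz
    have hcomm : Commute x ca := hcen x
    show x * ca ^ k * x⁻¹ ∈ Z
    rw [(hcomm.zpow_right k).eq, mul_inv_cancel_right]
    exact zpow_mem (mem_zpowers _) k⟩
  have hZ : ∀ x : C, x ∈ Z ↔ (x : G) ∈ zpowers S.a := fun x => by
    constructor
    · rintro ⟨k, rfl⟩
      exact ⟨k, by simp [ca]⟩
    · rintro ⟨k, hk⟩
      exact ⟨k, Subtype.ext (by simpa [ca] using hk)⟩
  set J' : Subgroup C := S.J.subgroupOf C with hJ'def
  have hJC : S.J ≤ C := S.le_centralizer_a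
  have hZJ : Z ≤ J' := fun x hx => mem_subgroupOf.2
    (zpowers_le.2 (S.jrep_memJ 0) ((hZ x).1 hx))
  set π := QuotientGroup.mk' Z with hπdef
  have hπs : Function.Surjective π := QuotientGroup.mk'_surjective Z
  set E := J'.map π with hEdef
  have hker : π.ker = Z := QuotientGroup.ker_mk' Z
  have hcomap : E.comap π = J' := comap_map_eq_self (by rw [hker]; exact hZJ)
  -- orders
  have hcardJ : Nat.card J' = 27 := by
    rw [Nat.card_congr (subgroupOfEquivOfLe hJC).toEquiv, S.card_J]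
  have hC3 : Nat.card C = 3 * Nat.card (C ⧸ Z) := by
    rw [card_eq_card_quotient_mul_card_subgroup Z, show Nat.card Z = 3 by
      rw [hZdef, Nat.card_zpowers, hoca], mul_comm]
  have hidxE : E.index = J'.index := by rw [← index_comap_of_surjective E hπs, hcomap]
  have hE9 : Nat.card E = 9 := by
    have h1 := J'.card_mul_index
    have h2 := E.card_mul_index
    rw [hcardJ, hC3, ← hidxE, ← h2, ← mul_assoc] at h1
    have := Nat.eq_of_mul_eq_mul_right (Nat.pos_of_ne_zero E.index_ne_zero_of_finite) h1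
    omega
  have hnorm : (normalizer (E : Set (C ⧸ Z))).comap π = S.H.subgroupOf C := by
    rw [comap_normalizer_eq_of_surjective E hπs, hcomap, hJ'def, ← subgroupOf_normalizer_eq hJC,
      ← S.normalizer_eq]
  have hmemN : ∀ x : C, π x ∈ normalizer (E : Set (C ⧸ Z)) ↔ (x : G) ∈ S.H := fun x => by
    rw [← mem_comap, hnorm, mem_subgroupOf]
  have hN36 : Nat.card (normalizer (E : Set (C ⧸ Z))) = 36 := by
    have h1 := (S.H.subgroupOf C).card_mul_index
    have h2 := (normalizer (E : Set (C ⧸ Z))).card_mul_index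
    have h108 : Nat.card (S.H.subgroupOf C) = 108 := by
      rw [← S.card_cent_a_H]
      exact Nat.card_congr
        ⟨fun x => ⟨x.1.1, x.2, mem_centralizer_singleton_iff.1 x.1.2⟩,
          fun g => ⟨⟨g.1, mem_centralizer_singleton_iff.2 g.2.2⟩, g.2.1⟩,
          fun _ => rfl, fun _ => rfl⟩
    have h3 : (normalizer (E : Set (C ⧸ Z))).index = (S.H.subgroupOf C).index := by
      rw [← index_comap_of_surjective _ hπs, hnorm]
    rw [h108, hC3, ← h3, ← h2, ← mul_assoc] at h1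
    have := Nat.eq_of_mul_eq_mul_right
      (Nat.pos_of_ne_zero (normalizer (E : Set (C ⧸ Z))).index_ne_zero_of_finite) h1
    omega
  have hEp : IsPGroup 3 E := IsPGroup.of_card (n := 2) (by rw [hE9]; norm_num)
  have h3E : ¬ 3 ∣ E.index := by
    intro h
    have h27 : 3 ^ (2 + 1) ∣ Nat.card (C ⧸ Z) := by
      rw [← E.card_mul_index, hE9, pow_succ]
      exact mul_dvd_mul (by norm_num) h
    have := Sylow.prime_pow_dvd_card_normalizer h27 (by rw [hE9]; norm_num)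
    rw [hN36] at this
    norm_num at this
  have hmemE : ∀ s ∈ E, ∃ x : C, (x : G) ∈ S.J ∧ π x = s := fun s hs => by
    obtain ⟨x, hx, rfl⟩ := mem_map.1 hs
    exact ⟨x, mem_subgroupOf.1 hx, rfl⟩
  have hπ1 : ∀ x : C, π x = 1 ↔ (x : G) ∈ zpowers S.a := fun x => by
    rw [← MonoidHom.mem_ker, hker, hZ]
  have hS : ThreeSelfCentral.Hyp E := by
    refine ⟨hE9, fun s hs => ?_, fun s hs hs1 => ?_, ⟨hEp.toSylow h3E, rfl⟩⟩
    · obtain ⟨x, hx, rfl⟩ := hmemE s hs
      have h : x ^ 3 = 1 := Subtype.ext (by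
        rw [Subgroup.coe_pow, OneMemClass.coe_one, pow_three, ← mul_assoc]
        exact wim_cube S.e (a := ⟨x, S.le_H hx⟩) (isJ_cube ((S.memJ _).1 hx)))
      rw [← map_pow, h, map_one]
    · obtain ⟨x, hx, rfl⟩ := hmemE s hs
      ext q
      rw [mem_centralizer_singleton_iff]
      constructor
      · intro hq
        obtain ⟨y, rfl⟩ := hπs q
        have hy : π (y * x * y⁻¹ * x⁻¹) = 1 := by
          rw [map_mul, map_mul, map_mul, map_inv, map_inv, hq]
          group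
        exact mem_map_of_mem π (mem_subgroupOf.2 (S.mem_J_of_comm_a hB hC hF
          (mem_centralizer_singleton_iff.1 y.2) hx (fun h => hs1 ((hπ1 x).2 h))
          (by simpa using (hπ1 _).1 hy)))
      · intro hq
        obtain ⟨y, hy, rfl⟩ := hmemE q hq
        rw [← map_mul, ← map_mul]
        exact congrArg π (Subtype.ext (S.J_comm hy hx))
  -- the element of order four
  have hr0 : ge S.e rA * S.a = S.a * ge S.e rA :=
    congrArg Subtype.val (wim_inj S.e (a := el S.e rA * el S.e (jrep 0))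
      (b := el S.e (jrep 0) * el S.e rA) (by
        rw [wim_mul, wim_mul, wim_el S.e rA_facts.1, wim_el S.e (jrep_sign 0), rA_facts.2.1]))
  let cr : C := ⟨ge S.e rA, mem_centralizer_singleton_iff.2 hr0⟩
  have hr2 : ∀ s ∈ E, π cr * (π cr * s * (π cr)⁻¹) * (π cr)⁻¹ = s⁻¹ := by
    intro s hs
    obtain ⟨x, hx, rfl⟩ := hmemE s hs
    obtain ⟨t, ht⟩ := S.exists_eq_Jel hx
    obtain ⟨i, hi⟩ := rA_facts.2.2 t
    have e : el S.e rA * (el S.e rA * el S.e (Jel t) * (el S.e rA)⁻¹) * (el S.e rA)⁻¹ *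
        el S.e (Jel t) = el S.e (jrep 0) ^ i.val := wim_inj S.e (by
      rw [wim_mul, wim_mul, wim_mul, wim_mul, wim_mul, wim_inv, wim_pow, wim_el S.e rA_facts.1,
        wim_el S.e (jrep_sign 0), wim_el S.e (sign_Jel t), hi])
    have e' := congrArg Subtype.val e
    push_cast at e'
    rw [eq_inv_iff_mul_eq_one, ← map_inv, ← map_mul, ← map_mul, ← map_mul, ← map_mul, ← map_mul,
      hπ1]
    push_cast
    rw [ht]
    exact S.mem_zpowers_a.2 ⟨i, e'⟩
  let cs : C := ⟨ge S.e (Jel (0, 1, 0)), hJC (S.Jel_memJ _)⟩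
  let ct : C := ⟨ge S.e (Jel (0, 1, 1)), hJC (S.Jel_memJ _)⟩
  have hnz : ∀ t : Fin 3 × Fin 3 × Fin 3, t.2 ≠ 0 → ge S.e (Jel t) ∉ zpowers S.a := by
    intro t ht h
    obtain ⟨i, hi⟩ := S.mem_zpowers_a.1 h
    have e : el S.e (Jel t) = el S.e (jrep 0) ^ i.val := Subtype.ext (by push_cast; exact hi)
    have e' := congrArg (wim S.e) e
    rw [wim_pow, wim_el S.e (sign_Jel t), wim_el S.e (jrep_sign 0), Jel_pow] at e'
    exact ht (congrArg Prod.snd (Jel_injective e'))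
  have hne : ∀ g ∈ normalizer (E : Set (C ⧸ Z)), g * π cs * g⁻¹ ≠ π ct := by
    intro g hg h
    obtain ⟨x, rfl⟩ := hπs g
    have hxH := (hmemN x).1 hg
    have h' : π (ct⁻¹ * (x * cs * x⁻¹)) = 1 := by
      rw [map_mul, map_mul, map_mul, map_inv, map_inv, h, inv_mul_cancel]
    obtain ⟨i, hi⟩ := S.mem_zpowers_a.1 ((hπ1 _).1 h')
    push_cast at hi
    let y : S.H := ⟨x, hxH⟩
    have e : y * el S.e (Jel (0, 1, 0)) * y⁻¹ =
        el S.e (Jel (0, 1, 1)) * el S.e (jrep 0) ^ i.val := Subtype.ext (by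
      push_cast
      exact inv_mul_eq_iff_eq_mul.1 hi)
    have e' := congrArg (wim S.e) e
    rw [wim_mul, wim_mul, wim_inv, wim_mul, wim_pow, wim_el S.e (sign_Jel _),
      wim_el S.e (sign_Jel _), wim_el S.e (jrep_sign 0)] at e'
    refine cent_a_classes (wim_mem S.e y) ?_ i e'
    rw [← wim_el S.e (jrep_sign 0), ← wim_mul, ← wim_mul]
    exact congrArg (wim S.e) (Subtype.ext (mem_centralizer_singleton_iff.1 x.2))
  rcases normalizer_top_or_six hS hN36 ((hmemN cr).2 (SetLike.coe_mem _)) hr2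
    (mem_map_of_mem π (mem_subgroupOf.2 (S.Jel_memJ (0, 1, 0)) : cs ∈ J'))
    (mem_map_of_mem π (mem_subgroupOf.2 (S.Jel_memJ (0, 1, 1)) : ct ∈ J'))
    (fun h => hnz (0, 1, 0) (by decide) ((hπ1 _).1 h))
    (fun h => hnz (0, 1, 1) (by decide) ((hπ1 _).1 h)) hne with h | hε
  · exact Or.inl fun x hx => (hmemN ⟨x, hx⟩).1 (h ▸ mem_top _)
  refine Or.inr ?_
  obtain ⟨ε⟩ := hε
  -- the transfer splits off `a`
  let ϕ : J' →* Multiplicative (ZMod 3) := MonoidHom.mk'
    (fun j => Multiplicative.ofAdd (rotE (wim S.e ⟨(j : C), S.le_H (mem_subgroupOf.1 j.2)⟩).left.1))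
    (fun j k => by
      have hj := (S.memJ ⟨(j : C), S.le_H (mem_subgroupOf.1 j.2)⟩).1 (mem_subgroupOf.1 j.2)
      have hk := (S.memJ ⟨(k : C), S.le_H (mem_subgroupOf.1 k.2)⟩).1 (mem_subgroupOf.1 k.2)
      obtain ⟨t, ht⟩ := exists_Jel hj
      obtain ⟨t', ht'⟩ := exists_Jel hk
      rw [← ofAdd_add, show (⟨((j * k : J') : C), S.le_H (mem_subgroupOf.1 (j * k).2)⟩ : S.H) =
        ⟨(j : C), S.le_H (mem_subgroupOf.1 j.2)⟩ * ⟨(k : C), S.le_H (mem_subgroupOf.1 k.2)⟩ from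
        rfl, wim_mul, ← ht, ← ht', show Jel t * Jel t' = SemidirectProduct.inl
          ((.r t.1, .r t.2.1, .r t.2.2) * (.r t'.1, .r t'.2.1, .r t'.2.2)) from
        (map_mul _ _ _).symm]
      rfl)
  set φ := MonoidHom.transfer ϕ
  have hca : φ ca ≠ 1 := by
    have key : ∀ (k : ℕ) (g₀ : C), g₀⁻¹ * ca ^ k * g₀ ∈ J' → g₀⁻¹ * ca ^ k * g₀ = ca ^ k :=
      fun k g₀ _ => by
        have hcomm : Commute g₀ ca := hcen g₀
        rw [mul_assoc, ← (hcomm.pow_right k).eq, inv_mul_cancel_left]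
    have hcaJ : ca ∈ J' := hZJ (mem_zpowers ca)
    rw [MonoidHom.transfer_eq_pow ϕ ca key,
      show (⟨ca ^ J'.index, _⟩ : J') = ⟨ca, hcaJ⟩ ^ J'.index from Subtype.ext rfl, map_pow]
    intro h
    have h1 : ϕ ⟨ca, hcaJ⟩ = Multiplicative.ofAdd (1 : ZMod 3) := by
      show Multiplicative.ofAdd (rotE (wim S.e ⟨S.a, _⟩).left.1) = _
      rw [S.wim_a]
      rfl
    rw [h1, ← orderOf_dvd_iff_pow_eq_one, orderOf_eq_prime (p := 3) zmod_three_facts.1 zmod_three_facts.2.1,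
      ← hidxE] at h
    exact h3E h
  have hsurj : ∀ x : C, ∃ k : ℕ, (ca ^ k)⁻¹ * x ∈ φ.ker := fun x => by
    obtain ⟨k, hk⟩ := zmod_three_facts.2.2.1 _ (φ x) hca
    exact ⟨k, by rw [MonoidHom.mem_ker, map_mul, map_inv, map_pow, hk, inv_mul_cancel]⟩
  have hdisj : ∀ x ∈ φ.ker, π x = 1 → x = 1 := by
    intro x hx h1
    obtain ⟨i, hi⟩ := S.mem_zpowers_a.1 ((hπ1 x).1 h1)
    have hxe : x = ca ^ i.val := Subtype.ext (by rw [Subgroup.coe_pow]; exact hi)
    rw [MonoidHom.mem_ker, hxe, map_pow] at hx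
    rw [hxe, zmod_three_facts.2.2.2 _ i hca hx]
    simp
  refine ⟨φ.ker.map C.subtype, map_subtype_le _, ?_, ?_, ?_⟩
  · rintro ⟨x, hx, hxa⟩
    exact hca (by rwa [show x = ca from Subtype.ext hxa, SetLike.mem_coe, MonoidHom.mem_ker] at hx)
  · refine le_antisymm (sup_le (zpowers_le.2 ca.2) (map_subtype_le _)) fun x hx => ?_
    obtain ⟨k, hk⟩ := hsurj ⟨x, hx⟩
    rw [show x = S.a ^ k * ((((ca ^ k)⁻¹ * ⟨x, hx⟩ : C)) : G) by push_cast; simp [ca]]
    exact mul_mem (mem_sup_left (pow_mem (mem_zpowers _) _)) (mem_sup_right (mem_map_of_mem _ hk))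
  · refine ⟨(φ.ker.equivMapOfInjective _ C.subtype_injective).symm.trans
      ((MulEquiv.ofBijective (π.comp φ.ker.subtype) ⟨?_, fun q => ?_⟩).trans ε)⟩
    · exact (injective_iff_map_eq_one _).2 fun x hx => Subtype.ext (hdisj x x.2 hx)
    · obtain ⟨x, rfl⟩ := hπs q
      obtain ⟨k, hk⟩ := hsurj x
      refine ⟨⟨_, hk⟩, ?_⟩
      show π ((ca ^ k)⁻¹ * x) = π x
      rw [map_mul, map_inv, map_pow, (hπ1 ca).2 (mem_zpowers _), one_pow, inv_one, one_mul]

end

/-- The centralizer of `a` lies in `H` or is `<a>` times the alternating group of degree 6. -/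
theorem centralizer_a_cases [Finite G] (hB : centralizer ({S.b} : Set G) ≤ S.H) :
    centralizer ({S.a} : Set G) ≤ S.H ∨
      ∃ L : Subgroup G, L ≤ centralizer ({S.a} : Set G) ∧ S.a ∉ L ∧
        zpowers S.a ⊔ L = centralizer ({S.a} : Set G) ∧
          Nonempty (L ≃* alternatingGroup (Fin 6)) :=
  S.centralizer_a_cases_of hB S.centralizer_c_le S.fusion

end Setup

end CfsgLib.AltNine
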