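import Cfsg.Agent.Lib.Recognition.AltNine.Isometry
import Cfsg.Agent.Lib.PCore.Basic
import Mathlib.GroupTheory.Transfer
import Mathlib.GroupTheory.Sylow
import Mathlib.Tactic.Group

/-!
# A self-centralising `E₉` outside one line

A Sylow 3-subgroup `E` of order 9 of a finite group, inverted by an involution in a normalizer
of order 18, with `C(d) = E` outside the line of `u`, and no normal subgroup of order prime to 3:
then `E` is normal.  The proof uses one exceptional character relation.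
-/

set_option autoImplicit false
set_option linter.unusedSectionVars false
set_option linter.style.haveILetI false
set_option linter.unusedVariables false

namespace CfsgLib.AltNine

open Cfsg CfsgLib.Characters CfsgLib.ClassCount
open scoped ComplexConjugate Pointwise

universe u

/-- The hypotheses. -/
structure Lines (X : Type u) [Group X] where
  /-- The subgroup of order nine. -/
  E : Subgroup X
  /-- A generator of the special line. -/
  u : X
  /-- An element inverting `E`. -/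
  t : X
  card_E : Nat.card E = 9
  comm : ∀ a ∈ E, ∀ b ∈ E, a * b = b * a
  cube : ∀ a ∈ E, a * a * a = 1
  u_mem : u ∈ E
  u_ne : u ≠ 1
  t_notMem : t ∉ E
  inv_t : ∀ e ∈ E, t * e * t⁻¹ = e⁻¹
  norm : ∀ g, (∀ e ∈ E, g * e * g⁻¹ ∈ E) → g ∈ E ∨ g * t⁻¹ ∈ E
  cent : ∀ d ∈ E, d ∉ Subgroup.zpowers u → ∀ g, g * d = d * g → g ∈ E
  core : ∀ O : Subgroup X, O.Normal → ¬ 3 ∣ Nat.card O → O = ⊥

theorem inv_eq_mul_self {G : Type*} [Group G] {x : G} (h : x * x * x = 1) : x⁻¹ = x * x :=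
  inv_eq_of_mul_eq_one_right (by rw [← mul_assoc, h])

theorem zpowers_cases {G : Type*} [Group G] {x y : G} (h : x * x * x = 1)
    (hy : y ∈ Subgroup.zpowers x) : y = 1 ∨ y = x ∨ y = x⁻¹ := by
  obtain ⟨k, rfl⟩ := Subgroup.mem_zpowers_iff.1 hy
  have h3 : x ^ (3 : ℤ) = 1 := by
    rw [show (3 : ℤ) = 1 + 1 + 1 from rfl, zpow_add, zpow_add, zpow_one, h]
  have hk : x ^ k = x ^ (k % 3) := by
    conv_lhs => rw [← Int.emod_add_mul_ediv k 3, zpow_add, zpow_mul, h3, one_zpow, mul_one]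
  rw [hk]
  rcases (by omega : k % 3 = 0 ∨ k % 3 = 1 ∨ k % 3 = 2) with e | e | e <;> rw [e]
  · exact .inl (zpow_zero x)
  · exact .inr (.inl (zpow_one x))
  · refine .inr (.inr ?_)
    rw [show (2 : ℤ) = 1 + 1 from rfl, zpow_add, zpow_one, inv_eq_mul_self h]

theorem exists_conj_mem_sylow {G : Type*} [Group G] [Finite G] (P : Sylow 3 G) {y : G} {n : ℕ}
    (hy : y ^ 3 ^ n = 1) : ∃ g : G, g * y * g⁻¹ ∈ (P : Subgroup G) := by
  haveI : Fact (Nat.Prime 3) := ⟨Nat.prime_three⟩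
  have hP : IsPGroup 3 (Subgroup.zpowers y) := by
    intro z
    refine ⟨n, ?_⟩
    obtain ⟨z, hz⟩ := z
    obtain ⟨k, rfl⟩ := Subgroup.mem_zpowers_iff.1 hz
    refine Subtype.ext ?_
    rw [Subgroup.coe_pow, OneMemClass.coe_one, ← zpow_natCast, ← zpow_mul, mul_comm, zpow_mul,
      zpow_natCast, hy, one_zpow]
  obtain ⟨Q, hQ⟩ := hP.exists_le_sylow
  obtain ⟨g, hg⟩ := MulAction.exists_smul_eq G Q P
  refine ⟨g, ?_⟩
  rw [← hg]
  exact Subgroup.smul_mem_pointwise_smul y (MulAut.conj g) _ (hQ (Subgroup.mem_zpowers y))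

theorem exists_ker (X : Type*) [Group X] [Finite X] (χ : IrrCharacter X) :
    ∃ M : Subgroup X, M.Normal ∧ ∀ g, g ∈ M ↔ (χ : X → ℂ) g = (χ : X → ℂ) 1 := by
  obtain ⟨c, n, ρ, hρ, rfl⟩ := χ
  refine ⟨MonoidHom.ker ρ, inferInstance, fun g => ?_⟩
  rw [MonoidHom.mem_ker]
  constructor
  · intro h
    simp [Representation.character, h]
  · intro h
    exact (char_eq_degree_iff ρ g).1 (h.trans (Representation.char_one ρ))

theorem exists_two_of_sq_sum {α : Type*} (s : Finset α) (m : α → ℤ) (h : ∑ i ∈ s, m i ^ 2 = 2) :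
    ∃ i ∈ s, ∃ j ∈ s, i ≠ j ∧ m i ^ 2 = 1 ∧ m j ^ 2 = 1 ∧
      ∀ k ∈ s, k ≠ i → k ≠ j → m k = 0 := by
  classical
  have key : ∀ (t : Finset α) (r : ℤ), r ≤ 2 → 1 ≤ r → ∑ i ∈ t, m i ^ 2 = r →
      ∃ i ∈ t, m i ^ 2 = 1 ∧ ∑ k ∈ t.erase i, m k ^ 2 = r - 1 := by
    intro t r h2 h1 ht
    obtain ⟨i, hi, hne⟩ : ∃ i ∈ t, m i ≠ 0 := by
      by_contra! hz
      rw [Finset.sum_eq_zero fun i hi => by rw [hz i hi]; rfl] at ht
      omega
    have hsplit := Finset.add_sum_erase t (fun k => m k ^ 2) hi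
    rw [ht] at hsplit
    have hnn : 0 ≤ ∑ k ∈ t.erase i, m k ^ 2 := Finset.sum_nonneg fun k _ => sq_nonneg _
    have hle : m i ^ 2 ≤ 2 := by linarith
    have h01 : m i = 1 ∨ m i = -1 := by
      have : -2 < m i ∧ m i < 2 := by constructor <;> nlinarith
      omega
    have hsq : m i ^ 2 = 1 := by rcases h01 with e | e <;> rw [e] <;> rfl
    exact ⟨i, hi, hsq, by linarith⟩
  obtain ⟨i, hi, hisq, hr⟩ := key s 2 le_rfl (by norm_num) h
  obtain ⟨j, hj, hjsq, hr'⟩ := key _ (2 - 1) (by norm_num) (by norm_num) hr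
  obtain ⟨hji, hjs⟩ := Finset.mem_erase.1 hj
  refine ⟨i, hi, j, hjs, fun e => hji e.symm, hisq, hjsq, fun k hk hki hkj => ?_⟩
  exact eq_zero_of_pow_eq_zero ((Finset.sum_eq_zero_iff_of_nonneg fun k _ => sq_nonneg (m k)).1
    (by simpa using hr') k (Finset.mem_erase.2 ⟨hkj, Finset.mem_erase.2 ⟨hki, hk⟩⟩))

theorem factorization_of_dvd {n a : ℕ} (hn : n ≠ 0) (h1 : 3 ^ a ∣ n) (h2 : ¬ 3 ^ (a + 1) ∣ n) :
    n.factorization 3 = a := by
  rw [Nat.Prime.pow_dvd_iff_le_factorization Nat.prime_three hn] at h1 h2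
  omega

namespace Lines

variable {X : Type u} [Group X] (Ln : Lines X)

/-- The set outside the special line. -/
def D : Set X := {x | x ∈ Ln.E ∧ x ∉ Subgroup.zpowers Ln.u}

theorem u_cube : Ln.u * Ln.u * Ln.u = 1 := Ln.cube _ Ln.u_mem

theorem zpowers_le : Subgroup.zpowers Ln.u ≤ Ln.E := Subgroup.zpowers_le.2 Ln.u_mem

theorem orderOf_u : orderOf Ln.u = 3 :=
  haveI : Fact (Nat.Prime 3) := ⟨Nat.prime_three⟩
  orderOf_eq_prime (by rw [pow_three, ← mul_assoc, Ln.u_cube]) Ln.u_ne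

theorem inv_t' {e : X} (he : e ∈ Ln.E) : Ln.t⁻¹ * e * Ln.t = e⁻¹ := by
  have h := Ln.inv_t _ (inv_mem he)
  rw [inv_inv] at h
  conv_lhs => rw [← h]
  group

theorem tt : Ln.t * Ln.t = 1 := by
  have hmem : Ln.t * Ln.t ∈ Ln.E := by
    rcases Ln.norm (Ln.t * Ln.t) (fun e he => by
      rw [show Ln.t * Ln.t * e * (Ln.t * Ln.t)⁻¹ = Ln.t * (Ln.t * e * Ln.t⁻¹) * Ln.t⁻¹ by group,
        Ln.inv_t e he, Ln.inv_t _ (inv_mem he), inv_inv]
      exact he) with h | h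
    · exact h
    · exact absurd (by rwa [mul_inv_cancel_right] at h) Ln.t_notMem
  have h := Ln.inv_t _ hmem
  rw [show Ln.t * (Ln.t * Ln.t) * Ln.t⁻¹ = Ln.t * Ln.t by group] at h
  have h2 : Ln.t * Ln.t * (Ln.t * Ln.t) = 1 := by
    nth_rewrite 1 [h]
    exact inv_mul_cancel _
  calc Ln.t * Ln.t = Ln.t * Ln.t * (Ln.t * Ln.t * (Ln.t * Ln.t)) := by rw [h2, mul_one]
    _ = 1 := by rw [← mul_assoc]; exact Ln.cube _ hmem

theorem t_inv : Ln.t⁻¹ = Ln.t := inv_eq_of_mul_eq_one_right Ln.tt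

theorem mul_t_notMem {e : X} (he : e ∈ Ln.E) : e * Ln.t ∉ Ln.E := fun h => Ln.t_notMem (by
  have := mul_mem (inv_mem he) h
  rwa [inv_mul_cancel_left] at this)

/-- The normalizer. -/
def N : Subgroup X := Subgroup.normalizer (Ln.E : Set X)

theorem E_le_N : Ln.E ≤ Ln.N := Subgroup.le_normalizer

theorem t_mem_N : Ln.t ∈ Ln.N := by
  refine Subgroup.mem_normalizer_iff.2 fun x => ⟨fun hx => ?_, fun hx => ?_⟩
  · rw [Ln.inv_t x hx]; exact inv_mem hx
  · have := Ln.inv_t' hx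
    rw [show Ln.t⁻¹ * (Ln.t * x * Ln.t⁻¹) * Ln.t = x by group] at this
    rw [this]; exact inv_mem hx

theorem mem_N_of {g : X} (h : ∀ e ∈ Ln.E, g * e * g⁻¹ ∈ Ln.E) : g ∈ Ln.N := by
  rcases Ln.norm g h with h' | h'
  · exact Ln.E_le_N h'
  · rw [show g = g * Ln.t⁻¹ * Ln.t by group]
    exact mul_mem (Ln.E_le_N h') Ln.t_mem_N

theorem N_cases {g : X} (hg : g ∈ Ln.N) : g ∈ Ln.E ∨ g * Ln.t⁻¹ ∈ Ln.E :=
  Ln.norm g fun e he => ((Subgroup.mem_normalizer_iff.1 hg) e).1 he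

theorem N_cases' {g : X} (hg : g ∈ Ln.N) : g ∈ Ln.E ∨ ∃ e ∈ Ln.E, g = e * Ln.t :=
  (Ln.N_cases hg).imp id fun h => ⟨g * Ln.t⁻¹, h, by group⟩

theorem conj_cases {g e : X} (hg : g ∈ Ln.N) (he : e ∈ Ln.E) :
    g * e * g⁻¹ = e ∨ g * e * g⁻¹ = e⁻¹ := by
  rcases Ln.N_cases' hg with h | ⟨f, hf, rfl⟩
  · exact .inl (by rw [Ln.comm g h e he, mul_inv_cancel_right])
  · refine .inr ?_
    rw [show f * Ln.t * e * (f * Ln.t)⁻¹ = f * (Ln.t * e * Ln.t⁻¹) * f⁻¹ by group,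
      Ln.inv_t e he, Ln.comm f hf _ (inv_mem he), mul_inv_cancel_right]

theorem mem_N_of_fus {d g : X} (hd : d ∈ Ln.D) (h : g * d * g⁻¹ ∈ Ln.E) : g ∈ Ln.N := by
  refine inv_mem_iff.1 (Ln.mem_N_of fun e he => ?_)
  rw [inv_inv]
  refine Ln.cent d hd.1 hd.2 _ ?_
  calc g⁻¹ * e * g * d = g⁻¹ * (e * (g * d * g⁻¹)) * g := by group
    _ = g⁻¹ * (g * d * g⁻¹ * e) * g := by rw [Ln.comm e he _ h]
    _ = d * (g⁻¹ * e * g) := by group

theorem conj_mem_D {d g : X} (hd : d ∈ Ln.D) (h : g * d * g⁻¹ ∈ Ln.E) : g * d * g⁻¹ ∈ Ln.D := by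
  refine ⟨h, fun hL => hd.2 ?_⟩
  rcases Ln.conj_cases (Ln.mem_N_of_fus hd h) hd.1 with e | e <;> rw [e] at hL
  · exact hL
  · exact inv_mem_iff.1 hL

theorem not_conj_u {d g : X} (hd : d ∈ Ln.D) : g * d * g⁻¹ ∉ Subgroup.zpowers Ln.u := fun h =>
  (Ln.conj_mem_D hd (Ln.zpowers_le h)).2 h

theorem conj_u_mem {g : X} (h : g * Ln.u * g⁻¹ ∈ Ln.E) :
    g * Ln.u * g⁻¹ ∈ Subgroup.zpowers Ln.u := by
  by_contra hn
  refine Ln.not_conj_u (d := g * Ln.u * g⁻¹) (g := g⁻¹) ⟨h, hn⟩ ?_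
  rw [show g⁻¹ * (g * Ln.u * g⁻¹) * g⁻¹⁻¹ = Ln.u by group]
  exact Subgroup.mem_zpowers _

theorem special : SpecialSet Ln.N Ln.D where
  le d hd := Ln.E_le_N hd.1
  fus x d hd h := Ln.mem_N_of_fus hd h.1
  inv d hd := ⟨inv_mem hd.1, fun h => hd.2 (inv_mem_iff.1 h)⟩

theorem sum_N [Fintype X] [Fintype Ln.N] [DecidablePred (· ∈ Ln.E)] {β : Type*} [AddCommMonoid β]
    (φ : X → β) :
    ∑ x : Ln.N, φ x = ∑ f ∈ Finset.univ.filter (· ∈ Ln.E), φ f +
      ∑ f ∈ Finset.univ.filter (· ∈ Ln.E), φ (f * Ln.t) := by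
  classical
  rw [← Finset.sum_subtype (Finset.univ.filter (· ∈ Ln.N)) (fun x => by simp) φ,
    ← Finset.sum_image (g := fun f => f * Ln.t) (f := φ)
      (fun _ _ _ _ e => mul_right_cancel e),
    ← Finset.sum_union]
  · refine Finset.sum_congr (Finset.ext fun x => ?_) fun _ _ => rfl
    simp only [Finset.mem_filter, Finset.mem_univ, true_and, Finset.mem_union, Finset.mem_image]
    constructor
    · intro h
      rcases Ln.N_cases' h with h' | ⟨f, hf, rfl⟩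
      · exact .inl h'
      · exact .inr ⟨f, hf, rfl⟩
    · rintro (h | ⟨f, hf, rfl⟩)
      · exact Ln.E_le_N h
      · exact mul_mem (Ln.E_le_N hf) Ln.t_mem_N
  · rw [Finset.disjoint_left]
    simp only [Finset.mem_filter, Finset.mem_univ, true_and, Finset.mem_image]
    rintro x hx ⟨f, hf, rfl⟩
    exact Ln.mul_t_notMem hf hx

theorem card_filter_E [Fintype X] [DecidablePred (· ∈ Ln.E)] :
    (Finset.univ.filter (· ∈ Ln.E)).card = 9 := by
  rw [← Ln.card_E, Nat.subtype_card (Finset.univ.filter (· ∈ Ln.E)) (fun x => by simp)]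

theorem card_filter_L [Fintype X] [DecidablePred (· ∈ Subgroup.zpowers Ln.u)]
    [DecidablePred (· ∈ Ln.E)] :
    ((Finset.univ.filter (· ∈ Ln.E)).filter (· ∈ Subgroup.zpowers Ln.u)).card = 3 := by
  rw [← Ln.orderOf_u, ← Nat.card_zpowers,
    Nat.subtype_card (Finset.univ.filter (· ∈ Subgroup.zpowers Ln.u)) (fun x => by simp),
    Finset.filter_filter]
  refine congrArg Finset.card (Finset.filter_congr fun x _ => ?_)
  exact ⟨fun h => h.2, fun h => ⟨Ln.zpowers_le h, h⟩⟩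

theorem card_N [Finite X] : Nat.card Ln.N = 18 := by
  classical
  haveI := Fintype.ofFinite X
  haveI := Fintype.ofFinite Ln.N
  rw [Nat.card_eq_fintype_card, Fintype.card_eq_sum_ones, Ln.sum_N (fun _ => 1)]
  simp [Ln.card_filter_E]

include Ln in
theorem not_27_dvd [Finite X] : ¬ 27 ∣ Nat.card X := by
  intro h
  haveI : Fact (Nat.Prime 3) := ⟨Nat.prime_three⟩
  have h2 : 3 ^ (2 + 1) ∣ Nat.card Ln.N :=
    Sylow.prime_pow_dvd_card_normalizer (n := 2) h Ln.card_E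
  rw [Ln.card_N] at h2
  norm_num at h2

theorem exists_sylow [Finite X] (C : Subgroup X) (hC : Ln.E ≤ C) :
    ∃ P : Sylow 3 C, (P : Subgroup C) = Ln.E.subgroupOf C := by
  haveI : Fact (Nat.Prime 3) := ⟨Nat.prime_three⟩
  have h9 : Nat.card (Ln.E.subgroupOf C) = 9 := by
    rw [Nat.card_congr (Subgroup.subgroupOfEquivOfLe hC).toEquiv, Ln.card_E]
  have hf : (Nat.card C).factorization 3 = 2 :=
    factorization_of_dvd Nat.card_pos.ne'
      (by rw [show (3 : ℕ) ^ 2 = 9 from rfl, ← h9]; exact Subgroup.card_subgroup_dvd_card _)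
      fun h => Ln.not_27_dvd (h.trans C.card_subgroup_dvd_card)
  exact ⟨Sylow.ofCard _ (h9.trans (by rw [hf]; rfl)), Sylow.coe_ofCard _ _⟩

theorem exists_conj_E [Finite X] (C : Subgroup X) (hC : Ln.E ≤ C) {y : X} (hy : y ∈ C) {n : ℕ}
    (h : y ^ 3 ^ n = 1) : ∃ g ∈ C, g * y * g⁻¹ ∈ Ln.E := by
  obtain ⟨P, hP⟩ := Ln.exists_sylow C hC
  obtain ⟨g, hg⟩ := exists_conj_mem_sylow P (y := (⟨y, hy⟩ : C)) (n := n) (Subtype.ext (by simpa))
  rw [hP] at hg
  exact ⟨g, g.2, by simpa [Subgroup.mem_subgroupOf] using hg⟩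

theorem exists_hom [Finite X] (C : Subgroup X) (hC : Ln.E ≤ C)
    (hNC : ∀ g ∈ C, (∀ e ∈ Ln.E, g * e * g⁻¹ ∈ Ln.E) → g ∈ Ln.E) :
    ∃ f : C →* Ln.E, (∀ e (he : e ∈ Ln.E), f ⟨e, hC he⟩ = 1 → e = 1) ∧
      (∀ z : Ln.E, ∃ e, ∃ he : e ∈ Ln.E, f ⟨e, hC he⟩ = z) ∧ ¬ 3 ∣ Nat.card f.ker := by
  haveI : Fact (Nat.Prime 3) := ⟨Nat.prime_three⟩
  obtain ⟨P, hP⟩ := Ln.exists_sylow C hC
  have hmemP : ∀ x : C, x ∈ (P : Subgroup C) ↔ (x : X) ∈ Ln.E := fun x => by
    rw [hP, Subgroup.mem_subgroupOf]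
  have hNP : Subgroup.normalizer ((P : Subgroup C) : Set C) ≤
      Subgroup.centralizer ((P : Subgroup C) : Set C) := by
    intro g hg
    have hgE : (g : X) ∈ Ln.E := hNC g g.2 fun e he => by
      have := ((Subgroup.mem_normalizer_iff.1 hg) ⟨e, hC he⟩).1 ((hmemP _).2 he)
      exact (hmemP _).1 this
    refine Subgroup.mem_centralizer_iff.2 fun x hx => Subtype.ext ?_
    exact Ln.comm _ ((hmemP x).1 hx) _ hgE
  let tr := MonoidHom.transferSylow P hNP
  let f : C →* Ln.E :=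
    ((C.subtype).comp ((P : Subgroup C).subtype.comp tr)).codRestrict Ln.E
      fun x => (hmemP _).1 (tr x).2
  have hker : f.ker = tr.ker := by
    ext x
    simp only [MonoidHom.mem_ker]
    exact ⟨fun h => Subtype.ext (Subtype.ext (congrArg Subtype.val h : ((tr x : C) : X) = 1)),
      fun h => Subtype.ext (show ((tr x : C) : X) = 1 by rw [h]; rfl)⟩
  have hinj : ∀ e (he : e ∈ Ln.E), f ⟨e, hC he⟩ = 1 → e = 1 := by
    intro e he h
    have hk : (⟨e, hC he⟩ : C) ∈ tr.ker := by rw [← hker]; exact h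
    have hd := (MonoidHom.ker_transferSylow_isComplement' P hNP).disjoint
    exact Subtype.ext_iff.1 (Subgroup.disjoint_def.1 hd hk ((hmemP _).2 he))
  refine ⟨f, hinj, ?_, hker ▸ MonoidHom.not_dvd_card_ker_transferSylow P hNP⟩
  let r : Ln.E →* Ln.E := f.comp (Subgroup.inclusion hC)
  have hr : Function.Injective r := (injective_iff_map_eq_one r).2 fun z hz =>
    Subtype.ext (hinj z z.2 hz)
  intro z
  obtain ⟨w, hw⟩ := Finite.injective_iff_surjective.1 hr z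
  exact ⟨w, w.2, hw⟩

theorem mem_C_of_mem {x : X} (hx : x ∈ Ln.E) :
    x ∈ Subgroup.centralizer ({Ln.u} : Set X) :=
  Subgroup.mem_centralizer_singleton_iff.2 (Ln.comm x hx _ Ln.u_mem)

theorem norm_in_Cu : ∀ g ∈ Subgroup.centralizer ({Ln.u} : Set X),
    (∀ e ∈ Ln.E, g * e * g⁻¹ ∈ Ln.E) → g ∈ Ln.E := by
  intro g hg h
  rcases Ln.norm g h with h' | h'
  · exact h'
  · exfalso
    have ht : Ln.t ∈ Subgroup.centralizer ({Ln.u} : Set X) := by
      rw [show Ln.t = (g * Ln.t⁻¹)⁻¹ * g by group]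
      exact mul_mem (inv_mem (Ln.mem_C_of_mem h')) hg
    have h1 := Ln.inv_t _ Ln.u_mem
    rw [Subgroup.mem_centralizer_singleton_iff.1 ht, mul_inv_cancel_right] at h1
    have h2 := Ln.u_cube
    rw [mul_assoc, ← inv_eq_mul_self Ln.u_cube, ← h1] at h2
    exact Ln.u_ne (by
      calc Ln.u = Ln.u * Ln.u * Ln.u := by rw [h2, one_mul]
        _ = 1 := Ln.u_cube)

variable [Finite X]

/-- The subgroup of the images of the special line. -/
def FL (f : Subgroup.centralizer ({Ln.u} : Set X) →* Ln.E) : Subgroup Ln.E :=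
  ((Subgroup.zpowers Ln.u).subgroupOf (Subgroup.centralizer ({Ln.u} : Set X))).map f

theorem mem_L_of_FL {f : Subgroup.centralizer ({Ln.u} : Set X) →* Ln.E}
    (hf : ∀ e (he : e ∈ Ln.E), f ⟨e, Ln.mem_C_of_mem he⟩ = 1 → e = 1) {e : X} (he : e ∈ Ln.E)
    (h : f ⟨e, Ln.mem_C_of_mem he⟩ ∈ Ln.FL f) : e ∈ Subgroup.zpowers Ln.u := by
  obtain ⟨⟨l, hlC⟩, hl, hfl⟩ := Subgroup.mem_map.1 h
  have hlL : l ∈ Subgroup.zpowers Ln.u := hl
  have : e * l⁻¹ = 1 := hf _ (mul_mem he (inv_mem (Ln.zpowers_le hlL))) (by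
    rw [show (⟨e * l⁻¹, Ln.mem_C_of_mem (mul_mem he (inv_mem (Ln.zpowers_le hlL)))⟩ :
        Subgroup.centralizer ({Ln.u} : Set X)) = ⟨e, Ln.mem_C_of_mem he⟩ * ⟨l, hlC⟩⁻¹ from rfl,
      map_mul, map_inv, hfl, mul_inv_cancel])
  rwa [mul_inv_eq_one.1 this]

theorem apply_conj (f : Subgroup.centralizer ({Ln.u} : Set X) →* Ln.E)
    (g y : Subgroup.centralizer ({Ln.u} : Set X)) : f (g * y * g⁻¹) = f y := by
  refine Subtype.ext ?_
  rw [map_mul, map_mul, map_inv, Subgroup.coe_mul, Subgroup.coe_mul, Subgroup.coe_inv,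
    Ln.comm _ (f g).2 _ (f y).2, mul_inv_cancel_right]

/-- Two conjugates of `u` do not multiply into `D`. -/
theorem triangle {p q : X} (hp : IsConj Ln.u p) (hq : IsConj Ln.u q) : p * q ∉ Ln.D := by
  classical
  haveI : Fact (Nat.Prime 3) := ⟨Nat.prime_three⟩
  intro hd
  obtain ⟨gp, hgp⟩ := isConj_iff.1 hp
  obtain ⟨gq, hgq⟩ := isConj_iff.1 hq
  have cube_conj : ∀ g : X, g * Ln.u * g⁻¹ * (g * Ln.u * g⁻¹) * (g * Ln.u * g⁻¹) = 1 := fun g => by
    rw [show g * Ln.u * g⁻¹ * (g * Ln.u * g⁻¹) * (g * Ln.u * g⁻¹) =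
      g * (Ln.u * Ln.u * Ln.u) * g⁻¹ by group, Ln.u_cube, mul_one, mul_inv_cancel]
  have p3 : p * p * p = 1 := hgp ▸ cube_conj gp
  have q3 : q * q * q = 1 := hgq ▸ cube_conj gq
  have d3 : p * q * (p * q) * (p * q) = 1 := Ln.cube _ hd.1
  -- the translations
  obtain ⟨a, ha⟩ : ∃ a, a = p * q⁻¹ := ⟨_, rfl⟩
  obtain ⟨b, hb⟩ : ∃ b, b = q⁻¹ * p := ⟨_, rfl⟩
  have hpqp : p * q * p = (q * p * q)⁻¹ :=
    eq_inv_of_mul_eq_one_left (by rw [← d3]; group)
  have hab : a * b = b * a := by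
    calc a * b = p * (q⁻¹ * q⁻¹) * p := by rw [ha, hb]; group
      _ = p * q * p := by rw [← mul_inv_rev, inv_eq_of_mul_eq_one_left (by rw [← mul_assoc, q3] :
            q * (q * q) = 1)]
      _ = q⁻¹ * p⁻¹ * q⁻¹ := by rw [hpqp]; group
      _ = q⁻¹ * (p * p) * q⁻¹ := by rw [inv_eq_mul_self p3]
      _ = b * a := by rw [ha, hb]; group
  have hpa : p * a * p⁻¹ = (a * b)⁻¹ := by
    calc p * a * p⁻¹ = p * p * q⁻¹ * p⁻¹ := by rw [ha]; group
      _ = p⁻¹ * q⁻¹ * p⁻¹ := by rw [← inv_eq_mul_self p3]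
      _ = (p * q * p)⁻¹ := by group
      _ = (p * (q⁻¹ * q⁻¹) * p)⁻¹ := by rw [← mul_inv_rev,
            inv_eq_of_mul_eq_one_left (by rw [← mul_assoc, q3] : q * (q * q) = 1)]
      _ = (a * b)⁻¹ := by rw [ha, hb]; group
  have hpb : p * b * p⁻¹ = a := by rw [ha, hb]; group
  let K : Subgroup X := Subgroup.closure {a, b}
  have haK : a ∈ K := Subgroup.subset_closure (by simp)
  have hbK : b ∈ K := Subgroup.subset_closure (by simp)
  have hKc : ∀ x ∈ K, ∀ y ∈ K, x * y = y * x := by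
    have h1 : K ≤ Subgroup.centralizer ({a, b} : Set X) := by
      refine (Subgroup.closure_le _).2 ?_
      rintro x (rfl | rfl) <;> refine Subgroup.mem_centralizer_iff.2 ?_ <;>
        rintro y (rfl | rfl) <;> first | rfl | exact hab | exact hab.symm
    have h2 : K ≤ Subgroup.centralizer (K : Set X) := by
      refine (Subgroup.closure_le _).2 fun x hx => Subgroup.mem_centralizer_iff.2 fun y hy => ?_
      exact (Subgroup.mem_centralizer_iff.1 (h1 hy) x hx).symm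
    exact fun x hx y hy => (Subgroup.mem_centralizer_iff.1 (h2 hy) x hx)
  have hKp : ∀ x ∈ K, p * x * p⁻¹ ∈ K := by
    have : K ≤ K.comap (MulAut.conj p).toMonoidHom := by
      refine (Subgroup.closure_le _).2 ?_
      rintro x (rfl | rfl) <;> rw [SetLike.mem_coe, Subgroup.mem_comap]
      · show p * x * p⁻¹ ∈ K
        rw [hpa]; exact inv_mem (mul_mem haK hbK)
      · show p * x * p⁻¹ ∈ K
        rw [hpb]; exact haK
    exact fun x hx => this hx
  by_cases h3 : 3 ∣ Nat.card K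
  · -- a fixed point of order three
    obtain ⟨k0, hk0⟩ := exists_prime_orderOf_dvd_card' 3 h3
    obtain ⟨k, hkK, hk1, hk3, hkp⟩ : ∃ k ∈ K, k ≠ 1 ∧ k * k * k = 1 ∧ p * k * p⁻¹ = k := by
      have c0 : (k0 : X) * k0 * k0 = 1 := by
        have h := pow_orderOf_eq_one k0
        rw [hk0, pow_three, ← mul_assoc] at h
        exact congrArg Subtype.val h
      have n0 : (k0 : X) ≠ 1 := fun h => by
        rw [show k0 = 1 from Subtype.ext h, orderOf_one] at hk0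
        omega
      obtain ⟨k1, hk1⟩ : ∃ k1, k1 = p * (k0 : X) * p⁻¹ := ⟨_, rfl⟩
      obtain ⟨k2, hk2⟩ : ∃ k2, k2 = p * k1 * p⁻¹ := ⟨_, rfl⟩
      have m0 : (k0 : X) ∈ K := k0.2
      have m1 : k1 ∈ K := hk1 ▸ hKp _ m0
      have m2 : k2 ∈ K := hk2 ▸ hKp _ m1
      have c1 : k1 * k1 * k1 = 1 := by
        rw [hk1, show p * (k0 : X) * p⁻¹ * (p * k0 * p⁻¹) * (p * k0 * p⁻¹) =
          p * (k0 * k0 * k0) * p⁻¹ by group, c0, mul_one, mul_inv_cancel]
      have c2 : k2 * k2 * k2 = 1 := by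
        rw [hk2, show p * k1 * p⁻¹ * (p * k1 * p⁻¹) * (p * k1 * p⁻¹) =
          p * (k1 * k1 * k1) * p⁻¹ by group, c1, mul_one, mul_inv_cancel]
      have e2 : p * k2 * p⁻¹ = k0 := by
        calc p * k2 * p⁻¹ = p * p * p * (k0 : X) * (p * p * p)⁻¹ := by rw [hk2, hk1]; group
          _ = k0 := by rw [p3]; group
      have cm : ∀ x ∈ K, ∀ y ∈ K, ∀ z : X, x * (y * z) = y * (x * z) := fun x hx y hy z => by
        rw [← mul_assoc, hKc x hx y hy, mul_assoc]
      by_cases hs : (k0 : X) * k1 * k2 = 1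
      · have hk2' : k2 = ((k0 : X) * k1)⁻¹ := eq_inv_of_mul_eq_one_right hs
        by_cases hd' : k1 * (k0 : X)⁻¹ = 1
        · exact ⟨k0, m0, n0, c0, by rw [← hk1, mul_inv_eq_one.1 hd']⟩
        · refine ⟨k1 * (k0 : X)⁻¹, mul_mem m1 (inv_mem m0), hd', ?_, ?_⟩
          · simp only [inv_eq_mul_self c0, mul_assoc, cm _ m0 _ m1]
            simp only [← mul_assoc, c1, one_mul]
            rw [c0, one_mul, c0]
          · calc p * (k1 * (k0 : X)⁻¹) * p⁻¹ = k2 * k1⁻¹ := by rw [hk2, hk1]; group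
              _ = k1⁻¹ * (k0 : X)⁻¹ * k1⁻¹ := by rw [hk2']; group
              _ = k1⁻¹ * k1⁻¹ * (k0 : X)⁻¹ := by
                  rw [mul_assoc, hKc _ (inv_mem m0) _ (inv_mem m1), ← mul_assoc]
              _ = k1 * (k0 : X)⁻¹ := by
                  rw [← mul_inv_rev, ← inv_eq_mul_self c1, inv_inv]
      · refine ⟨(k0 : X) * k1 * k2, mul_mem (mul_mem m0 m1) m2, hs, ?_, ?_⟩
        · simp only [mul_assoc, cm _ m2 _ m0, cm _ m2 _ m1, cm _ m1 _ m0]
          simp only [← mul_assoc, c0, one_mul]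
          rw [c1, one_mul, c2]
        · calc p * ((k0 : X) * k1 * k2) * p⁻¹ = k1 * k2 * (p * k2 * p⁻¹) := by
                rw [hk2, hk1]; group
            _ = (k0 : X) * k1 * k2 := by rw [e2, ← hKc _ m0 _ (mul_mem m1 m2), mul_assoc]
    -- move it into `E`
    have hk9 : k ^ 3 ^ 1 = 1 := by rw [pow_one, pow_three, ← mul_assoc, hk3]
    obtain ⟨x, -, hx⟩ := Ln.exists_conj_E ⊤ le_top (Subgroup.mem_top k) hk9
    have hpk : p * k = k * p := mul_inv_eq_iff_eq_mul.1 hkp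
    have hqk : q * k = k * q := by
      have hq' : q = a⁻¹ * p := by rw [ha]; group
      rw [hq', mul_assoc, hpk, ← mul_assoc, hKc _ (inv_mem haK) _ hkK, mul_assoc]
    have hconjk : ∀ y, y * k = k * y →
        x * y * x⁻¹ * (x * k * x⁻¹) = x * k * x⁻¹ * (x * y * x⁻¹) := fun y hy => by
      calc x * y * x⁻¹ * (x * k * x⁻¹) = x * (y * k) * x⁻¹ := by group
        _ = x * (k * y) * x⁻¹ := by rw [hy]
        _ = x * k * x⁻¹ * (x * y * x⁻¹) := by group
    have hp' : x * p * x⁻¹ = x * gp * Ln.u * (x * gp)⁻¹ := by rw [← hgp]; group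
    have hq' : x * q * x⁻¹ = x * gq * Ln.u * (x * gq)⁻¹ := by rw [← hgq]; group
    have hd' : x * (p * q) * x⁻¹ = x * p * x⁻¹ * (x * q * x⁻¹) := by group
    by_cases hxL : x * k * x⁻¹ ∈ Subgroup.zpowers Ln.u
    · obtain ⟨f, hf, -, -⟩ := Ln.exists_hom (Subgroup.centralizer ({Ln.u} : Set X))
        (fun e he => Ln.mem_C_of_mem he) Ln.norm_in_Cu
      have hmemC : ∀ y, y * k = k * y → x * y * x⁻¹ ∈ Subgroup.centralizer ({Ln.u} : Set X) := by
        intro y hy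
        have hc := hconjk y hy
        refine Subgroup.mem_centralizer_singleton_iff.2 ?_
        have hu : Ln.u ∈ Subgroup.zpowers (x * k * x⁻¹) := by
          rcases zpowers_cases Ln.u_cube hxL with e | e | e
          · exact absurd (conj_eq_one_iff.1 e) hk1
          · rw [e]; exact Subgroup.mem_zpowers _
          · rw [e, Subgroup.zpowers_inv]; exact Subgroup.mem_zpowers _
        obtain ⟨i, hi⟩ := Subgroup.mem_zpowers_iff.1 hu
        rw [← hi]
        exact (Commute.zpow_right hc i)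
      have hFL : ∀ (g : X) (hy : g * Ln.u * g⁻¹ ∈ Subgroup.centralizer ({Ln.u} : Set X)),
          f ⟨g * Ln.u * g⁻¹, hy⟩ ∈ Ln.FL f := by
        intro g hy
        obtain ⟨c, hc, hcE⟩ := Ln.exists_conj_E _ (fun e he => Ln.mem_C_of_mem he) hy (n := 1)
          (by rw [pow_one, pow_three, ← mul_assoc, cube_conj])
        have hL : c * (g * Ln.u * g⁻¹) * c⁻¹ ∈ Subgroup.zpowers Ln.u := by
          rw [show c * (g * Ln.u * g⁻¹) * c⁻¹ = c * g * Ln.u * (c * g)⁻¹ by group] at hcE ⊢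
          exact Ln.conj_u_mem hcE
        rw [← Ln.apply_conj f ⟨c, hc⟩ ⟨g * Ln.u * g⁻¹, hy⟩]
        exact Subgroup.mem_map.2 ⟨_, hL, rfl⟩
      have hpC := hmemC p hpk
      have hqC := hmemC q hqk
      have hdC : x * (p * q) * x⁻¹ ∈ Subgroup.centralizer ({Ln.u} : Set X) := hd' ▸ mul_mem hpC hqC
      have hfd : f ⟨_, hdC⟩ ∈ Ln.FL f := by
        have e : (⟨_, hdC⟩ : Subgroup.centralizer ({Ln.u} : Set X)) =
            ⟨_, hp' ▸ hpC⟩ * ⟨_, hq' ▸ hqC⟩ := Subtype.ext (by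
          show x * (p * q) * x⁻¹ = x * gp * Ln.u * (x * gp)⁻¹ * (x * gq * Ln.u * (x * gq)⁻¹)
          rw [← hp', ← hq', hd'])
        rw [e, map_mul]
        exact mul_mem (hFL _ _) (hFL _ _)
      obtain ⟨c, hc, hcE⟩ := Ln.exists_conj_E _ (fun e he => Ln.mem_C_of_mem he) hdC (n := 1) (by
        rw [pow_one, pow_three, ← mul_assoc, show x * (p * q) * x⁻¹ * (x * (p * q) * x⁻¹) *
          (x * (p * q) * x⁻¹) = x * (p * q * (p * q) * (p * q)) * x⁻¹ by group, d3, mul_one,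
          mul_inv_cancel])
      have hmem := Ln.mem_L_of_FL hf hcE (by
        rw [show (⟨c * (x * (p * q) * x⁻¹) * c⁻¹, Ln.mem_C_of_mem hcE⟩ :
          Subgroup.centralizer ({Ln.u} : Set X)) = ⟨c, hc⟩ * ⟨_, hdC⟩ * ⟨c, hc⟩⁻¹ from rfl,
          Ln.apply_conj]
        exact hfd)
      rw [show c * (x * (p * q) * x⁻¹) * c⁻¹ = c * x * (p * q) * (c * x)⁻¹ by group] at hmem
      exact Ln.not_conj_u hd hmem
    · have hyE : ∀ y, y * k = k * y → x * y * x⁻¹ ∈ Ln.E := fun y hy =>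
        Ln.cent _ hx hxL _ (hconjk y hy)
      refine Ln.not_conj_u (g := x) hd ?_
      rw [hd', hp', hq']
      exact mul_mem (Ln.conj_u_mem (hp' ▸ hyE p hpk)) (Ln.conj_u_mem (hq' ▸ hyE q hqk))
  · -- no fixed point: `pq` is conjugate to a power of `p`
    let P : Subgroup X := Subgroup.zpowers p
    have hpN : P ≤ Subgroup.normalizer (K : Set X) := Subgroup.zpowers_le.2
      (Subgroup.mem_normalizer_fintype (fun x hx => hKp x hx))
    let T : Subgroup X := P ⊔ K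
    have hTset : (T : Set X) = (P : Set X) * (K : Set X) :=
      Subgroup.coe_mul_of_left_le_normalizer_right P K hpN
    have op : orderOf p = 3 := orderOf_eq_prime (by rw [pow_three, ← mul_assoc, p3]) (fun h => by
      rw [← hgp] at h; exact Ln.u_ne (conj_eq_one_iff.1 h))
    have hTcard : Nat.card T ≤ 3 * Nat.card K := by
      rw [← op, ← Nat.card_zpowers, ← Nat.card_prod]
      refine Nat.card_le_card_of_surjective (f := fun z : P × K =>
        (⟨(z.1 : X) * z.2, mul_mem (le_sup_left (a := P) (b := K) z.1.2)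
          (le_sup_right (a := P) (b := K) z.2.2)⟩ : T)) ?_
      rintro ⟨z, hz⟩
      have hz' : z ∈ (P : Set X) * (K : Set X) := hTset ▸ hz
      obtain ⟨y, hy, w, hw, rfl⟩ := hz'
      exact ⟨(⟨y, hy⟩, ⟨w, hw⟩), rfl⟩
    have h3T : 3 ∣ Nat.card T := by
      rw [← op, ← Nat.card_zpowers]; exact Subgroup.card_dvd_of_le le_sup_left
    have hTeq : Nat.card T = 3 * Nat.card K := by
      have hKd : Nat.card K ∣ Nat.card T := Subgroup.card_dvd_of_le le_sup_right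
      have hco : Nat.Coprime 3 (Nat.card K) := (Nat.prime_three.coprime_iff_not_dvd).2 h3
      exact le_antisymm hTcard (Nat.le_of_dvd Nat.card_pos (hco.mul_dvd_of_dvd_of_dvd h3T hKd))
    have hf : (Nat.card T).factorization 3 = 1 :=
      factorization_of_dvd Nat.card_pos.ne' (by simpa using h3T) (by
        rw [hTeq, pow_succ, pow_one]
        exact fun h => h3 (Nat.dvd_of_mul_dvd_mul_left (by norm_num) h))
    have hPT : P ≤ T := le_sup_left
    let S : Sylow 3 T := Sylow.ofCard (P.subgroupOf T) (by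
      rw [hf, pow_one, Nat.card_congr (Subgroup.subgroupOfEquivOfLe hPT).toEquiv, Nat.card_zpowers,
        op])
    have hpqT : p * q ∈ T := by
      rw [show p * q = p * (a⁻¹ * p) by rw [ha]; group]
      exact mul_mem (hPT (Subgroup.mem_zpowers p))
        (mul_mem (inv_mem (le_sup_right (a := P) (b := K) haK)) (hPT (Subgroup.mem_zpowers p)))
    obtain ⟨⟨g, hgT⟩, hg⟩ := exists_conj_mem_sylow S (y := (⟨p * q, hpqT⟩ : T)) (n := 1)
      (Subtype.ext (by rw [pow_one, Subgroup.coe_pow, pow_three, ← mul_assoc]; exact d3))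
    have hgP : g * (p * q) * g⁻¹ ∈ P := by
      rw [Sylow.coe_ofCard, Subgroup.mem_subgroupOf] at hg
      exact hg
    refine Ln.not_conj_u (g := gp⁻¹ * g) hd ?_
    obtain ⟨i, hi⟩ := Subgroup.mem_zpowers_iff.1 hgP
    rw [show gp⁻¹ * g * (p * q) * (gp⁻¹ * g)⁻¹ = gp⁻¹ * (g * (p * q) * g⁻¹) * gp by group, ← hi,
      ← hgp, conj_zpow, show gp⁻¹ * (gp * Ln.u ^ i * gp⁻¹) * gp = Ln.u ^ i by group]
    exact zpow_mem (Subgroup.mem_zpowers _) i

omit [Finite X] in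
/-- The sign of the normalizer. -/
theorem exists_sign : ∃ eps : Ln.N →* ℂ,
    (∀ x : Ln.N, (x : X) ∈ Ln.E → eps x = 1) ∧ ∀ x : Ln.N, (x : X) ∉ Ln.E → eps x = -1 := by
  classical
  refine ⟨{ toFun := fun x => if (x : X) ∈ Ln.E then 1 else -1, map_one' := ?_, map_mul' := ?_ },
    fun x h => if_pos h, fun x h => if_neg h⟩
  · simp [one_mem]
  · rintro ⟨x, hx⟩ ⟨y, hy⟩
    rcases Ln.N_cases' hx with h1 | ⟨e, he, rfl⟩ <;> rcases Ln.N_cases' hy with h2 | ⟨f, hf, rfl⟩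
    · simp [h1, h2, mul_mem h1 h2]
    · simp only [Subgroup.coe_mul, if_pos h1, if_neg (Ln.mul_t_notMem hf)]
      rw [if_neg (by rw [← mul_assoc]; exact Ln.mul_t_notMem (mul_mem h1 hf))]
      ring
    · simp only [Subgroup.coe_mul, if_neg (Ln.mul_t_notMem he), if_pos h2]
      rw [if_neg (by
        rw [show e * Ln.t * y = e * (Ln.t * y * Ln.t⁻¹) * Ln.t by group, Ln.inv_t y h2]
        exact Ln.mul_t_notMem (mul_mem he (inv_mem h2)))]
      ring
    · simp only [Subgroup.coe_mul, if_neg (Ln.mul_t_notMem he), if_neg (Ln.mul_t_notMem hf)]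
      rw [if_pos (by
        rw [show e * Ln.t * (f * Ln.t) = e * (Ln.t * f * Ln.t⁻¹) * (Ln.t * Ln.t) by group,
          Ln.inv_t f hf, Ln.tt, mul_one]
        exact mul_mem he (inv_mem hf))]
      ring

/-- The subgroup of order six of the normalizer containing the line of `u` and `t`. -/
def K6 : Subgroup Ln.N where
  carrier := {x | (x : X) ∈ Subgroup.zpowers Ln.u ∨
    ∃ l ∈ Subgroup.zpowers Ln.u, (x : X) = l * Ln.t}
  one_mem' := .inl (one_mem _)
  inv_mem' := by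
    rintro x (h | ⟨l, hl, h⟩)
    · exact .inl (inv_mem h)
    · refine .inr ⟨l, hl, ?_⟩
      rw [Subgroup.coe_inv, h, mul_inv_rev]
      calc Ln.t⁻¹ * l⁻¹ = Ln.t⁻¹ * l⁻¹ * Ln.t * Ln.t⁻¹ := by group
        _ = l * Ln.t := by rw [Ln.inv_t' (inv_mem (Ln.zpowers_le hl)), inv_inv, Ln.t_inv]
  mul_mem' := by
    rintro x y (h | ⟨l, hl, h⟩) (h' | ⟨m, hm, h'⟩)
    · exact .inl (mul_mem h h')
    · exact .inr ⟨x * m, mul_mem h hm, by rw [Subgroup.coe_mul, h', mul_assoc]⟩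
    · refine .inr ⟨l * (y : X)⁻¹, mul_mem hl (inv_mem h'), ?_⟩
      rw [Subgroup.coe_mul, h, ← Ln.inv_t _ (Ln.zpowers_le h')]
      group
    · refine .inl ?_
      rw [Subgroup.coe_mul, h, h',
        show l * Ln.t * (m * Ln.t) = l * (Ln.t * m * Ln.t⁻¹) * (Ln.t * Ln.t) by group,
        Ln.inv_t m (Ln.zpowers_le hm), Ln.tt, mul_one]
      exact mul_mem hl (inv_mem hm)

omit [Finite X] in
theorem mem_K6_left {x : Ln.N} (h : (x : X) ∈ Ln.E) :
    x ∈ Ln.K6 ↔ (x : X) ∈ Subgroup.zpowers Ln.u := by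
  refine ⟨?_, .inl⟩
  rintro (h' | ⟨l, hl, e⟩)
  · exact h'
  · exact absurd (e ▸ h) (Ln.mul_t_notMem (Ln.zpowers_le hl))

omit [Finite X] in
theorem mem_K6_right {x : Ln.N} {e : X} (he : e ∈ Ln.E) (h : (x : X) = e * Ln.t) :
    x ∈ Ln.K6 ↔ e ∈ Subgroup.zpowers Ln.u := by
  refine ⟨?_, fun hl => .inr ⟨e, hl, h⟩⟩
  rintro (h' | ⟨l, hl, e'⟩)
  · exact absurd (h ▸ Ln.zpowers_le h') (Ln.mul_t_notMem he)
  · rwa [mul_right_cancel (h.symm.trans e')]

/-- Three times the indicator of `D`. -/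
noncomputable def F : Ln.N → ℂ :=
  open scoped Classical in fun x => if (x : X) ∈ Ln.D then 3 else 0

omit [Finite X] in
theorem vanishOff_F : VanishOff Ln.N Ln.D Ln.F := fun x hx => by
  unfold F
  exact if_neg hx

theorem isGeneralizedCharacter_F : IsGeneralizedCharacter Ln.N Ln.F := by
  classical
  haveI := Fintype.ofFinite X
  haveI := Fintype.ofFinite Ln.N
  obtain ⟨eps, he1, he2⟩ := Ln.exists_sign
  have hK : Nat.card Ln.K6 = 6 := by
    rw [Nat.subtype_card (Finset.univ.filter (· ∈ Ln.K6)) (fun x => by simp), Finset.card_filter]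
    have h := Ln.sum_N (fun x : X => if x ∈ Subgroup.zpowers Ln.u ∨
      ∃ l ∈ Subgroup.zpowers Ln.u, x = l * Ln.t then (1 : ℕ) else 0)
    have h0 : ∀ x : Ln.N, (if x ∈ Ln.K6 then (1 : ℕ) else 0) = if (x : X) ∈ Subgroup.zpowers Ln.u ∨
        ∃ l ∈ Subgroup.zpowers Ln.u, (x : X) = l * Ln.t then 1 else 0 :=
      fun x => if_congr Iff.rfl rfl rfl
    rw [Finset.sum_congr rfl fun x _ => h0 x, h]
    have e1 : ∀ f ∈ Finset.univ.filter (· ∈ Ln.E),
        (if f ∈ Subgroup.zpowers Ln.u ∨ ∃ l ∈ Subgroup.zpowers Ln.u, f = l * Ln.t then (1 : ℕ)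
          else 0) = if f ∈ Subgroup.zpowers Ln.u then 1 else 0 := fun f hf => if_congr
      (Ln.mem_K6_left (x := ⟨f, Ln.E_le_N (Finset.mem_filter.1 hf).2⟩) (Finset.mem_filter.1 hf).2)
      rfl rfl
    have e2 : ∀ f ∈ Finset.univ.filter (· ∈ Ln.E),
        (if f * Ln.t ∈ Subgroup.zpowers Ln.u ∨ ∃ l ∈ Subgroup.zpowers Ln.u, f * Ln.t = l * Ln.t
          then (1 : ℕ) else 0) = if f ∈ Subgroup.zpowers Ln.u then 1 else 0 := fun f hf => if_congr
      (Ln.mem_K6_right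
        (x := ⟨f * Ln.t, mul_mem (Ln.E_le_N (Finset.mem_filter.1 hf).2) Ln.t_mem_N⟩)
        (Finset.mem_filter.1 hf).2 rfl) rfl rfl
    rw [Finset.sum_congr rfl e1, Finset.sum_congr rfl e2, ← Finset.card_filter, Ln.card_filter_L]
  have hF : Ln.F = (1 + 1 + ⇑eps) - indFun Ln.K6 (1 : Ln.K6 → ℂ) := by
    funext g
    rw [Pi.sub_apply, Pi.add_apply, Pi.add_apply, Induction.indFun_apply, Pi.one_apply, hK]
    have key : ∀ y : Ln.N, extendByZero Ln.K6 (1 : Ln.K6 → ℂ) y = if y ∈ Ln.K6 then 1 else 0 := by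
      intro y
      split_ifs with h
      · rw [Induction.extendByZero_mem Ln.K6 _ h]; rfl
      · exact Induction.extendByZero_notMem Ln.K6 _ h
    simp only [key]
    rw [Finset.sum_boole]
    rcases Ln.N_cases' g.2 with hg | ⟨e, he, hge⟩
    · rw [he1 g hg]
      have hxg : ∀ x : Ln.N, x⁻¹ * g * x ∈ Ln.K6 ↔ (g : X) ∈ Subgroup.zpowers Ln.u := by
        intro x
        have hc := Ln.conj_cases (inv_mem x.2) hg
        rw [inv_inv] at hc
        have hm : ((x⁻¹ * g * x : Ln.N) : X) ∈ Ln.E := by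
          rcases hc with h | h <;> rw [Subgroup.coe_mul, Subgroup.coe_mul, Subgroup.coe_inv, h]
          · exact hg
          · exact inv_mem hg
        rw [Ln.mem_K6_left hm, Subgroup.coe_mul, Subgroup.coe_mul, Subgroup.coe_inv]
        rcases hc with h | h <;> rw [h]
        exact inv_mem_iff
      simp only [hxg]
      by_cases hL : (g : X) ∈ Subgroup.zpowers Ln.u
      · have : (g : X) ∉ Ln.D := fun h => h.2 hL
        simp only [F, if_neg this, hL, Finset.filter_true, Finset.card_univ,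
          ← Nat.card_eq_fintype_card, Ln.card_N]
        norm_num
      · have : (g : X) ∈ Ln.D := ⟨hg, hL⟩
        simp only [F, if_pos this, hL, Finset.filter_false, Finset.card_empty]
        norm_num
    · have hne : (g : X) ∉ Ln.E := hge ▸ Ln.mul_t_notMem he
      rw [he2 g hne]
      have hxg : ∀ x : Ln.N, x⁻¹ * g * x ∈ Ln.K6 ↔
          (⟨e, Ln.E_le_N he⟩ : Ln.N) * x ∈ Ln.K6 := by
        intro x
        rcases Ln.N_cases' x.2 with hx | ⟨f, hf, hxf⟩
        · have h1 : ((x⁻¹ * g * x : Ln.N) : X) = e * (x : X) * Ln.t := by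
            rw [Subgroup.coe_mul, Subgroup.coe_mul, Subgroup.coe_inv, hge]
            calc (x : X)⁻¹ * (e * Ln.t) * x =
                (x : X)⁻¹ * e * (Ln.t * x * Ln.t⁻¹) * Ln.t := by group
              _ = (x : X)⁻¹ * (e * (x : X)⁻¹) * Ln.t := by rw [Ln.inv_t _ hx]; group
              _ = e * ((x : X)⁻¹ * (x : X)⁻¹) * Ln.t := by
                  rw [← mul_assoc (x : X)⁻¹, Ln.comm _ (inv_mem hx) e he, mul_assoc e]
              _ = e * x * Ln.t := by rw [← mul_inv_rev, ← inv_eq_mul_self (Ln.cube _ hx), inv_inv]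
          rw [Ln.mem_K6_right (mul_mem he hx) h1,
            Ln.mem_K6_left (x := (⟨e, Ln.E_le_N he⟩ : Ln.N) * x) (mul_mem he hx)]
          rfl
        · have hef := mul_mem he hf
          have h1 : ((x⁻¹ * g * x : Ln.N) : X) = (e * f)⁻¹ * Ln.t := by
            rw [Subgroup.coe_mul, Subgroup.coe_mul, Subgroup.coe_inv, hge, hxf]
            calc (f * Ln.t)⁻¹ * (e * Ln.t) * (f * Ln.t) =
                Ln.t⁻¹ * (f⁻¹ * e * (Ln.t * f * Ln.t⁻¹)) * Ln.t * Ln.t := by group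
              _ = (f⁻¹ * e * f⁻¹)⁻¹ * Ln.t := by
                  rw [Ln.inv_t f hf, Ln.inv_t' (mul_mem (mul_mem (inv_mem hf) he) (inv_mem hf))]
              _ = (e * f)⁻¹ * Ln.t := by
                  rw [Ln.comm _ (inv_mem hf) e he, mul_assoc e, ← mul_inv_rev f f,
                    ← inv_eq_mul_self (Ln.cube _ hf), inv_inv]
          rw [Ln.mem_K6_right (inv_mem hef) h1, inv_mem_iff,
            Ln.mem_K6_right (x := (⟨e, Ln.E_le_N he⟩ : Ln.N) * x) hef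
              (by rw [Subgroup.coe_mul, hxf, mul_assoc])]
      simp only [hxg]
      have hcnt : (Finset.univ.filter fun x : Ln.N => (⟨e, Ln.E_le_N he⟩ : Ln.N) * x ∈ Ln.K6).card
          = 6 := by
        rw [← hK, Nat.subtype_card (Finset.univ.filter (· ∈ Ln.K6)) (fun x => by simp)]
        exact Finset.card_equiv (Equiv.mulLeft (⟨e, Ln.E_le_N he⟩ : Ln.N))
          (fun x => by simp)
      rw [hcnt]
      have : (g : X) ∉ Ln.D := fun h => hne h.1
      simp only [F, if_neg this]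
      norm_num
  rw [hF]
  exact isGeneralizedCharacter_sub (isGeneralizedCharacter_add
    (isGeneralizedCharacter_add isGeneralizedCharacter_one isGeneralizedCharacter_one)
    (isGeneralizedCharacter_of_isCharacter (Induction.isCharacter_monoidHom eps)))
    (isGeneralizedCharacter_of_isCharacter
      (Induction.isCharacter_indFun Ln.K6 isCharacter_one))

theorem sum_indicator [Fintype X] [Fintype Ln.N] (c : ℂ) :
    ∑ x : Ln.N, (open scoped Classical in if (x : X) ∈ Ln.D then c else 0) = 6 * c := by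
  classical
  rw [Ln.sum_N (fun x => if x ∈ Ln.D then c else 0)]
  have h2 : ∑ f ∈ Finset.univ.filter (· ∈ Ln.E), (if f * Ln.t ∈ Ln.D then c else 0) = 0 :=
    Finset.sum_eq_zero fun f hf => if_neg fun h => Ln.mul_t_notMem (Finset.mem_filter.1 hf).2 h.1
  rw [h2, add_zero, ← Finset.sum_filter, Finset.sum_const, nsmul_eq_mul]
  have hc : ((Finset.univ.filter (· ∈ Ln.E)).filter (· ∈ Ln.D)).card = 6 := by
    have h := Finset.card_filter_add_card_filter_not (s := Finset.univ.filter (· ∈ Ln.E))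
      (p := (· ∈ Subgroup.zpowers Ln.u))
    rw [Ln.card_filter_L, Ln.card_filter_E] at h
    have : (Finset.univ.filter (· ∈ Ln.E)).filter (· ∈ Ln.D) =
        (Finset.univ.filter (· ∈ Ln.E)).filter (fun a => ¬ a ∈ Subgroup.zpowers Ln.u) :=
      Finset.filter_congr fun x hx =>
        ⟨fun hd => hd.2, fun hn => ⟨(Finset.mem_filter.1 hx).2, hn⟩⟩
    rw [this]
    omega
  rw [hc]
  norm_num

/-- A normal subgroup meeting `E` in the special line. -/
theorem exists_normal : ∃ M : Subgroup X, M.Normal ∧ Ln.u ∈ M ∧ ∀ d ∈ Ln.D, d ∉ M := by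
  classical
  haveI := Fintype.ofFinite X
  haveI := Fintype.ofFinite Ln.N
  have hcf : IsClassFunction Ln.N Ln.F :=
    isClassFunction_of_isGeneralizedCharacter Ln.isGeneralizedCharacter_F
  obtain ⟨m, hm, hval, hm1⟩ := exists_coef (G := X) Ln.isGeneralizedCharacter_F
  have h18 : (Nat.card Ln.N : ℂ) = 18 := by rw [Ln.card_N]; norm_num
  have hnorm : classInner Ln.F Ln.F = 3 := by
    unfold classInner
    rw [h18, Finset.sum_congr rfl fun x _ => (show Ln.F x * conj (Ln.F x) =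
      if (x : X) ∈ Ln.D then (9 : ℂ) else 0 by
        simp only [F]; split_ifs <;> norm_num [map_ofNat]), Ln.sum_indicator]
    norm_num
  have hone : classInner Ln.F 1 = 1 := by
    unfold classInner
    rw [h18, Finset.sum_congr rfl fun x _ => (show Ln.F x * conj ((1 : Ln.N → ℂ) x) =
      if (x : X) ∈ Ln.D then (3 : ℂ) else 0 by
        simp only [F]; split_ifs <;> simp), Ln.sum_indicator]
    norm_num
  have hm1' : m (principalIrr X) = 1 := by
    have := hm1.trans hone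
    exact_mod_cast this
  have hsq : ∑ χ ∈ Finset.univ.erase (principalIrr X), m χ ^ 2 = 2 := by
    have h := classInner_self_eq_sum_sq (Induction.isClassFunction_indFun Ln.N Ln.F) hm
    rw [Ln.special.classInner_indFun Ln.vanishOff_F hcf Ln.vanishOff_F, hnorm] at h
    have h' : (3 : ℤ) = ∑ χ, m χ ^ 2 := by exact_mod_cast h
    rw [← Finset.add_sum_erase _ _ (Finset.mem_univ (principalIrr X)), hm1'] at h'
    linarith
  obtain ⟨χ, hχ, ψ, hψ, hne, hmχ, hmψ, hrest⟩ := exists_two_of_sq_sum _ m hsq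
  have hsum : ∀ w : IrrCharacter X → ℂ,
      ∑ η, (m η : ℂ) * w η = w (principalIrr X) + (m χ : ℂ) * w χ + (m ψ : ℂ) * w ψ := by
    intro w
    rw [← Finset.add_sum_erase _ _ (Finset.mem_univ (principalIrr X)), hm1', Int.cast_one, one_mul,
      add_assoc]
    congr 1
    rw [← Finset.add_sum_erase _ _ hχ,
      ← Finset.add_sum_erase _ _ (Finset.mem_erase.2 ⟨hne.symm, hψ⟩),
      Finset.sum_eq_zero (s := ((Finset.univ.erase (principalIrr X)).erase χ).erase ψ) (fun k hk => by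
        obtain ⟨hkψ, hk'⟩ := Finset.mem_erase.1 hk
        obtain ⟨hkχ, hk''⟩ := Finset.mem_erase.1 hk'
        rw [hrest k hk'' hkχ hkψ, Int.cast_zero, zero_mul]), add_zero]
  have hz : ∀ g : X, (∀ x : X, x⁻¹ * g * x ∉ Ln.D) →
      1 + (m χ : ℂ) * (χ : X → ℂ) g + (m ψ : ℂ) * (ψ : X → ℂ) g = 0 := by
    intro g hg
    rw [← indFun_eq_zero Ln.vanishOff_F hg, hval g, hsum (fun η => (η : X → ℂ) g),
      principalIrr_apply]
  have h1 := hz 1 (fun x h => h.2 (by simp))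
  have hu := hz Ln.u (fun x h => by
    refine Ln.not_conj_u (d := x⁻¹ * Ln.u * x) (g := x) h ?_
    rw [show x * (x⁻¹ * Ln.u * x) * x⁻¹ = Ln.u by group]
    exact Subgroup.mem_zpowers _)
  have hQ : 1 + (m χ : ℂ) * ((χ : X → ℂ) Ln.u * (χ : X → ℂ) Ln.u / (χ : X → ℂ) 1) +
      (m ψ : ℂ) * ((ψ : X → ℂ) Ln.u * (ψ : X → ℂ) Ln.u / (ψ : X → ℂ) 1) = 0 := by
    have h := sum_coef_mul_values (H := Ln.N) Ln.F Ln.u Ln.u
    have hR : ∑ p ∈ cls Ln.u, ∑ q ∈ cls Ln.u, extendByZero Ln.N Ln.F (p * q) = 0 :=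
      Finset.sum_eq_zero fun p hp => Finset.sum_eq_zero fun q hq =>
        extendByZero_eq_zero Ln.vanishOff_F (Ln.triangle (mem_cls.1 hp) (mem_cls.1 hq))
    rw [hR, mul_zero] at h
    simp only [hm] at h
    rw [hsum] at h
    have hc : ((cls Ln.u).card : ℂ) ≠ 0 := by
      exact_mod_cast Finset.card_ne_zero.2 ⟨_, mem_cls_self Ln.u⟩
    simpa [principalIrr_apply, hc] using h
  obtain ⟨A, hA, hMA⟩ := exists_ker X χ
  obtain ⟨B, hB, hMB⟩ := exists_ker X ψ
  refine ⟨A ⊓ B, inferInstance, ?_, fun d hd hdM => ?_⟩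
  · have hcast : ∀ z : ℤ, z ^ 2 = 1 → ((z : ℂ) * z = 1) := fun z hz => by
      rw [← sq]; exact_mod_cast hz
    have nχ := irr_one_ne_zero χ
    have nψ := irr_one_ne_zero ψ
    have eχ := hcast _ hmχ
    have eψ := hcast _ hmψ
    obtain ⟨a, ha⟩ : ∃ a, a = (m χ : ℂ) * (χ : X → ℂ) 1 := ⟨_, rfl⟩
    obtain ⟨b, hb⟩ : ∃ b, b = (m ψ : ℂ) * (ψ : X → ℂ) 1 := ⟨_, rfl⟩
    obtain ⟨A', hA'⟩ : ∃ A', A' = (m χ : ℂ) * (χ : X → ℂ) Ln.u := ⟨_, rfl⟩
    obtain ⟨B', hB'⟩ : ∃ B', B' = (m ψ : ℂ) * (ψ : X → ℂ) Ln.u := ⟨_, rfl⟩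
    have ha0 : a ≠ 0 := by
      rw [ha]; exact mul_ne_zero (fun h => by rw [h] at eχ; simp at eχ) nχ
    have hb0 : b ≠ 0 := by
      rw [hb]; exact mul_ne_zero (fun h => by rw [h] at eψ; simp at eψ) nψ
    rw [← ha, ← hb] at h1
    rw [← hA', ← hB'] at hu
    have t1 : (m χ : ℂ) * ((χ : X → ℂ) Ln.u * (χ : X → ℂ) Ln.u / (χ : X → ℂ) 1) = A' * A' / a := by
      rw [hA', eq_div_iff ha0, ha]
      field_simp
    have t2 : (m ψ : ℂ) * ((ψ : X → ℂ) Ln.u * (ψ : X → ℂ) Ln.u / (ψ : X → ℂ) 1) = B' * B' / b := by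
      rw [hB', eq_div_iff hb0, hb]
      field_simp
    rw [t1, t2] at hQ
    field_simp at hQ
    have hsq : (A' - a) ^ 2 = 0 := by
      linear_combination (a + A' ^ 2) * h1 + a * (B' - 1 - A') * hu - hQ
    have eA : A' = a := sub_eq_zero.1 (eq_zero_of_pow_eq_zero hsq)
    have eB : B' = b := by linear_combination hu - h1 - eA
    refine ⟨(hMA _).2 ?_, (hMB _).2 ?_⟩
    · rw [hA', ha] at eA
      exact mul_left_cancel₀ (fun h => by rw [h] at eχ; simp at eχ) eA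
    · rw [hB', hb] at eB
      exact mul_left_cancel₀ (fun h => by rw [h] at eψ; simp at eψ) eB
  · have hdN : d ∈ Ln.N := Ln.E_le_N hd.1
    have hv := Ln.special.indFun_apply_mem hcf Ln.vanishOff_F (h := ⟨d, hdN⟩) hd
    rw [hval d, hsum (fun η => (η : X → ℂ) d), principalIrr_apply,
      (hMA d).1 hdM.1, (hMB d).1 hdM.2, h1] at hv
    simp [F, hd] at hv

theorem apply_mem_FL {M : Subgroup X} [M.Normal] (hM : ∀ d ∈ Ln.D, d ∉ M)
    (f : Subgroup.centralizer ({Ln.u} : Set X) →* Ln.E)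
    (y : Subgroup.centralizer ({Ln.u} : Set X)) (hy : (y : X) ∈ M) : f y ∈ Ln.FL f := by
  obtain ⟨n, k, hk, hnk⟩ := Nat.exists_eq_pow_mul_and_not_dvd (Nat.card_pos (α := X)).ne' 3
    (by norm_num)
  have hyk : (y : X) ^ k ∈ M := pow_mem hy k
  have hykC : (y : X) ^ k ∈ Subgroup.centralizer ({Ln.u} : Set X) := pow_mem y.2 k
  obtain ⟨c, hc, hcE⟩ := Ln.exists_conj_E _ (fun e he => Ln.mem_C_of_mem he) hykC (n := n)
    (by rw [← pow_mul, mul_comm, ← hnk, pow_card_eq_one'])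
  have hL : c * (y : X) ^ k * c⁻¹ ∈ Subgroup.zpowers Ln.u := by
    by_contra hn
    exact hM _ ⟨hcE, hn⟩ (Subgroup.Normal.conj_mem inferInstance _ hyk c)
  have h1 : f y ^ k ∈ Ln.FL f := by
    rw [← map_pow, ← Ln.apply_conj f ⟨c, hc⟩ (y ^ k)]
    exact Subgroup.mem_map.2 ⟨_, by simpa [Subgroup.mem_subgroupOf] using hL, rfl⟩
  have h3 : f y ^ 3 = 1 := Subtype.ext (by
    rw [Subgroup.coe_pow, pow_three, ← mul_assoc]; exact Ln.cube _ (f y).2)
  have h2 := pow_mem h1 k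
  rwa [← pow_mul, pow_eq_pow_mod (k * k) h3, Nat.mul_mod,
    show k % 3 * (k % 3) % 3 = 1 by
      have : k % 3 = 1 ∨ k % 3 = 2 := by omega
      rcases this with e | e <;> rw [e], pow_one] at h2

/-- Conclusion: `E` is normal, of index two. -/
theorem exhaust : ∀ g : X, g ∈ Ln.E ∨ g * Ln.t⁻¹ ∈ Ln.E := by
  classical
  haveI : Fact (Nat.Prime 3) := ⟨Nat.prime_three⟩
  obtain ⟨M, hMn, huM, hMD⟩ := Ln.exists_normal
  haveI := hMn
  obtain ⟨C, hC⟩ : ∃ C, C = Subgroup.centralizer ({Ln.u} : Set X) := ⟨_, rfl⟩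
  have hEC : Ln.E ≤ C := hC ▸ fun e he => Ln.mem_C_of_mem he
  have htC : ∀ c ∈ C, Ln.t * c * Ln.t⁻¹ ∈ C := by
    intro c hc
    rw [hC, Subgroup.mem_centralizer_singleton_iff] at hc ⊢
    have h := Ln.inv_t' Ln.u_mem
    have hc' : c * Ln.u⁻¹ = Ln.u⁻¹ * c := (Commute.inv_right hc).eq
    calc Ln.t * c * Ln.t⁻¹ * Ln.u = Ln.t * (c * (Ln.t⁻¹ * Ln.u * Ln.t)) * Ln.t⁻¹ := by group
      _ = Ln.t * ((Ln.t⁻¹ * Ln.u * Ln.t) * c) * Ln.t⁻¹ := by rw [h, hc']
      _ = Ln.u * (Ln.t * c * Ln.t⁻¹) := by group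
  let X0 : Subgroup X := C ⊔ M
  have hmem : ∀ {x}, x ∈ X0 ↔ ∃ c ∈ C, ∃ m ∈ M, c * m = x := fun {x} =>
    Subgroup.mem_sup_of_normal_right
  have htX : Ln.t ∉ X0 := by
    intro h
    obtain ⟨c, hc, m, hm, hcm⟩ := hmem.1 h
    obtain ⟨f, hf, -, -⟩ := Ln.exists_hom (Subgroup.centralizer ({Ln.u} : Set X))
      (fun e he => Ln.mem_C_of_mem he) Ln.norm_in_Cu
    obtain ⟨d, hd, hdL⟩ : ∃ d ∈ Ln.E, d ∉ Subgroup.zpowers Ln.u := by
      by_contra! hn
      have := Subgroup.card_dvd_of_le (fun e he => hn e he : Ln.E ≤ Subgroup.zpowers Ln.u)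
      rw [Nat.card_zpowers, Ln.orderOf_u, Ln.card_E] at this
      norm_num at this
    have hm' : m = c⁻¹ * Ln.t := by rw [← hcm]; group
    have hdC := Ln.mem_C_of_mem hd
    have hcC : c ∈ Subgroup.centralizer ({Ln.u} : Set X) := hC ▸ hc
    let y : Subgroup.centralizer ({Ln.u} : Set X) := ⟨c, hcC⟩⁻¹ * ⟨d, hdC⟩⁻¹ * ⟨c, hcC⟩ * ⟨d, hdC⟩⁻¹
    have hy : (y : X) ∈ M := by
      have : m * (d * m⁻¹ * d⁻¹) ∈ M :=
        mul_mem hm (Subgroup.Normal.conj_mem inferInstance _ (inv_mem hm) d)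
      rw [hm', show c⁻¹ * Ln.t * (d * (c⁻¹ * Ln.t)⁻¹ * d⁻¹) =
        c⁻¹ * (Ln.t * d * Ln.t⁻¹) * c * d⁻¹ by group, Ln.inv_t d hd] at this
      exact this
    have h1 := Ln.apply_mem_FL hMD f y hy
    have h2 : f y = f ⟨d, hdC⟩ := by
      have h3 : f ((⟨c, hcC⟩ : Subgroup.centralizer ({Ln.u} : Set X))⁻¹ * ⟨d, hdC⟩⁻¹ * ⟨c, hcC⟩) =
          f ⟨d, hdC⟩⁻¹ := by
        have := Ln.apply_conj f (⟨c, hcC⟩⁻¹) (⟨d, hdC⟩⁻¹)
        rwa [inv_inv] at this
      show f (_ * _) = _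
      rw [map_mul, h3, ← map_mul]
      exact congrArg f (Subtype.ext (by
        show d⁻¹ * d⁻¹ = d
        rw [← mul_inv_rev, ← inv_eq_mul_self (Ln.cube d hd), inv_inv]))
    exact hdL (Ln.mem_L_of_FL hf hd (h2 ▸ h1))
  have hX0t : ∀ x ∈ X0, Ln.t * x * Ln.t⁻¹ ∈ X0 := by
    intro x hx
    obtain ⟨c, hc, m, hm, rfl⟩ := hmem.1 hx
    exact hmem.2 ⟨_, htC c hc, _, Subgroup.Normal.conj_mem inferInstance m hm Ln.t, by group⟩
  have hcases : ∀ g : X, g ∈ X0 ∨ ∃ x ∈ X0, g = x * Ln.t := by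
    intro g
    have hLM : Subgroup.zpowers Ln.u ≤ M := Subgroup.zpowers_le.2 huM
    have h9 : ¬ 9 ∣ Nat.card M := by
      intro h9
      obtain ⟨Q, hQ⟩ := Sylow.exists_subgroup_card_pow_prime 3 (n := 2) h9
      obtain ⟨P, hP⟩ := Ln.exists_sylow ⊤ le_top
      obtain ⟨S, hS⟩ := (IsPGroup.of_card (n := 2)
        (G := Q.map M.subtype) (by rw [Subgroup.card_subtype, hQ])).exists_le_sylow
      obtain ⟨P', hP'⟩ : ∃ P' : Sylow 3 X, (P' : Subgroup X) = Ln.E := by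
        have hf : (Nat.card X).factorization 3 = 2 := factorization_of_dvd Nat.card_pos.ne'
          (by rw [show (3 : ℕ) ^ 2 = 9 from rfl, ← Ln.card_E]; exact Subgroup.card_subgroup_dvd_card _)
          Ln.not_27_dvd
        exact ⟨Sylow.ofCard _ (Ln.card_E.trans (by rw [hf]; rfl)), Sylow.coe_ofCard _ _⟩
      obtain ⟨x, hx⟩ := MulAction.exists_smul_eq X S P'
      have hall : ∀ q ∈ Q.map M.subtype, x * q * x⁻¹ ∈ Subgroup.zpowers Ln.u := by
        intro q hq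
        have hqE : x * q * x⁻¹ ∈ Ln.E := by
          rw [← hP', ← hx]
          exact Subgroup.smul_mem_pointwise_smul q (MulAut.conj x) _ (hS hq)
        by_contra hn
        exact hMD _ ⟨hqE, hn⟩
          (Subgroup.Normal.conj_mem inferInstance q (Subgroup.map_subtype_le _ hq) x)
      have hle : Nat.card (Q.map M.subtype) ≤ Nat.card (Subgroup.zpowers Ln.u) :=
        Nat.card_le_card_of_injective (fun q => ⟨x * (q : X) * x⁻¹, hall q q.2⟩)
          fun a b h => Subtype.ext (by simpa using h)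
      rw [Nat.card_zpowers, Ln.orderOf_u, Subgroup.card_subtype, hQ] at hle
      norm_num at hle
    have hf : (Nat.card M).factorization 3 = 1 := factorization_of_dvd Nat.card_pos.ne'
      (by rw [pow_one, ← Ln.orderOf_u, ← Nat.card_zpowers]; exact Subgroup.card_dvd_of_le hLM)
      (by simpa using h9)
    let P : Sylow 3 M := Sylow.ofCard ((Subgroup.zpowers Ln.u).subgroupOf M) (by
      rw [hf, pow_one, Nat.card_congr (Subgroup.subgroupOfEquivOfLe hLM).toEquiv, Nat.card_zpowers,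
        Ln.orderOf_u])
    have htop := Sylow.normalizer_sup_eq_top P
    rw [Sylow.coe_ofCard, Subgroup.subgroupOf_map_subtype, inf_of_le_left hLM] at htop
    obtain ⟨n, hn, m, hm, rfl⟩ := Subgroup.mem_sup_of_normal_right.1
      (htop ▸ Subgroup.mem_top g : g ∈ _ ⊔ M)
    have hnu : n * Ln.u * n⁻¹ ∈ Subgroup.zpowers Ln.u :=
      ((Subgroup.mem_normalizer_iff.1 hn) Ln.u).1 (Subgroup.mem_zpowers _)
    have hmX : m ∈ X0 := (le_sup_right : M ≤ X0) hm
    rcases zpowers_cases Ln.u_cube hnu with e | e | e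
    · exact absurd (conj_eq_one_iff.1 e) Ln.u_ne
    · refine .inl (mul_mem ((le_sup_left : C ≤ X0) ?_) hmX)
      rw [hC, Subgroup.mem_centralizer_singleton_iff]
      exact mul_inv_eq_iff_eq_mul.1 e
    · have hnC : Ln.t * n ∈ C := by
        rw [hC, Subgroup.mem_centralizer_singleton_iff]
        refine mul_inv_eq_iff_eq_mul.1 ?_
        rw [show Ln.t * n * Ln.u * (Ln.t * n)⁻¹ = Ln.t * (n * Ln.u * n⁻¹) * Ln.t⁻¹ by group, e,
          Ln.inv_t _ (inv_mem Ln.u_mem), inv_inv]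
      refine .inr ⟨n * m * Ln.t⁻¹, ?_, by group⟩
      rw [show n * m * Ln.t⁻¹ = Ln.t⁻¹ * (Ln.t * n * m) * Ln.t⁻¹ by group, Ln.t_inv,
        show Ln.t * (Ln.t * n * m) * Ln.t = Ln.t * (Ln.t * n * m) * Ln.t⁻¹ by rw [Ln.t_inv]]
      exact hX0t _ (mul_mem ((le_sup_left : C ≤ X0) hnC) hmX)
  have hX0n : X0.Normal := ⟨fun x hx g => by
    rcases hcases g with h | ⟨w, hw, rfl⟩
    · exact mul_mem (mul_mem h hx) (inv_mem h)
    · rw [show w * Ln.t * x * (w * Ln.t)⁻¹ = w * (Ln.t * x * Ln.t⁻¹) * w⁻¹ by group]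
      exact mul_mem (mul_mem hw (hX0t x hx)) (inv_mem hw)⟩
  have hEX : Ln.E ≤ X0 := hEC.trans le_sup_left
  obtain ⟨f, -, hsurj, hker⟩ := Ln.exists_hom X0 hEX (fun g hg h => (Ln.norm g h).resolve_right
    fun h' => htX (by
      rw [show Ln.t = (g * Ln.t⁻¹)⁻¹ * g by group]
      exact mul_mem (inv_mem (hEX h')) hg))
  have hmemO : ∀ y : X, y ∈ f.ker.map X0.subtype ↔ y ∈ X0 ∧ ¬ 3 ∣ orderOf y := by
    intro y
    constructor
    · intro hy
      obtain ⟨z, hz, rfl⟩ := Subgroup.mem_map.1 hy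
      refine ⟨z.2, fun h => hker ?_⟩
      have : orderOf z ∣ Nat.card f.ker := Subgroup.orderOf_dvd_natCard _ hz
      rw [Subgroup.subtype_apply, Subgroup.orderOf_coe] at h
      exact h.trans this
    · rintro ⟨hy, h3⟩
      refine Subgroup.mem_map.2 ⟨⟨y, hy⟩, ?_, rfl⟩
      rw [MonoidHom.mem_ker, ← orderOf_eq_one_iff]
      have h1 : orderOf (f ⟨y, hy⟩) ∣ 3 := orderOf_dvd_of_pow_eq_one (Subtype.ext (by
        rw [Subgroup.coe_pow, pow_three, ← mul_assoc]; exact Ln.cube _ (f ⟨y, hy⟩).2))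
      rcases (Nat.dvd_prime Nat.prime_three).1 h1 with h | h
      · exact h
      · exfalso
        apply h3
        have h2 := orderOf_map_dvd f ⟨y, hy⟩
        rwa [h, ← Subgroup.orderOf_coe] at h2
  have hO := Ln.core (f.ker.map X0.subtype) ⟨fun y hy g => by
      obtain ⟨h1, h2⟩ := (hmemO y).1 hy
      refine (hmemO _).2 ⟨hX0n.conj_mem y h1 g, ?_⟩
      rwa [← MulAut.conj_apply, MulEquiv.orderOf_eq]⟩
    (by rwa [Subgroup.card_subtype])
  intro g
  have key : ∀ x ∈ X0, x ∈ Ln.E := by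
    intro x hx
    obtain ⟨e, he, hfe⟩ := hsurj (f ⟨x, hx⟩)
    have hmk : (⟨x, hx⟩ * ⟨e, hEX he⟩⁻¹ : X0) ∈ f.ker := by
      rw [MonoidHom.mem_ker, map_mul, map_inv, hfe, mul_inv_cancel]
    have := Subgroup.mem_map_of_mem X0.subtype hmk
    rw [hO, Subgroup.mem_bot, Subgroup.subtype_apply] at this
    simp only [Subgroup.coe_mul, Subgroup.coe_inv, mul_inv_eq_one] at this
    exact this ▸ he
  rcases hcases g with h | ⟨x, hx, rfl⟩
  · exact .inl (key g h)
  · exact .inr (by rw [mul_inv_cancel_right]; exact key x hx)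

end Lines

end CfsgLib.AltNine
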