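import Cfsg.Agent.Lib.Recognition.AltNine.Local
import Cfsg.Agent.Lib.Recognition.AltNine.CentBLines

/-!
# The centralizer of an element with two non-trivial coordinates

`C(b)/⟨b⟩` satisfies the hypotheses of `Lines`, so `C(b) ≤ H`.
-/

set_option autoImplicit false
set_option linter.style.haveILetI false

namespace CfsgLib.AltNine

open Cfsg CfsgLib.ThreeCubed CfsgLib.ThreeCubedWreath

universe u

theorem b_cent_model : (el4.all fun x => if x * jrep 1 == jrep 1 * x then
    decide (isJ x) || decide (isJ (x * gC)) else true) = true := by decide +kernel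

theorem gC_inv_model : ∀ t : Fin 3 × Fin 3 × Fin 3, ∃ i : Fin 3,
    gC * Jel t * gC⁻¹ * Jel t = jrep 1 ^ i.val := by decide +kernel

theorem c_rep_model : ∀ t : Fin 3 × Fin 3 × Fin 3,
    (∀ i j : Fin 3, Jel t ≠ jrep 0 ^ i.val * jrep 1 ^ j.val) →
    ∃ i : Fin 3, ∃ a b : Fin 2, ∃ k : Fin 3, ∃ c : Fin 2,
      conjC 0 a b k c * jrep 2 * (conjC 0 a b k c)⁻¹ = Jel t * jrep 1 ^ i.val := by decide +kernel

theorem a_notMem_b_model : ∀ i : Fin 3, jrep 0 ≠ jrep 1 ^ i.val := by decide +kernel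

attribute [local irreducible] el4 M4set

namespace Setup

variable {G : Type u} [Group G] (S : Setup G)

/-- The involution centralizing `b`. -/
noncomputable abbrev g2 : G := ge S.e gC

theorem gC_sign : sg gC.left * sgn gC.right = 1 := base_mem _ (by simp)

theorem g2_mul_self : S.g2 * S.g2 = 1 :=
  congrArg Subtype.val (wim_inj S.e (a := el S.e gC * el S.e gC) (b := 1)
    (by rw [wim_mul, wim_el S.e gC_sign, wim_one, base_facts.2.2.2.2.2.2.1]))

theorem g2_comm_b : S.g2 * S.b = S.b * S.g2 :=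
  congrArg Subtype.val (wim_inj S.e (a := el S.e gC * el S.e (jrep 1))
    (b := el S.e (jrep 1) * el S.e gC)
    (by rw [wim_mul, wim_mul, wim_el S.e gC_sign, wim_el S.e (jrep_sign 1), gC_fix.1]))

theorem g2_notMem_J : S.g2 ∉ S.J := fun h => base_facts.2.2.2.2.2.2.2.2.2.1 (by
  have := (S.memJ (el S.e gC)).1 h
  rw [wim_el S.e gC_sign] at this
  exact this.1)

theorem exists_wim_Jel {j : G} (hj : j ∈ S.J) :
    ∃ t, wim S.e ⟨j, S.le_H hj⟩ = Jel t :=
  (exists_Jel ((S.memJ ⟨j, S.le_H hj⟩).1 hj)).imp fun _ h => h.symm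

theorem g2_inv {j : G} (hj : j ∈ S.J) :
    S.g2 * j * S.g2⁻¹ * j ∈ Subgroup.zpowers S.b := by
  obtain ⟨t, ht⟩ := S.exists_wim_Jel hj
  obtain ⟨i, hi⟩ := gC_inv_model t
  have h : el S.e gC * ⟨j, S.le_H hj⟩ * (el S.e gC)⁻¹ * ⟨j, S.le_H hj⟩ =
      el S.e (jrep 1) ^ i.val := wim_inj S.e (by
    rw [wim_mul, wim_mul, wim_mul, wim_inv, wim_pow, wim_el S.e gC_sign, wim_el S.e (jrep_sign 1),
      ht, hi])
  have h' := congrArg Subtype.val h
  simp only [Subgroup.coe_mul, Subgroup.coe_inv, SubmonoidClass.coe_pow] at h'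
  exact Subgroup.mem_zpowers_iff.2 ⟨(i.val : ℤ), by rw [zpow_natCast]; exact h'.symm⟩

theorem mem_J_or {h : G} (hh : h ∈ S.H) (hc : h * S.b = S.b * h) : h ∈ S.J ∨ h * S.g2 ∈ S.J := by
  have hm := List.all_eq_true.1 b_cent_model _ (mem_el4.2 (wim_mem S.e ⟨h, hh⟩))
  have hc' : wim S.e ⟨h, hh⟩ * jrep 1 = jrep 1 * wim S.e ⟨h, hh⟩ := by
    have e : (⟨h, hh⟩ : S.H) * el S.e (jrep 1) = el S.e (jrep 1) * ⟨h, hh⟩ := Subtype.ext hc
    have := congrArg (wim S.e) e
    rwa [wim_mul, wim_mul, wim_el S.e (jrep_sign 1)] at this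
  rw [if_pos (beq_iff_eq.2 hc'), Bool.or_eq_true, decide_eq_true_iff, decide_eq_true_iff] at hm
  refine hm.imp (fun h1 => (S.memJ ⟨h, hh⟩).2 h1) fun h1 => ?_
  refine (S.memJ (⟨h, hh⟩ * el S.e gC)).2 ?_
  rwa [wim_mul, wim_el S.e gC_sign]

variable [Finite G]

theorem key_line {d x : G} (hd : d ∈ S.J) (hdl : ∀ i j : Fin 3, d ≠ S.a ^ i.val * S.b ^ j.val)
    (hx : x * S.b = S.b * x) (hxd : (x * d * x⁻¹) * d⁻¹ ∈ Subgroup.zpowers S.b) : x ∈ S.J := by
  have hb : S.b ∈ S.J := S.jrep_memJ 1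
  have hbz : ∀ z ∈ Subgroup.zpowers S.b, z ∈ S.J := fun z hz => Subgroup.zpowers_le.2 hb hz
  have hb3 := S.J_cube hb
  have hdB : d ∉ Subgroup.zpowers S.b := fun h => by
    rcases zpowers_cases hb3 h with e | e | e
    · exact hdl 0 0 (by simp [e])
    · exact hdl 0 1 (by simp [e])
    · exact hdl 0 2 (by simp [e, inv_eq_mul_self hb3, pow_two])
  obtain ⟨t, ht⟩ := S.exists_wim_Jel hd
  obtain ⟨i, α, β, k, γ, hc⟩ := c_rep_model t (fun i j hij => hdl i j (by
    have e : (⟨d, S.le_H hd⟩ : S.H) = el S.e (jrep 0) ^ i.val * el S.e (jrep 1) ^ j.val :=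
      wim_inj S.e (by rw [ht, wim_mul, wim_pow, wim_pow, wim_el S.e (jrep_sign 0),
        wim_el S.e (jrep_sign 1), hij])
    simpa using congrArg Subtype.val e))
  obtain ⟨d', hd'⟩ : ∃ d', d' = d * S.b ^ i.val := ⟨_, rfl⟩
  have hd'J : d' ∈ S.J := hd' ▸ mul_mem hd (pow_mem hb _)
  obtain ⟨m, hm⟩ : ∃ m, m = ge S.e (conjC 0 α β k γ) := ⟨_, rfl⟩
  have hmH : m ∈ S.H := hm ▸ SetLike.coe_mem _
  have hcd : m * S.c * m⁻¹ = d' := by
    have e : el S.e (conjC 0 α β k γ) * el S.e (jrep 2) * (el S.e (conjC 0 α β k γ))⁻¹ =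
        ⟨d, S.le_H hd⟩ * el S.e (jrep 1) ^ i.val := wim_inj S.e (by
      rw [wim_mul, wim_mul, wim_mul, wim_inv, wim_pow, wim_el S.e (conjC_mem _ _ _ _ _),
        wim_el S.e (jrep_sign 2), wim_el S.e (jrep_sign 1), ht, hc])
    simpa [hm, hd', Setup.c, ge] using congrArg Subtype.val e
  have hinv : ∀ e ∈ S.J, S.g2 * e * S.g2⁻¹ * e⁻¹ ∈ Subgroup.zpowers S.b →
      e ∈ Subgroup.zpowers S.b := by
    intro e he h1
    have h2 := mul_mem (inv_mem (S.g2_inv he)) h1
    rw [show (S.g2 * e * S.g2⁻¹ * e)⁻¹ * (S.g2 * e * S.g2⁻¹ * e⁻¹) = e⁻¹ * e⁻¹ by group,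
      inv_eq_mul_self (S.J_cube he), show e * e * (e * e) = e * e * e * e by group, S.J_cube he,
      one_mul] at h2
    exact h2
  have hcent : ∀ y, y * S.b = S.b * y → y * d' = d' * y → y ∈ S.J := by
    intro y hy hyd
    have hyH : y ∈ S.H := by
      have hyc : m⁻¹ * y * m ∈ Subgroup.centralizer ({S.c} : Set G) := by
        rw [Subgroup.mem_centralizer_singleton_iff]
        calc m⁻¹ * y * m * S.c = m⁻¹ * (y * (m * S.c * m⁻¹)) * m := by group
          _ = m⁻¹ * ((m * S.c * m⁻¹) * y) * m := by rw [hcd, hyd]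
          _ = S.c * (m⁻¹ * y * m) := by group
      rw [show y = m * (m⁻¹ * y * m) * m⁻¹ by group]
      exact mul_mem (mul_mem hmH (S.centralizer_c_le hyc)) (inv_mem hmH)
    refine (S.mem_J_or hyH hy).resolve_right fun hj => hdB ?_
    have hg : S.g2 * d' * S.g2⁻¹ = d' := by
      have hyi : y⁻¹ * d' * y = d' := by rw [mul_assoc, ← hyd]; group
      calc S.g2 * d' * S.g2⁻¹ = y⁻¹ * ((y * S.g2) * d' * (y * S.g2)⁻¹) * y := by group
        _ = d' := by rw [S.J_comm hj hd'J, mul_inv_cancel_right, hyi]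
    have := hinv d' hd'J (by rw [hg, mul_inv_cancel]; exact one_mem _)
    rw [hd'] at this
    simpa using mul_mem this (inv_mem (pow_mem (Subgroup.mem_zpowers S.b) i.val))
  obtain ⟨z, hzB, hz⟩ : ∃ z ∈ Subgroup.zpowers S.b, x * d * x⁻¹ = z * d :=
    ⟨_, hxd, by group⟩
  have hxd' : x * d' * x⁻¹ = z * d' := by
    have hxb : x * S.b ^ i.val * x⁻¹ = S.b ^ i.val := by
      rw [(Commute.pow_right (hx : Commute x S.b) i.val).eq, mul_inv_cancel_right]
    calc x * d' * x⁻¹ = (x * d * x⁻¹) * (x * S.b ^ i.val * x⁻¹) := by rw [hd']; group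
      _ = z * d' := by rw [hz, hxb, hd', mul_assoc]
  have hxN : ∀ j ∈ S.J, x * j * x⁻¹ ∈ S.J := by
    intro j hj
    have hconj : ∀ y, j * y = y * j →
        x * j * x⁻¹ * (x * y * x⁻¹) = x * y * x⁻¹ * (x * j * x⁻¹) := fun y hy => by
      calc x * j * x⁻¹ * (x * y * x⁻¹) = x * (j * y) * x⁻¹ := by group
        _ = x * (y * j) * x⁻¹ := by rw [hy]
        _ = x * y * x⁻¹ * (x * j * x⁻¹) := by group
    have h1 : Commute (x * j * x⁻¹) S.b := by
      have := hconj S.b (S.J_comm hj hb)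
      rwa [hx, mul_inv_cancel_right] at this
    refine hcent _ h1 ?_
    have h2 : Commute (x * j * x⁻¹) (z * d') := hxd' ▸ hconj d' (S.J_comm hj hd'J)
    obtain ⟨r, rfl⟩ := Subgroup.mem_zpowers_iff.1 hzB
    simpa using ((h1.zpow_right r).inv_right.mul_right h2).eq
  have hxH : x ∈ S.H := S.mem_H_of_conj_J fun j hj => S.le_H (hxN j hj)
  refine (S.mem_J_or hxH hx).resolve_right fun hj => hdB ?_
  refine hinv d hd ?_
  have h2 : S.g2 * d * S.g2⁻¹ = x⁻¹ * d * x := by
    calc S.g2 * d * S.g2⁻¹ = x⁻¹ * ((x * S.g2) * d * (x * S.g2)⁻¹) * x := by group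
      _ = x⁻¹ * d * x := by rw [S.J_comm hj hd, mul_inv_cancel_right]
  rw [h2]
  have h3 : x⁻¹ * (x * d * x⁻¹ * d⁻¹) * x = x * d * x⁻¹ * d⁻¹ := by
    obtain ⟨r, hr⟩ := Subgroup.mem_zpowers_iff.1 hxd
    rw [← hr, mul_assoc, ← (Commute.zpow_right (hx : Commute x S.b) r).eq, inv_mul_cancel_left]
  rw [show x⁻¹ * d * x * d⁻¹ = (x⁻¹ * (x * d * x⁻¹ * d⁻¹) * x)⁻¹ by group, h3]
  exact inv_mem hxd

/-- `C(b) ≤ H`. -/
theorem centralizer_b_le : Subgroup.centralizer ({S.b} : Set G) ≤ S.H := by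
  classical
  haveI : Fact (Nat.Prime 3) := ⟨Nat.prime_three⟩
  have hb : S.b ∈ S.J := S.jrep_memJ 1
  have ha : S.a ∈ S.J := S.jrep_memJ 0
  let C : Subgroup G := Subgroup.centralizer ({S.b} : Set G)
  have hJC : S.J ≤ C := fun j hj => Subgroup.mem_centralizer_singleton_iff.2 (S.J_comm hj hb)
  have hcomm : ∀ x ∈ C, x * S.b = S.b * x := fun x hx => Subgroup.mem_centralizer_singleton_iff.1 hx
  have hgC : S.g2 ∈ C := Subgroup.mem_centralizer_singleton_iff.2 S.g2_comm_b
  have ob : orderOf S.b = 3 :=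
    orderOf_eq_prime (by rw [pow_three, ← mul_assoc, S.J_cube hb]) (S.jrep_ne_one 1)
  let Bc : Subgroup C := Subgroup.zpowers ⟨S.b, hJC hb⟩
  have hBmem : ∀ y : C, y ∈ Bc ↔ (y : G) ∈ Subgroup.zpowers S.b := fun y => by
    simp only [Bc, Subgroup.mem_zpowers_iff]
    exact ⟨fun ⟨k, hk⟩ => ⟨k, by rw [← hk]; simp⟩, fun ⟨k, hk⟩ => ⟨k, Subtype.ext (by simpa using hk)⟩⟩
  have hcentral : ∀ z ∈ Bc, ∀ y : C, z * y = y * z := by
    intro z hz y
    obtain ⟨k, hk⟩ := Subgroup.mem_zpowers_iff.1 hz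
    rw [← hk]
    exact (Commute.zpow_left (show Commute (⟨S.b, hJC hb⟩ : C) y from
      Subtype.ext (hcomm y y.2).symm) k).eq
  haveI hBn : Bc.Normal := ⟨fun z hz g => by
    rw [← hcentral z hz g, mul_inv_cancel_right]; exact hz⟩
  let π : C →* C ⧸ Bc := QuotientGroup.mk' Bc
  have hπ : Function.Surjective π := QuotientGroup.mk'_surjective Bc
  have hπeq : ∀ y z : C, π y = π z → (z : G) * (y : G)⁻¹ ∈ Subgroup.zpowers S.b := by
    intro y z h
    have h1 : z * y⁻¹ ∈ Bc := by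
      rw [← QuotientGroup.eq_one_iff]
      show π (z * y⁻¹) = 1
      rw [map_mul, map_inv, h, mul_inv_cancel]
    simpa using (hBmem _).1 h1
  have hπone : ∀ y : C, (y : G) ∈ Subgroup.zpowers S.b → π y = 1 := fun y hy =>
    (QuotientGroup.eq_one_iff y).2 ((hBmem y).2 hy)
  let Jc : Subgroup C := S.J.subgroupOf C
  let E : Subgroup (C ⧸ Bc) := Jc.map π
  have hkerJ : π.ker ≤ Jc := by
    rw [QuotientGroup.ker_mk']
    intro y hy
    rw [Subgroup.mem_subgroupOf]
    exact Subgroup.zpowers_le.2 hb ((hBmem y).1 hy)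
  have hE : ∀ y : C, π y ∈ E ↔ (y : G) ∈ S.J := fun y => by
    rw [← Subgroup.mem_comap, Subgroup.comap_map_eq_self hkerJ, Subgroup.mem_subgroupOf]
  have cardB : Nat.card Bc = 3 := by
    rw [Nat.card_zpowers, Subgroup.orderOf_mk, ob]
  have cardC : Nat.card C = 3 * Nat.card (C ⧸ Bc) := by
    rw [Subgroup.card_eq_card_quotient_mul_card_subgroup Bc, cardB, mul_comm]
  have cardE : Nat.card E = 9 := by
    have h1 : Nat.card Jc * Jc.index = Nat.card C := Jc.card_mul_index
    have h2 : Nat.card E * E.index = Nat.card (C ⧸ Bc) := E.card_mul_index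
    rw [Nat.card_congr (Subgroup.subgroupOfEquivOfLe hJC).toEquiv, S.card_J, cardC, ← h2,
      Subgroup.index_map_eq Jc hπ hkerJ] at h1
    have h0 : Jc.index ≠ 0 := Subgroup.index_ne_zero_of_finite
    have : 27 * Jc.index = 3 * Nat.card E * Jc.index := by rw [h1, mul_assoc]
    have := mul_right_cancel₀ h0 this
    omega
  have hline : ∀ i j : Fin 3, ∀ h : S.a ^ i.val * S.b ^ j.val ∈ C,
      π ⟨_, h⟩ ∈ Subgroup.zpowers (π ⟨S.a, hJC ha⟩) := by
    intro i j h
    have : π ⟨_, h⟩ = π ⟨S.a, hJC ha⟩ ^ i.val := by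
      rw [show (⟨_, h⟩ : C) = ⟨S.a, hJC ha⟩ ^ i.val * ⟨S.b, hJC hb⟩ ^ j.val from Subtype.ext (by simp),
        map_mul, map_pow, map_pow, hπone ⟨S.b, hJC hb⟩ (Subgroup.mem_zpowers _), one_pow, mul_one]
    rw [this]
    exact pow_mem (Subgroup.mem_zpowers _) _
  let Ln : Lines (C ⧸ Bc) :=
    { E := E
      u := π ⟨S.a, hJC ha⟩
      t := π ⟨S.g2, hgC⟩
      card_E := cardE
      comm := by
        rintro _ ⟨x, hx, rfl⟩ _ ⟨y, hy, rfl⟩
        rw [← map_mul, ← map_mul]
        exact congrArg π (Subtype.ext (S.J_comm hx hy))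
      cube := by
        rintro _ ⟨x, hx, rfl⟩
        rw [← map_mul, ← map_mul, show x * x * x = 1 from Subtype.ext (S.J_cube hx), map_one]
      u_mem := (hE _).2 ha
      u_ne := fun h => by
        have h1 : S.a ∈ Subgroup.zpowers S.b :=
          (hBmem ⟨S.a, hJC ha⟩).1 ((QuotientGroup.eq_one_iff _).1 h)
        obtain ⟨i, hi⟩ : ∃ i : Fin 3, S.a = S.b ^ i.val := by
          rcases zpowers_cases (S.J_cube hb) h1 with e | e | e
          · exact ⟨0, by simp [e]⟩
          · exact ⟨1, by simp [e]⟩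
          · exact ⟨2, by simp [e, inv_eq_mul_self (S.J_cube hb), pow_two]⟩
        refine a_notMem_b_model i ?_
        have e : el S.e (jrep 0) = el S.e (jrep 1) ^ i.val := Subtype.ext (by simpa using hi)
        have := congrArg (wim S.e) e
        rwa [wim_pow, wim_el S.e (jrep_sign 0), wim_el S.e (jrep_sign 1)] at this
      t_notMem := fun h => S.g2_notMem_J ((hE _).1 h)
      inv_t := by
        rintro _ ⟨x, hx, rfl⟩
        rw [← map_inv, ← map_mul, ← map_mul, eq_inv_iff_mul_eq_one, ← map_mul]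
        exact hπone _ (by simpa using S.g2_inv hx)
      norm := by
        intro g hg
        obtain ⟨x, rfl⟩ := hπ g
        have hxJ : ∀ j ∈ S.J, (x : G) * j * (x : G)⁻¹ ∈ S.J := fun j hj => by
          have := hg _ ((hE ⟨j, hJC hj⟩).2 hj)
          rw [← map_inv, ← map_mul, ← map_mul, hE] at this
          simpa using this
        have hxH : (x : G) ∈ S.H := S.mem_H_of_conj_J fun j hj => S.le_H (hxJ j hj)
        refine (S.mem_J_or hxH (hcomm _ x.2)).imp (fun h => (hE x).2 h) fun h => ?_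
        rw [← map_inv, ← map_mul, hE]
        simpa [inv_eq_of_mul_eq_one_right S.g2_mul_self] using h
      cent := by
        intro d hd hdu g hg
        obtain ⟨j, hj, rfl⟩ := hd
        obtain ⟨x, rfl⟩ := hπ g
        refine (hE x).2 (S.key_line (d := (j : G)) hj (fun i k e => hdu ?_) (hcomm _ x.2) ?_)
        · rw [show j = ⟨S.a ^ i.val * S.b ^ k.val, e ▸ j.2⟩ from Subtype.ext e]
          exact hline i k _
        · have := hπeq (j * x) (x * j) (by rw [map_mul, map_mul, hg])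
          simpa [mul_assoc] using this
      core := by
        intro O hOn hO3
        let P : Subgroup C := O.comap π
        have hBP : Bc ≤ P := fun z hz => by
          rw [Subgroup.mem_comap, hπone z ((hBmem z).1 hz)]; exact one_mem _
        have cardP : Nat.card P = 3 * Nat.card O := by
          have h1 : Nat.card P * P.index = Nat.card C := P.card_mul_index
          have h2 : Nat.card O * O.index = Nat.card (C ⧸ Bc) := O.card_mul_index
          rw [Subgroup.index_comap_of_surjective O hπ, cardC, ← h2, ← mul_assoc] at h1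
          exact mul_right_cancel₀ Subgroup.index_ne_zero_of_finite h1
        let B' : Subgroup P := Bc.subgroupOf P
        haveI : IsMulCommutative B' := ⟨⟨fun a b => Subtype.ext (Subtype.ext (hcentral _ a.2 _))⟩⟩
        letI : CommGroup B' := { (inferInstance : Group B') with
          mul_comm := fun a b => Subtype.ext (Subtype.ext (hcentral _ a.2 _)) }
        have hpow : ∀ (y : P) (k : ℕ) (y₀ : P), y₀⁻¹ * y ^ k * y₀ ∈ B' →
            y₀⁻¹ * y ^ k * y₀ = y ^ k := by
          intro y k y₀ h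
          have h1 := hcentral _ h (y₀ : C)
          refine Subtype.ext ?_
          simp only [Subgroup.coe_mul, Subgroup.coe_inv, SubmonoidClass.coe_pow,
            Subgroup.coe_subtype] at h1 ⊢
          calc (y₀ : C)⁻¹ * (y : C) ^ k * y₀ =
              (y₀ : C)⁻¹ * (y : C) ^ k * y₀ * (y₀ : C) * (y₀ : C)⁻¹ := by group
            _ = (y₀ : C) * ((y₀ : C)⁻¹ * (y : C) ^ k * y₀) * (y₀ : C)⁻¹ := by rw [h1]
            _ = (y : C) ^ k := by group
        let φ : P →* B' := MonoidHom.transfer (MonoidHom.id B')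
        have hφ : ∀ y : P, ((φ y : P) : C) = (y : C) ^ B'.index := fun y => by
          rw [show φ y = _ from MonoidHom.transfer_eq_pow (MonoidHom.id B') y (hpow y)]
          simp
        have hidx : B'.index = Nat.card O := by
          have h := B'.card_mul_index
          rw [Nat.card_congr (Subgroup.subgroupOfEquivOfLe hBP).toEquiv, cardB, cardP] at h
          omega
        have hker : ∀ y : P, y ∈ φ.ker ↔ (y : C) ^ Nat.card O = 1 := fun y => by
          rw [MonoidHom.mem_ker, ← hidx, ← hφ y]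
          exact ⟨fun h => by rw [h]; rfl, fun h => Subtype.ext (Subtype.ext h)⟩
        let K : Subgroup C := φ.ker.map P.subtype
        have hKn : K.Normal := ⟨by
          rintro _ ⟨y, hy, rfl⟩ g
          refine ⟨⟨g * y * g⁻¹, Subgroup.Normal.conj_mem (hOn.comap π) _ y.2 g⟩, ?_, rfl⟩
          show _ ∈ φ.ker
          rw [hker]
          show (g * (y : C) * g⁻¹) ^ Nat.card O = 1
          rw [conj_pow, (hker y).1 hy, mul_one, mul_inv_cancel]⟩
        have hK3 : ¬ 3 ∣ Nat.card K := by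
          intro h3
          rw [Subgroup.card_subtype] at h3
          obtain ⟨⟨y, hy⟩, ho⟩ := exists_prime_orderOf_dvd_card' 3 h3
          rw [Subgroup.orderOf_mk] at ho
          have h1 : orderOf (y : C) ∣ Nat.card O := orderOf_dvd_of_pow_eq_one ((hker y).1 hy)
          rw [Subgroup.orderOf_coe, ho] at h1
          exact hO3 h1
        have hKbot : K = ⊥ := by
          have := CfsgLib.PCore.le_pPrimeCore_of_not_dvd hKn hK3
          rw [S.cores S.b (S.le_H hb) ob] at this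
          exact le_bot_iff.1 this
        have hφi : Function.Injective φ := by
          rw [← MonoidHom.ker_eq_bot_iff]
          exact (Subgroup.map_eq_bot_iff_of_injective _ P.subtype_injective).1 hKbot
        have hle := Nat.card_le_card_of_injective _ hφi
        rw [Nat.card_congr (Subgroup.subgroupOfEquivOfLe hBP).toEquiv, cardB, cardP] at hle
        have : 0 < Nat.card O := Nat.card_pos
        exact Subgroup.card_eq_one.1 (by omega) }
  intro x hx
  rcases Ln.exhaust (π ⟨x, hx⟩) with h | h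
  · exact S.le_H ((hE _).1 h)
  · have h' : π (⟨x, hx⟩ * ⟨S.g2, hgC⟩⁻¹) ∈ E := by rw [map_mul, map_inv]; exact h
    have hJ := S.le_H ((hE _).1 h')
    have := mul_mem hJ (SetLike.coe_mem (el S.e gC))
    simpa using this

end Setup

end CfsgLib.AltNine
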