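import Cfsg.Agent.Lib.Recognition.AltNine.Chars
import Mathlib.Analysis.SpecialFunctions.Complex.Log
import Mathlib.Tactic.Group

/-!
# The nine forms on `3³ : S₄`

Soundness of the monomial data: the nine forms are generalized characters of the model.
-/

set_option autoImplicit false

namespace CfsgLib.AltNine

open Cfsg CfsgLib.ThreeCubed CfsgLib.ThreeCubedWreath CfsgLib.Characters
open scoped ComplexConjugate

/-- The embedding of the values. -/
noncomputable def toC : ℤ√3 →+* ℂ :=
  Zsqrtd.lift ⟨((Real.sqrt 3 : ℝ) : ℂ), by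
    rw [← Complex.ofReal_mul, Real.mul_self_sqrt (by norm_num)]; norm_num⟩

/-- Half of a pair as a complex number. -/
noncomputable def half2 (p : ℤ√3 × ℤ√3) : ℂ := (toC p.1 + toC p.2 * Complex.I) / 2

/-- The twelfth root of unity. -/
noncomputable def zeta : ℂ := (((Real.sqrt 3 : ℝ) : ℂ) + Complex.I) / 2

theorem half2_add (p q : ℤ√3 × ℤ√3) : half2 (p + q) = half2 p + half2 q := by
  simp [half2, Prod.fst_add, Prod.snd_add]; ring

theorem toC_conj (p : ℤ√3) : conj (toC p) = toC p := by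
  simp [toC, Zsqrtd.lift, Complex.conj_ofReal]

theorem sqrt3_sq : (((Real.sqrt 3 : ℝ) : ℂ)) * ((Real.sqrt 3 : ℝ) : ℂ) = 3 := by
  rw [← Complex.ofReal_mul, Real.mul_self_sqrt (by norm_num)]; norm_num

theorem zeta_pow_lt : ∀ k : Fin 12, zeta ^ (k : ℕ) = half2 (zz k) := by
  have h := sqrt3_sq
  have hi := Complex.I_mul_I
  have step : ∀ (k : ℕ) (hk : k + 1 < 12), zeta ^ k = half2 (zz ⟨k, by omega⟩) →
      zeta ^ (k + 1) = half2 (zz ⟨k + 1, hk⟩) := by
    intro k hk ih
    rw [pow_succ, ih]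
    have hk11 : k < 11 := by omega
    interval_cases k <;>
      simp [zz, half2, zeta, toC, Zsqrtd.lift] <;>
      ring_nf <;> simp [pow_two, h, hi] <;> ring
  rintro ⟨k, hk⟩
  induction k with
  | zero => simp [zz, half2, map_ofNat]
  | succ k ih => exact step k hk (ih (by omega))

theorem zeta_twelve : zeta ^ 12 = 1 := by
  have e : zeta ^ 12 = zeta ^ ((6 : Fin 12) : ℕ) * zeta ^ ((6 : Fin 12) : ℕ) := by
    rw [← pow_add]; rfl
  rw [e, zeta_pow_lt]
  simp [zz, half2, map_ofNat]

theorem zeta_pow (n : ℕ) : zeta ^ n = half2 (zz (Fin.ofNat 12 n)) := by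
  rw [← zeta_pow_lt, ← pow_mod_orderOf]
  have hd : orderOf zeta ∣ 12 := orderOf_dvd_of_pow_eq_one zeta_twelve
  rw [← Nat.mod_mod_of_dvd n hd, pow_mod_orderOf]
  rfl

/-! ### Data -/

theorem span_induction {P : W → Prop} (h1 : P 1) : ∀ l : List (W × ℕ),
    (∀ p ∈ l, ∀ y, P y → P (p.1 * y)) → ∀ y ∈ span l, P y
  | [], _, y, hy => by simp [span] at hy; exact hy ▸ h1
  | p :: l, hl, y, hy => by
    simp only [span, List.mem_flatMap, List.mem_map, List.mem_range] at hy
    obtain ⟨z, hz, i, -, rfl⟩ := hy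
    induction i with
    | zero => simpa using span_induction h1 l (fun q hq => hl q (List.mem_cons_of_mem _ hq)) z hz
    | succ i ih =>
      rw [pow_succ', mul_assoc]
      exact hl p (List.mem_cons_self ..) _ ih

theorem Datum.mul_spec {d : Datum} (hK : d.okK = true) (hE : d.okE = true)
    (hgens : ∀ p ∈ d.gens, p.1 ∈ M4) :
    d.K 1 = true ∧ zeta ^ d.e 1 = 1 ∧ ∀ x ∈ el4, d.K x = true → ∀ y ∈ el4, d.K y = true →
      d.K (x * y) = true ∧ zeta ^ d.e (x * y) = zeta ^ d.e x * zeta ^ d.e y := by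
  simp only [Datum.okK, Datum.okE, Bool.and_eq_true, List.all_eq_true, Bool.or_eq_true,
    Bool.not_eq_true', decide_eq_true_eq, List.contains_iff_mem] at hK hE
  obtain ⟨⟨⟨⟨h1, hspan⟩, hKg⟩, -⟩, -⟩ := hK
  obtain ⟨he1, heg⟩ := hE
  have hmod : ∀ a b : ℕ, a % 12 = b % 12 → zeta ^ a = zeta ^ b := by
    intro a b h
    rw [← Nat.mod_add_div a 12, ← Nat.mod_add_div b 12, pow_add, pow_add, pow_mul, pow_mul,
      zeta_twelve, one_pow, one_pow, h]
  have he1' : zeta ^ d.e 1 = 1 := by rw [hmod (d.e 1) 0 (by rw [he1]), pow_zero]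
  refine ⟨h1, he1', fun x hx hxK y hy hyK => ?_⟩
  have hy' := (hspan y hy).resolve_left (by simp [hyK])
  let P : W → Prop := fun z => z ∈ M4 ∧ d.K z = true ∧ ∀ x ∈ el4, d.K x = true →
    d.K (x * z) = true ∧ zeta ^ d.e (x * z) = zeta ^ d.e x * zeta ^ d.e z
  have hP1 : P 1 := ⟨one_mem _, h1, fun x _ hx => by simp [hx, he1']⟩
  have hPg : ∀ p ∈ d.gens, ∀ z, P z → P (p.1 * z) := by
    intro p hp z hz
    have hg : ∀ w ∈ el4, d.K w = true →
        d.K (w * p.1) = true ∧ zeta ^ d.e (w * p.1) = zeta ^ d.e w * zeta ^ d.e p.1 := fun w hw hwK =>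
      ⟨((hKg w hw).resolve_left (by simp [hwK])) p hp, by
        rw [← pow_add]
        exact hmod _ _ (((heg w hw).resolve_left (by simp [hwK])) p hp).symm⟩
    have hp1 := hg 1 (mem_el4.2 (one_mem _)) h1
    rw [one_mul] at hp1
    have hpM : p.1 ∈ M4 := hgens p hp
    refine ⟨mul_mem hpM hz.1, ?_, fun w hw hwK => ?_⟩
    · exact (hz.2.2 p.1 (mem_el4.2 hpM) hp1.1).1
    · obtain ⟨g1, g2⟩ := hg w hw hwK
      obtain ⟨z1, z2⟩ := hz.2.2 (w * p.1) (mem_el4.2 (mul_mem (mem_el4.1 hw) hpM)) g1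
      obtain ⟨-, z4⟩ := hz.2.2 p.1 (mem_el4.2 hpM) hp1.1
      rw [← mul_assoc]
      exact ⟨z1, by rw [z2, g2, z4, mul_assoc]⟩
  exact (span_induction hP1 d.gens hPg y hy').2.2 x hx hxK

theorem Datum.isCharacter_row {d : Datum} (hK : d.okK = true) (hE : d.okE = true)
    (hgens : ∀ p ∈ d.gens, p.1 ∈ M4) (row : Fin 14 → ℤ√3) (hT : d.okT row = true) :
    IsCharacter M4 (fun x => toC (row (cid (x : W)))) := by
  classical
  obtain ⟨h1, he1, hmul⟩ := Datum.mul_spec hK hE hgens
  simp only [Datum.okK, Datum.okT, Bool.and_eq_true, List.all_eq_true, decide_eq_true_eq,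
    beq_iff_eq, List.mem_finRange, forall_const] at hK hT
  obtain ⟨⟨-, hrm⟩, htr⟩ := hK
  letI : Fintype M4 := Fintype.ofFinite _
  let S : Submonoid M4 :=
    { carrier := {x | d.K (x : W) = true}
      one_mem' := h1
      mul_mem' := fun {a b} ha hb => (hmul a (mem_el4.2 a.2) ha b (mem_el4.2 b.2) hb).1 }
  let KS : Subgroup M4 :=
    { S with
      inv_mem' := fun {x} hx => by
        have hxS : x ∈ S := hx
        have h := S.pow_mem hxS (orderOf x - 1)
        have hxi : x ^ (orderOf x - 1) = x⁻¹ := by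
          refine eq_inv_of_mul_eq_one_left ?_
          rw [← pow_succ, Nat.sub_add_cancel (orderOf_pos x), pow_orderOf_eq_one]
        rwa [hxi] at h }
  letI : Fintype KS := Fintype.ofFinite _
  let φ : KS →* ℂ :=
    { toFun := fun x => zeta ^ d.e ((x : M4) : W)
      map_one' := he1
      map_mul' := fun a b =>
        (hmul _ (mem_el4.2 (a : M4).2) a.2 _ (mem_el4.2 (b : M4).2) b.2).2 }
  have hφ : IsClassFunction KS φ :=
    Induction.isClassFunction_of_isCharacter (Induction.isCharacter_monoidHom φ)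
  let R : Fin d.n → M4 := fun j => ⟨d.reps j, mem_M4_iff.2 (hrm j)⟩
  let ψ : Fin d.n × KS → M4 := fun p => R p.1 * p.2
  have huniq : ∀ x : M4, ∃ j, ∀ i, d.K ((d.reps i)⁻¹ * (x : W)) = true ↔ i = j := by
    intro x
    obtain ⟨j, hj⟩ := List.length_eq_one_iff.1 (htr x (mem_el4.2 x.2))
    refine ⟨j, fun i => ?_⟩
    have hij : i ∈ (List.finRange d.n).filter (fun i => d.K ((d.reps i)⁻¹ * (x : W))) ↔ i = j := by
      rw [hj, List.mem_singleton]
    simpa [List.mem_filter] using hij
  have hψ : Function.Bijective ψ := by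
    constructor
    · rintro ⟨i, a⟩ ⟨j, b⟩ h
      obtain ⟨k, hk⟩ := huniq (ψ (i, a))
      have hi : i = k := (hk i).1 (by
        have e : (d.reps i)⁻¹ * ((ψ (i, a) : M4) : W) = ((a : M4) : W) := by simp [ψ, R]
        rw [e]; exact a.2)
      have hj : j = k := (hk j).1 (by
        rw [h]
        have e : (d.reps j)⁻¹ * ((ψ (j, b) : M4) : W) = ((b : M4) : W) := by simp [ψ, R]
        rw [e]; exact b.2)
      obtain rfl : i = j := hi.trans hj.symm
      exact Prod.ext rfl (Subtype.ext (mul_left_cancel h))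
    · intro x
      obtain ⟨j, hj⟩ := huniq x
      refine ⟨(j, ⟨(R j)⁻¹ * x, ?_⟩), by simp [ψ]⟩
      show d.K (((R j)⁻¹ * x : M4) : W) = true
      exact (hj j).2 rfl
  have key : ∀ g : M4, indFun KS φ g = ∑ j, extendByZero KS φ ((R j)⁻¹ * g * R j) := by
    intro g
    rw [Induction.indFun_apply, ← (Equiv.ofBijective ψ hψ).sum_comp, Fintype.sum_prod_type]
    have e : ∀ (j : Fin d.n) (k : KS),
        extendByZero KS φ ((Equiv.ofBijective ψ hψ (j, k))⁻¹ * g * Equiv.ofBijective ψ hψ (j, k)) =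
          extendByZero KS φ ((R j)⁻¹ * g * R j) := by
      intro j k
      have := Induction.extendByZero_conj KS hφ k⁻¹ ((R j)⁻¹ * g * R j)
      rw [← this]
      congr 1
      simp [ψ, mul_assoc]
    simp only [e, Finset.sum_const, Finset.card_univ, ← Nat.card_eq_fintype_card, nsmul_eq_mul,
      ← Finset.mul_sum]
    rw [← mul_assoc, inv_mul_cancel₀ (Induction.natCard_ne_zero' (X := KS)), one_mul]
  have hfun : (fun x : M4 => toC (row (cid (x : W)))) = indFun KS φ := by
    funext g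
    rw [key]
    have hsum : ∀ l : List (Fin d.n),
        half2 (l.foldr (fun j acc => let y := (d.reps j)⁻¹ * (g : W) * d.reps j
          if d.K y then zz (Fin.ofNat 12 (d.e y)) + acc else acc) 0) =
          (l.map fun j => extendByZero KS φ ((R j)⁻¹ * g * R j)).sum := by
      intro l
      induction l with
      | nil => simp [half2]
      | cons j l ih =>
        simp only [List.foldr_cons, List.map_cons, List.sum_cons]
        by_cases hy : d.K ((d.reps j)⁻¹ * (g : W) * d.reps j) = true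
        · have hm : (R j)⁻¹ * g * R j ∈ KS := hy
          rw [if_pos hy, half2_add, Induction.extendByZero_mem KS φ hm, ih, ← zeta_pow]
          rfl
        · have hm : (R j)⁻¹ * g * R j ∉ KS := hy
          rw [if_neg hy, Induction.extendByZero_notMem KS φ hm, ih, zero_add]
    have h := hsum (List.finRange d.n)
    rw [← List.sum_toFinset _ (List.nodup_finRange _), List.toFinset_finRange] at h
    rw [← h]
    show _ = half2 (d.val g)
    rw [hT _ (mem_el4.2 g.2)]
    simp [half2, map_ofNat]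
  rw [hfun]
  exact Induction.isCharacter_indFun KS (Induction.isCharacter_monoidHom φ)

theorem gens_mem (i : Fin 13) : ∀ p ∈ (data i).gens, p.1 ∈ M4 := by
  intro p hp
  rw [mem_M4_iff]
  revert p
  revert i
  decide +kernel

theorem okK_all : ∀ i : Fin 13, (data i).okK = true := by
  intro i
  fin_cases i
  exacts [okK_E, okK_P, okK_P, okK_P, okK_A, okK_A, okK_A, okK_A, okK_B, okK_B, okK_C, okK_C, okK_C]

theorem okT_all : ∀ i : Fin 13, (data i).okT (dtab i) = true := by
  have h0 := okT0; have h1 := okT1; have h2 := okT2; have h3 := okT3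
  simp only [Bool.and_eq_true] at h0 h1 h2 h3
  intro i
  fin_cases i
  exacts [h0.1.1.1.1, h0.1.1.1.2, h0.1.1.2, h0.1.2, h0.2, h1.1.1, h1.1.2, h1.2, h2.1, h2.2,
    h3.1.1, h3.1.2, h3.2]

theorem isCharacter_dtab (i : Fin 13) :
    IsCharacter M4 (fun x => toC (dtab i (cid (x : W)))) :=
  Datum.isCharacter_row (okK_all i) (List.all_eq_true.1 okE_all i (List.mem_finRange _))
    (gens_mem i) _ (okT_all i)

end CfsgLib.AltNine
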