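import Cfsg.Agent.Lib.ThreeCubedWreath.Facts
import Cfsg.Agent.Lib.Characters.Induction
import Cfsg.Agent.Lib.Characters.Generalized
import Mathlib.NumberTheory.Zsqrtd.Basic
import Mathlib.Analysis.Real.Sqrt
import Mathlib.Data.Complex.Basic
import Mathlib.Data.Fin.VecNotation
import Mathlib.Tactic.FinCases

/-!
# Monomial characters of `3³ : S₄`

The classes of the model are separated by `cid`; thirteen monomial characters are tabulated on them.
-/

set_option autoImplicit false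

namespace CfsgLib.AltNine

open Cfsg CfsgLib.ThreeCubed CfsgLib.ThreeCubedWreath CfsgLib.Characters

/-- The rotation part. -/
def rotE : D3 → ZMod 3
  | .r i => i
  | .sr i => i

/-- Whether a reflection. -/
def flp : D3 → Bool
  | .r _ => false
  | .sr _ => true

/-- The class of an element of the model. -/
def cid (x : W) : Fin 14 :=
  match x.right with
  | .r k =>
    if k = 0 then
      if flp x.left.1 || flp x.left.2.1 || flp x.left.2.2 then
        (if (!flp x.left.1 && rotE x.left.1 != 0) || (!flp x.left.2.1 && rotE x.left.2.1 != 0) ||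
          (!flp x.left.2.2 && rotE x.left.2.2 != 0) then 5 else 4)
      else
        Fin.ofNat 14 ((if rotE x.left.1 = 0 then 0 else 1) + (if rotE x.left.2.1 = 0 then 0 else 1) +
          (if rotE x.left.2.2 = 0 then 0 else 1))
    else
      let j := cmp (act (DihedralGroup.r (-k)) 0) x.left
      let l := cmp (act (DihedralGroup.r (-k)) (act (DihedralGroup.r (-k)) 0)) x.left
      let t := rotE (x.left.1 * j * l)
      if t = 0 then 11 else if (t == k) != flp j then 12 else 13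
  | .sr m =>
    let a := cmp (-m) x.left
    let j := CfsgLib.ThreeCubed.cmp (-m + 1 : ZMod 3) x.left
    let l := CfsgLib.ThreeCubed.cmp (-m + 2 : ZMod 3) x.left
    if flp a then (if rotE (j * l) = 0 then 6 else 7)
    else if rotE a = 0 then 8
    else if (rotE a == 1) == flp j then 9 else 10

/-- The elements of `D3`. -/
def L6 : List D3 := [.r 0, .r 1, .r 2, .sr 0, .sr 1, .sr 2]

/-- An element of the model from free parameters. -/
def mkE (a b : D3) (k : ZMod 3) (s : D3) : W :=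
  ⟨(a, b, if (flp a != flp b) != flp s then .sr k else .r k), s⟩

/-- The elements of the model. -/
def el4 : List W :=
  L6.flatMap fun s => L6.flatMap fun a => L6.flatMap fun b =>
    ([0, 1, 2] : List (ZMod 3)).map fun k => mkE a b k s

theorem mem_el4 {x : W} : x ∈ el4 ↔ x ∈ M4 := by
  rw [mem_M4_iff]
  have h6 : ∀ a : D3, a ∈ L6 := by decide +kernel
  constructor
  · intro h
    simp only [el4, List.mem_flatMap, List.mem_map] at h
    obtain ⟨s, -, a, -, b, -, k, -, rfl⟩ := h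
    rcases a with a | a <;> rcases b with b | b <;> rcases s with s | s <;>
      simp [mkE, flp, sg, sgn]
  · intro h
    obtain ⟨⟨a, b, c⟩, s⟩ := x
    simp only [el4, List.mem_flatMap, List.mem_map]
    refine ⟨s, h6 s, a, h6 a, b, h6 b, rotE c, (by decide +kernel :
      ∀ k : ZMod 3, k ∈ ([0, 1, 2] : List (ZMod 3))) _, ?_⟩
    rcases a with a | a <;> rcases b with b | b <;> rcases c with c | c <;> rcases s with s | s <;>
      simp [mkE, flp, sg, sgn, rotE] at h ⊢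

theorem M4set_eq : M4set = el4.toFinset := by
  ext x
  rw [mem_M4set, List.mem_toFinset, mem_el4]

theorem nodup_el4 : el4.Nodup := by
  have h : el4.toFinset.card = el4.length := by
    rw [← M4set_eq, ← Nat.subtype_card M4set (p := fun x => x ∈ M4) fun x => mem_M4set, card_M4]
    decide +kernel
  rw [List.card_toFinset] at h
  exact List.dedup_eq_self.1 ((List.dedup_sublist el4).eq_of_length h)

/-- A monomial datum: a subgroup, exponents of a twelfth root of unity and coset representatives. -/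
structure Datum where
  /-- The number of cosets. -/
  n : ℕ
  /-- The subgroup. -/
  K : W → Bool
  /-- The exponent. -/
  e : W → ℕ
  /-- The representatives. -/
  reps : Fin n → W
  /-- Generators with bounds on the exponents. -/
  gens : List (W × ℕ)

/-- Products of powers of generators. -/
def span : List (W × ℕ) → List W
  | [] => [1]
  | p :: l => (span l).flatMap fun y => (List.range p.2).map fun i => p.1 ^ i * y

/-- The checks on the subgroup. -/
def Datum.okK (d : Datum) : Bool :=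
  d.K 1 && (el4.all fun x => !d.K x || (span d.gens).contains x) &&
    (el4.all fun x => !d.K x || d.gens.all fun p => d.K (x * p.1)) &&
    ((List.finRange d.n).all fun j =>
      decide (sg (d.reps j).left * sgn (d.reps j).right = 1)) &&
    el4.all fun x => ((List.finRange d.n).filter fun j => d.K ((d.reps j)⁻¹ * x)).length == 1

/-- The check on the exponent. -/
def Datum.okE (d : Datum) : Bool :=
  decide (d.e 1 % 12 = 0) && el4.all fun x => !d.K x ||
    d.gens.all fun p => decide ((d.e x + d.e p.1) % 12 = d.e (x * p.1) % 12)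

/-- Twice a twelfth root of unity, by real and imaginary part. -/
def zz : Fin 12 → ℤ√3 × ℤ√3 :=
  ![(2, 0), (⟨0, 1⟩, 1), (1, ⟨0, 1⟩), (0, 2), (-1, ⟨0, 1⟩), (⟨0, -1⟩, 1), (-2, 0), (⟨0, -1⟩, -1),
    (-1, ⟨0, -1⟩), (0, -2), (1, ⟨0, -1⟩), (⟨0, 1⟩, -1)]

/-- Twice the value of the monomial character. -/
def Datum.val (d : Datum) (g : W) : ℤ√3 × ℤ√3 :=
  (List.finRange d.n).foldr (fun j acc => let y := (d.reps j)⁻¹ * g * d.reps j
    if d.K y then zz (Fin.ofNat 12 (d.e y)) + acc else acc) 0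

/-- Coset representatives. -/
def repsP : Fin 3 → W :=
  ![⟨(.r 0, .r 0, .r 0), .r 0⟩,
    ⟨(.r 0, .r 0, .r 0), .r 1⟩,
    ⟨(.r 0, .r 0, .r 0), .r 2⟩]

/-- Coset representatives. -/
def repsA : Fin 6 → W :=
  ![⟨(.r 0, .r 0, .r 0), .r 0⟩,
    ⟨(.r 0, .r 0, .r 0), .r 1⟩,
    ⟨(.r 0, .r 0, .r 0), .r 2⟩,
    ⟨(.r 0, .r 0, .sr 0), .sr 2⟩,
    ⟨(.r 0, .sr 0, .r 0), .sr 1⟩,
    ⟨(.sr 0, .r 0, .r 0), .sr 0⟩]

/-- Coset representatives. -/
def repsC : Fin 8 → W :=
  ![⟨(.r 0, .r 0, .r 0), .r 0⟩,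
    ⟨(.r 0, .r 0, .sr 0), .sr 0⟩,
    ⟨(.r 0, .sr 0, .r 0), .sr 0⟩,
    ⟨(.r 0, .sr 0, .sr 0), .r 0⟩,
    ⟨(.sr 0, .r 0, .r 0), .sr 0⟩,
    ⟨(.sr 0, .r 0, .sr 0), .r 0⟩,
    ⟨(.sr 0, .sr 0, .r 0), .r 0⟩,
    ⟨(.sr 0, .sr 0, .sr 0), .sr 0⟩]

/-- Coset representatives. -/
def repsB : Fin 12 → W :=
  ![⟨(.r 0, .r 0, .r 0), .r 0⟩,
    ⟨(.r 0, .r 0, .r 0), .r 1⟩,
    ⟨(.r 0, .r 0, .r 0), .r 2⟩,
    ⟨(.r 0, .r 0, .sr 0), .sr 0⟩,
    ⟨(.r 0, .r 0, .sr 0), .sr 2⟩,
    ⟨(.r 0, .sr 0, .r 0), .sr 1⟩,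
    ⟨(.r 0, .sr 0, .r 0), .sr 2⟩,
    ⟨(.r 0, .sr 0, .sr 0), .r 2⟩,
    ⟨(.sr 0, .r 0, .r 0), .sr 0⟩,
    ⟨(.sr 0, .r 0, .r 0), .sr 1⟩,
    ⟨(.sr 0, .r 0, .sr 0), .r 1⟩,
    ⟨(.sr 0, .sr 0, .r 0), .r 0⟩]

/-- Coset representatives. -/
def repsE : Fin 2 → W :=
  ![⟨(.r 0, .r 0, .r 0), .r 0⟩,
    ⟨(.r 0, .r 0, .sr 0), .sr 0⟩]

/-- The values on the fourteen classes. -/
def dtab : Fin 13 → Fin 14 → ℤ√3 :=
  ![![2, 2, 2, 2, 2, 2, 0, 0, 0, 0, 0, 2, 2, 2],
    ![3, 3, 3, 3, 3, 3, 1, 1, 1, 1, 1, 0, 0, 0],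
    ![3, 3, 3, 3, -1, -1, -1, -1, 1, 1, 1, 0, 0, 0],
    ![3, 3, 3, 3, -1, -1, 1, 1, -1, -1, -1, 0, 0, 0],
    ![6, 3, 0, -3, 2, -1, 0, 0, 2, -1, -1, 0, 0, 0],
    ![6, 3, 0, -3, -2, 1, 0, 0, 0, ⟨0, -1⟩, ⟨0, 1⟩, 0, 0, 0],
    ![6, 3, 0, -3, 2, -1, 0, 0, -2, 1, 1, 0, 0, 0],
    ![6, 3, 0, -3, -2, 1, 0, 0, 0, ⟨0, 1⟩, ⟨0, -1⟩, 0, 0, 0],
    ![12, 0, -3, 3, 0, 0, 2, -1, 0, 0, 0, 0, 0, 0],
    ![12, 0, -3, 3, 0, 0, -2, 1, 0, 0, 0, 0, 0, 0],
    ![8, -4, 2, -1, 0, 0, 0, 0, 0, 0, 0, 2, -1, -1],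
    ![8, -4, 2, -1, 0, 0, 0, 0, 0, 0, 0, -1, -1, 2],
    ![8, -4, 2, -1, 0, 0, 0, 0, 0, 0, 0, -1, 2, -1]]

/-- The exponent on the stabiliser of the first block in its cyclic part. -/
def cA (x : W) : ℕ :=
  if x.right = 1 then (if flp x.left.2.1 then 2 else 0) else if flp x.left.2.1 then 1 else 3

/-- The rotation part as a natural number. -/
def rn (a : D3) : ℕ := (rotE a).val

/-- Generators of the translation subgroup. -/
def gJ : List (W × ℕ) :=
  [(⟨(.r 1, .r 0, .r 0), .r 0⟩, 3), (⟨(.r 0, .r 1, .r 0), .r 0⟩, 3), (⟨(.r 0, .r 0, .r 1), .r 0⟩, 3)]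

/-- Generators of the pairs of reflections. -/
def gF : List (W × ℕ) :=
  [(⟨(.sr 0, .sr 0, .r 0), .r 0⟩, 2), (⟨(.sr 0, .r 0, .sr 0), .r 0⟩, 2)]

/-- Generators of the five subgroups. -/
def gE : List (W × ℕ) := gJ ++ gF ++ [(⟨1, .r 1⟩, 3)]
/-- Generators. -/
def gP : List (W × ℕ) := gJ ++ gF ++ [(⟨(.sr 0, .r 0, .r 0), .sr 0⟩, 2)]
/-- Generators. -/
def gA : List (W × ℕ) := gJ ++ [(⟨(.r 0, .sr 0, .r 0), .sr 0⟩, 4)]
/-- Generators. -/
def gB4 : List (W × ℕ) := gJ ++ [(⟨(.r 0, .r 0, .sr 0), .sr 1⟩, 2)]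
/-- Generators. -/
def gC4 : List (W × ℕ) := gJ ++ [(⟨1, .r 1⟩, 3)]

/-- The thirteen data. -/
def data : Fin 13 → Datum :=
  ![⟨2, fun x => !flp x.right, fun _ => 0, repsE, gE⟩,
    ⟨3, fun x => act x.right 0 == 0, fun _ => 0, repsP, gP⟩,
    ⟨3, fun x => act x.right 0 == 0, fun x => if flp x.left.1 then 6 else 0, repsP, gP⟩,
    ⟨3, fun x => act x.right 0 == 0, fun x => if flp x.left.1 != flp x.right then 6 else 0, repsP, gP⟩,
    ⟨6, fun x => act x.right 0 == 0 && !flp x.left.1, fun x => 4 * rn x.left.1, repsA, gA⟩,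
    ⟨6, fun x => act x.right 0 == 0 && !flp x.left.1, fun x => 4 * rn x.left.1 + 3 * cA x, repsA, gA⟩,
    ⟨6, fun x => act x.right 0 == 0 && !flp x.left.1, fun x => 4 * rn x.left.1 + 6 * cA x, repsA, gA⟩,
    ⟨6, fun x => act x.right 0 == 0 && !flp x.left.1, fun x => 4 * rn x.left.1 + 9 * cA x, repsA, gA⟩,
    ⟨12, fun x => act x.right 2 == 2 && !flp x.left.1 && !flp x.left.2.1,
      fun x => 4 * (rn x.left.1 + rn x.left.2.1), repsB, gB4⟩,
    ⟨12, fun x => act x.right 2 == 2 && !flp x.left.1 && !flp x.left.2.1,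
      fun x => 4 * (rn x.left.1 + rn x.left.2.1) + if flp x.right then 6 else 0, repsB, gB4⟩,
    ⟨8, fun x => !flp x.right && !flp x.left.1 && !flp x.left.2.1 && !flp x.left.2.2,
      fun x => 4 * (rn x.left.1 + rn x.left.2.1 + rn x.left.2.2), repsC, gC4⟩,
    ⟨8, fun x => !flp x.right && !flp x.left.1 && !flp x.left.2.1 && !flp x.left.2.2,
      fun x => 4 * (rn x.left.1 + rn x.left.2.1 + rn x.left.2.2 + rn x.right), repsC, gC4⟩,
    ⟨8, fun x => !flp x.right && !flp x.left.1 && !flp x.left.2.1 && !flp x.left.2.2,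
      fun x => 4 * (rn x.left.1 + rn x.left.2.1 + rn x.left.2.2 + 2 * rn x.right), repsC, gC4⟩]

theorem okK_E : (data 0).okK = true := by decide +kernel
theorem okK_P : (data 1).okK = true := by decide +kernel
theorem okK_A : (data 4).okK = true := by decide +kernel
theorem okK_B : (data 8).okK = true := by decide +kernel
theorem okK_C : (data 10).okK = true := by decide +kernel

theorem okE_all : ((List.finRange 13).all fun d => (data d).okE) = true := by decide +kernel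

/-- The table is correct on a datum. -/
def Datum.okT (d : Datum) (row : Fin 14 → ℤ√3) : Bool :=
  el4.all fun x => d.val x == (2 * row (cid x), 0)

theorem okT0 : ((data 0).okT (dtab 0) && (data 1).okT (dtab 1) && (data 2).okT (dtab 2) &&
    (data 3).okT (dtab 3) && (data 4).okT (dtab 4)) = true := by decide +kernel
theorem okT1 : ((data 5).okT (dtab 5) && (data 6).okT (dtab 6) && (data 7).okT (dtab 7)) = true := by
  decide +kernel
theorem okT2 : ((data 8).okT (dtab 8) && (data 9).okT (dtab 9)) = true := by decide +kernel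
theorem okT3 : ((data 10).okT (dtab 10) && (data 11).okT (dtab 11) && (data 12).okT (dtab 12)) =
    true := by decide +kernel

end CfsgLib.AltNine
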