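import Cfsg.Agent.Lib.Recognition.AltNine.Setup
import Cfsg.Agent.Lib.Recognition.AltNine.Chars
import Cfsg.Agent.Lib.Frobenius.ZJComplement
import Cfsg.Agent.Lib.PCore.Basic
import Mathlib.GroupTheory.Sylow
import Mathlib.Tactic.Group

/-!
# Local structure: the elementary abelian subgroup is weakly closed and `C(c)` is a Sylow subgroup
-/

set_option autoImplicit false
set_option linter.style.haveILetI false

namespace CfsgLib.AltNine

open Cfsg CfsgLib.ThreeCubed CfsgLib.ThreeCubedWreath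

universe u

theorem exp_three_out : (el4.all fun x => if x * x * x == 1 then
    (decide (isJ x) || Nat.ble (el4.filter fun y => x * y == y * x).length 26) else true) = true := by
  decide +kernel

theorem count_isJ : (el4.filter fun x => decide (isJ x)).length = 27 := by decide +kernel

attribute [local irreducible] el4 M4set

namespace Setup

variable {G : Type u} [Group G] (S : Setup G)

theorem J_comm {x y : G} (hx : x ∈ S.J) (hy : y ∈ S.J) : x * y = y * x := by
  have h := isJ_comm ((S.memJ ⟨x, S.le_H hx⟩).1 hx) ((S.memJ ⟨y, S.le_H hy⟩).1 hy)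
  rw [← wim_mul, ← wim_mul] at h
  exact congrArg Subtype.val (wim_inj S.e h)

theorem J_cube {x : G} (hx : x ∈ S.J) : x * x * x = 1 :=
  wim_cube S.e (a := ⟨x, S.le_H hx⟩) (isJ_cube ((S.memJ ⟨x, S.le_H hx⟩).1 hx))

theorem card_H : Nat.card S.H = 648 := by rw [Nat.card_congr S.e.toEquiv, card_M4]

theorem card_J : Nat.card S.J = 27 := by
  classical
  let T := el4.toFinset.filter isJ
  have e : S.J ≃ T :=
    { toFun := fun j => ⟨wim S.e ⟨j, S.le_H j.2⟩, Finset.mem_filter.2
        ⟨List.mem_toFinset.2 (mem_el4.2 (wim_mem S.e _)), (S.memJ _).1 j.2⟩⟩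
      invFun := fun x => ⟨(el S.e x.1 : G), (S.memJ _).2 (by
        rw [wim_el S.e (mem_M4_iff.1 (isJ_iff.1 (Finset.mem_filter.1 x.2).2).1)]
        exact (Finset.mem_filter.1 x.2).2)⟩
      left_inv := fun j => Subtype.ext (ge_eq S.e (mem_M4_iff.1 (wim_mem S.e _)) rfl).symm
      right_inv := fun x => Subtype.ext
        (wim_el S.e (mem_M4_iff.1 (isJ_iff.1 (Finset.mem_filter.1 x.2).2).1)) }
  rw [Nat.card_congr e, Nat.card_eq_finsetCard]
  show (el4.toFinset.filter isJ).card = 27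
  rw [show el4.toFinset.filter isJ = (el4.filter fun x => decide (isJ x)).toFinset by ext x; simp,
    List.toFinset_card_of_nodup (List.Nodup.filter _ nodup_el4)]
  exact count_isJ

variable [Finite G]

/-- A set of commuting elements of exponent three of `H` with more than 26 elements lies in `J`. -/
theorem mem_J_of_comm (A : Subgroup G) (hA : A ≤ S.H) (hcomm : ∀ x ∈ A, ∀ y ∈ A, x * y = y * x)
    (hexp : ∀ x ∈ A, x * x * x = 1) (hcard : 27 ≤ Nat.card A) : A = S.J := by
  classical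
  have hle : A ≤ S.J := by
    intro x hx
    by_contra hxJ
    have hw : wim S.e ⟨x, hA hx⟩ * wim S.e ⟨x, hA hx⟩ * wim S.e ⟨x, hA hx⟩ = 1 := by
      rw [← wim_mul, ← wim_mul, ← wim_one S.e]
      exact congrArg _ (Subtype.ext (hexp x hx))
    have h := List.all_eq_true.1 exp_three_out _ (mem_el4.2 (wim_mem S.e ⟨x, hA hx⟩))
    rw [if_pos (beq_iff_eq.2 hw), Bool.or_eq_true, decide_eq_true_eq, Nat.ble_eq] at h
    rcases h with h | h
    · exact hxJ ((S.memJ ⟨x, hA hx⟩).2 h)
    · let f : A → {y // y ∈ (el4.filter fun y =>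
          wim S.e ⟨x, hA hx⟩ * y == y * wim S.e ⟨x, hA hx⟩).toFinset} := fun a =>
        ⟨wim S.e ⟨a, hA a.2⟩, List.mem_toFinset.2 (List.mem_filter.2
          ⟨mem_el4.2 (wim_mem S.e _), beq_iff_eq.2 (by
            rw [← wim_mul, ← wim_mul]
            exact congrArg (wim S.e) (Subtype.ext (hcomm x hx a a.2)))⟩)⟩
      have hf : Function.Injective f := fun a b hab => Subtype.ext (by
        have hab' : wim S.e ⟨a, hA a.2⟩ = wim S.e ⟨b, hA b.2⟩ := by
          have h0 := congrArg Subtype.val hab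
          exact h0
        have := wim_inj S.e hab'
        simpa using congrArg Subtype.val this)
      have h1 := Nat.card_le_card_of_injective f hf
      rw [Nat.card_eq_finsetCard] at h1
      exact absurd (hcard.trans (h1.trans ((List.toFinset_card_le _).trans h))) (by norm_num)
  exact Subgroup.eq_of_le_of_card_ge hle (S.card_J.le.trans hcard)

theorem mem_H_of_conj_J {g : G} (h : ∀ j ∈ S.J, g * j * g⁻¹ ∈ S.H) : g ∈ S.H := by
  have hmap : S.J.map (MulAut.conj g).toMonoidHom = S.J := by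
    refine S.mem_J_of_comm _ ?_ ?_ ?_ ?_
    · rintro _ ⟨j, hj, rfl⟩; exact h j hj
    · rintro _ ⟨j, hj, rfl⟩ _ ⟨k, hk, rfl⟩
      rw [← map_mul, ← map_mul, S.J_comm hj hk]
    · rintro _ ⟨j, hj, rfl⟩
      rw [← map_mul, ← map_mul, S.J_cube hj, map_one]
    · rw [Subgroup.card_map_of_injective (MulAut.conj g).injective, S.card_J]
  rw [S.normalizer_eq]
  haveI : Finite (S.J : Set G) := Subtype.finite
  refine Subgroup.mem_normalizer_fintype fun j hj => ?_
  exact hmap.le ⟨j, hj, rfl⟩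

/-- Every `3`-subgroup containing `J` lies in `H`. -/
theorem le_H_of_isPGroup {P : Subgroup G} (hP : IsPGroup 3 P) (hJP : S.J ≤ P) : P ≤ S.H := by
  haveI : Fact (Nat.Prime 3) := ⟨Nat.prime_three⟩
  by_contra hle
  haveI : Group.IsNilpotent P := hP.isNilpotent
  have hlt : S.H.subgroupOf P < ⊤ := by
    rw [lt_top_iff_ne_top]
    exact fun h => hle (Subgroup.subgroupOf_eq_top.1 h)
  obtain ⟨x, hx, hx'⟩ :=
    SetLike.exists_of_lt (Group.normalizerCondition_of_isNilpotent _ hlt)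
  refine hx' (Subgroup.mem_subgroupOf.2 (S.mem_H_of_conj_J fun j hj => ?_))
  exact (Subgroup.mem_normalizer_iff.1 hx ⟨j, hJP hj⟩).1 (S.le_H hj)

omit [Finite G] in
theorem isPGroup_J : IsPGroup 3 S.J := fun x => ⟨1, Subtype.ext (by
  simpa [pow_three, mul_assoc] using S.J_cube x.2)⟩

theorem exists_sylow : ∃ P : Sylow 3 G, (P : Subgroup G) ≤ S.H ∧ S.J ≤ P := by
  haveI : Fact (Nat.Prime 3) := ⟨Nat.prime_three⟩
  obtain ⟨P, hP⟩ := S.isPGroup_J.exists_le_sylow
  exact ⟨P, S.le_H_of_isPGroup P.isPGroup' hP, hP⟩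

theorem fusion {j g : G} (hj : j ∈ S.J) (h : g * j * g⁻¹ ∈ S.J) :
    ∃ k ∈ S.H, k * j * k⁻¹ = g * j * g⁻¹ := by
  haveI : Fact (Nat.Prime 3) := ⟨Nat.prime_three⟩
  set C := Subgroup.centralizer ({g * j * g⁻¹} : Set G)
  have h1 : S.J ≤ C := fun x hx => Subgroup.mem_centralizer_singleton_iff.2 (S.J_comm hx h)
  have h2 : S.J.map (MulAut.conj g).toMonoidHom ≤ C := by
    rintro _ ⟨x, hx, rfl⟩
    refine Subgroup.mem_centralizer_singleton_iff.2 ?_
    show (MulAut.conj g) x * (MulAut.conj g) j = (MulAut.conj g) j * (MulAut.conj g) x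
    rw [← map_mul, ← map_mul, S.J_comm hx hj]
  obtain ⟨P1, hP1⟩ := (S.isPGroup_J.comap_subtype (K := C)).exists_le_sylow
  obtain ⟨P2, hP2⟩ := (((S.isPGroup_J.map (MulAut.conj g).toMonoidHom)).comap_subtype
    (K := C)).exists_le_sylow
  obtain ⟨y, hy⟩ := MulAction.exists_smul_eq C P2 P1
  have hsub : (P1 : Subgroup C).map C.subtype ≤ S.H := by
    refine S.le_H_of_isPGroup (P1.isPGroup'.map _) fun x hx => ?_
    exact ⟨⟨x, h1 hx⟩, hP1 hx, rfl⟩
  refine ⟨(y : G) * g, S.mem_H_of_conj_J fun x hx => hsub ?_, ?_⟩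
  · have hm : (⟨g * x * g⁻¹, h2 ⟨x, hx, rfl⟩⟩ : C) ∈ (P2 : Subgroup C) := hP2 ⟨x, hx, rfl⟩
    refine ⟨y * ⟨g * x * g⁻¹, h2 ⟨x, hx, rfl⟩⟩ * y⁻¹, ?_, ?_⟩
    · rw [← hy, Sylow.coe_subgroup_smul]
      exact ⟨_, hm, rfl⟩
    · simp [mul_assoc]
  · have hc : (y : G) * (g * j * g⁻¹) = g * j * g⁻¹ * y :=
      Subgroup.mem_centralizer_singleton_iff.1 y.2
    calc (y : G) * g * j * ((y : G) * g)⁻¹ = (y : G) * (g * j * g⁻¹) * (y : G)⁻¹ := by group
      _ = g * j * g⁻¹ := by rw [hc]; group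

theorem centralizer_c_le : Subgroup.centralizer ({S.c} : Set G) ≤ S.H := by
  haveI : Fact (Nat.Prime 3) := ⟨Nat.prime_three⟩
  classical
  set X := Subgroup.centralizer ({S.c} : Set G) with hX
  have hJX : S.J ≤ X := fun x hx =>
    Subgroup.mem_centralizer_singleton_iff.2 (S.J_comm hx (S.jrep_memJ 2))
  obtain ⟨P, hJP⟩ := (S.isPGroup_J.comap_subtype (K := X)).exists_le_sylow
  have hPJ : ∀ {A : Subgroup X}, A ≤ P → Cfsg.IsElementaryAbelian 3 A → 27 ≤ Nat.card A →
      A.map X.subtype = S.J := by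
    intro A hAP hA hcard
    have hAH : A.map X.subtype ≤ S.H := (Subgroup.map_mono hAP).trans
      (S.le_H_of_isPGroup (P.isPGroup'.map _) fun x hx => ⟨⟨x, hJX hx⟩, hJP hx, rfl⟩)
    refine S.mem_J_of_comm _ hAH ?_ ?_ ?_
    · rintro _ ⟨x, hx, rfl⟩ _ ⟨y, hy, rfl⟩
      haveI := hA.1
      rw [← map_mul, ← map_mul]
      exact congrArg X.subtype (congrArg Subtype.val (mul_comm' (⟨x, hx⟩ : A) ⟨y, hy⟩))
    · rintro _ ⟨x, hx, rfl⟩
      rw [← map_mul, ← map_mul, ← map_one X.subtype]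
      congr 1
      simpa [pow_three, mul_assoc] using hA.2 x hx
    · rwa [Subgroup.card_map_of_injective X.subtype_injective]
  set J' := S.J.subgroupOf X
  have hJ'el : Cfsg.IsElementaryAbelian 3 J' :=
    ⟨⟨⟨fun a b => Subtype.ext (Subtype.ext (S.J_comm a.2 b.2))⟩⟩,
      fun a ha => Subtype.ext (by simpa [pow_three, mul_assoc] using S.J_cube ha)⟩
  have hJ'card : Nat.card J' = 27 := by
    rw [Nat.card_congr (Subgroup.subgroupOfEquivOfLe hJX).toEquiv, S.card_J]
  have hinj : ∀ {A : Subgroup X}, A ≤ P → Cfsg.IsElementaryAbelian 3 A → 27 ≤ Nat.card A →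
      A = J' := by
    intro A h1 h2 h3
    apply Subgroup.map_injective X.subtype_injective
    rw [hPJ h1 h2 h3, Subgroup.map_subgroupOf_eq_of_le hJX]
  have hmax : PLocal.IsMaxElemIn 3 (P : Subgroup X) J' := ⟨hJP, hJ'el, fun B hB hB' => by
    by_cases h : 27 ≤ Nat.card B
    · exact (hinj hB hB' h) ▸ le_rfl
    · omega⟩
  have hzj : PLocal.zj 3 (P : Subgroup X) = J' := by
    rw [PLocal.zj_eq_sInf]
    refine le_antisymm (sInf_le hmax) (le_sInf fun A hA => ?_)
    exact (hinj hA.le hA.elem (by rw [hA.card_eq hmax, hJ'card])).ge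
  have hN : Subgroup.normalizer (J' : Set X) ≤ S.H.subgroupOf X := by
    intro x hx
    refine S.mem_H_of_conj_J fun j hj => S.le_H ?_
    exact (Subgroup.mem_normalizer_iff.1 hx ⟨j, hJX hj⟩).1 hj
  have hHX : IsPGroup 3 (S.H.subgroupOf X) := by
    refine IsPGroup.of_card (n := 4) ?_
    have hcent : (M4set.filter fun x => x * jrep 2 = jrep 2 * x).card = 81 := jrep_centralizer 2
    rw [show (3 : ℕ) ^ 4 = 81 from rfl, ← hcent, ← Nat.card_eq_finsetCard]
    have mem : ∀ u : S.H.subgroupOf X, wim S.e ⟨((u : X) : G), u.2⟩ * jrep 2 =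
        jrep 2 * wim S.e ⟨((u : X) : G), u.2⟩ := fun u => by
      rw [← wim_el S.e (jrep_sign 2), ← wim_mul, ← wim_mul]
      exact congrArg (wim S.e)
        (Subtype.ext (Subgroup.mem_centralizer_singleton_iff.1 (u : X).2))
    refine Nat.card_congr
      { toFun := fun u => ⟨wim S.e ⟨((u : X) : G), u.2⟩,
          Finset.mem_filter.2 ⟨wim_mem' S.e _, mem u⟩⟩
        invFun := fun x => ⟨⟨(el S.e x.1 : G), Subgroup.mem_centralizer_singleton_iff.2 (by
            obtain ⟨hx, hc⟩ := Finset.mem_filter.1 x.2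
            exact congrArg Subtype.val (wim_inj S.e (a := el S.e x.1 * el S.e (jrep 2))
              (b := el S.e (jrep 2) * el S.e x.1) (by
                rw [wim_mul, wim_mul, wim_el S.e (mem_M4set_iff.1 hx),
                  wim_el S.e (jrep_sign 2), hc])))⟩, (el S.e x.1).2⟩
        left_inv := fun u => Subtype.ext (Subtype.ext
          (ge_eq S.e (mem_M4_iff.1 (wim_mem S.e _)) rfl).symm)
        right_inv := fun x => Subtype.ext (Eq.trans (congrArg (wim S.e) (Subtype.ext rfl))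
          (wim_el S.e (mem_M4set_iff.1 (Finset.mem_filter.1 x.2).1))) }
  have hcomp : Cfsg.HasNormalPComplement 3 (Subgroup.normalizer (PLocal.zj 3 (P : Subgroup X) : Set X)) := by
    rw [hzj]
    have hp : IsPGroup 3 (Subgroup.normalizer (J' : Set X)) := hHX.to_le hN
    obtain ⟨Q, hQ⟩ := (hp.to_subgroup ⊤).exists_le_sylow
    refine ⟨Q, ⊥, inferInstance, ?_⟩
    rw [top_le_iff.1 hQ]
    exact Subgroup.isComplement'_bot_top
  obtain ⟨Q, N, hN', hNc⟩ :=
    Frobenius.ZJComp.hasNormalPComplement_of_zj (p := 3) (by norm_num) (Or.inr rfl) P hcomp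
  have hco : (Nat.card N).Coprime 3 := by
    rw [← hNc.index_eq_card]
    exact ((Nat.prime_three.coprime_iff_not_dvd).2 Q.not_dvd_index).symm
  have hbot : N = ⊥ := by
    rw [eq_bot_iff, ← S.cores _ (S.le_H (S.jrep_memJ 2))
      (orderOf_eq_prime (by rw [pow_three, ← mul_assoc]; exact S.J_cube (S.jrep_memJ 2)) (S.jrep_ne_one 2))]
    exact CfsgLib.PCore.le_pPrimeCore hN' hco
  have htop : (Q : Subgroup X) = ⊤ := Subgroup.isComplement'_bot_left.1 (hbot ▸ hNc)
  have hXp : IsPGroup 3 X := fun x => by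
    obtain ⟨k, hk⟩ := Q.isPGroup' ⟨x, htop ▸ Subgroup.mem_top x⟩
    exact ⟨k, congrArg Subtype.val hk⟩
  exact S.le_H_of_isPGroup hXp hJX

end Setup

end CfsgLib.AltNine
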