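import Cfsg.Agent.Lib.Recognition.AltNine.Points
import Cfsg.Agent.Lib.Recognition.AltNine.Local

/-!
# The three alternating groups of degree six

`φ k` is the extension of the coordinates of `H` to the subgroup `A₆` of the centralizer of the cycle
of block `k`.
-/

set_option autoImplicit false
set_option maxRecDepth 10000
set_option linter.style.haveILetI false

namespace CfsgLib.AltNine

open Cfsg Equiv Subgroup CfsgLib.ThreeCubed CfsgLib.ThreeCubedWreath
open scoped commutatorElement Pointwise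

universe u

attribute [local irreducible] el4 M4set

namespace Setup

variable {G : Type u} [Group G] (S : Setup G)

theorem ge_mul {x y : W} (hx : x ∈ M4) (hy : y ∈ M4) :
    ge S.e (x * y) = ge S.e x * ge S.e y :=
  (ge_eq S.e (a := el S.e x * el S.e y) (mem_M4_iff.1 (mul_mem hx hy))
    (by rw [wim_mul, wim_el S.e (mem_M4_iff.1 hx), wim_el S.e (mem_M4_iff.1 hy)])).symm

theorem ge_one : ge S.e (1 : W) = 1 :=
  (ge_eq S.e (a := 1) (mem_M4_iff.1 (one_mem _)) (wim_one S.e)).symm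

theorem ge_inv {x : W} (hx : x ∈ M4) : ge S.e x⁻¹ = (ge S.e x)⁻¹ :=
  (ge_eq S.e (a := (el S.e x)⁻¹) (mem_M4_iff.1 (inv_mem hx))
    (by rw [wim_inv, wim_el S.e (mem_M4_iff.1 hx)])).symm

theorem ge_pow {x : W} (hx : x ∈ M4) (n : ℕ) : ge S.e (x ^ n) = ge S.e x ^ n := by
  induction n with
  | zero => simp [S.ge_one]
  | succ n ih => rw [pow_succ, pow_succ, S.ge_mul (pow_mem hx n) hx, ih]

theorem ge_mem (x : W) : ge S.e x ∈ S.H := (el S.e x).2

theorem ge_inj {x y : W} (hx : x ∈ M4) (hy : y ∈ M4) (h : ge S.e x = ge S.e y) : x = y := by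
  have h' : el S.e x = el S.e y := Subtype.ext h
  rw [← wim_el S.e (mem_M4_iff.1 hx), ← wim_el S.e (mem_M4_iff.1 hy), h']

theorem exists_ge {g : G} (hg : g ∈ S.H) : ∃ x ∈ M4, g = ge S.e x :=
  ⟨wim S.e ⟨g, hg⟩, wim_mem S.e _, ge_eq S.e (a := ⟨g, hg⟩) (mem_M4_iff.1 (wim_mem S.e _)) rfl⟩

theorem ge_conj {x y : W} (hx : x ∈ M4) (hy : y ∈ M4) :
    ge S.e (x * y * x⁻¹) = ge S.e x * ge S.e y * (ge S.e x)⁻¹ := by
  rw [S.ge_mul (mul_mem hx hy) (inv_mem hx), S.ge_mul hx hy, S.ge_inv hx]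

theorem ge_comm {x y : W} (hx : x ∈ M4) (hy : y ∈ M4) (h : x * y = y * x) :
    Commute (ge S.e x) (ge S.e y) := by
  show ge S.e x * ge S.e y = ge S.e y * ge S.e x
  rw [← S.ge_mul hx hy, ← S.ge_mul hy hx, h]

theorem a_eq : S.a = (ge S.e (av 0))⁻¹ := by
  rw [← S.ge_inv (av_mem 0), av_facts.2.2.1, inv_inv]

end Setup

/-- Coordinates on the derived subgroups of the centralizers of the three block cycles. -/
structure Coord {G : Type u} [Group G] (S : Setup G) where
  /-- The embeddings. -/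
  φ : Fin 3 → (alternatingGroup (Fin 6) →* G)
  inj : ∀ k, Function.Injective (φ k)
  comm : ∀ k π, Commute (ge S.e (av k)) (φ k π)
  decomp : ∀ k g, Commute g (ge S.e (av k)) → ∃ i : Fin 3, ∃ π, g = ge S.e (av k) ^ i.val * φ k π
  disjoint : ∀ k (i : Fin 3) π, ge S.e (av k) ^ i.val = φ k π → i = 0
  agree : ∀ k, ∀ x ∈ M4, ∀ π : alternatingGroup (Fin 6), psi x = e9 k π → φ k π = ge S.e x
  equiv : ∀ k l, ∀ x ∈ M4, ∀ τ : Perm (Fin 6), (∀ i, psi x (emb k i) = emb l (τ i)) →
    ∀ π, ge S.e x * φ k π * (ge S.e x)⁻¹ = φ l (MulAut.conjNormal τ π)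

/-- An element of order dividing four is conjugated onto a power. -/
theorem mem_of_pow_four {G : Type u} [Group G] {a h l : G} {L : Subgroup G} (i : Fin 3)
    (haL : a ∉ L) (ha : a ^ 3 = 1) (hc : Commute a l) (hl : l ∈ L) (he : h = a ^ i.val * l)
    (h4 : h ^ 4 = 1) : h ∈ L := by
  rw [he, (hc.pow_left _).mul_pow, ← pow_mul, show i.val * 4 = i.val + 3 * i.val by ring, pow_add,
    pow_mul, ha, one_pow, mul_one] at h4
  have h5 : a ^ i.val ∈ L := by
    rw [eq_inv_of_mul_eq_one_left h4]; exact inv_mem (pow_mem hl 4)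
  obtain h6 | h6 | h6 : i.val = 0 ∨ i.val = 1 ∨ i.val = 2 := by omega
  · rw [he, h6, pow_zero, one_mul]; exact hl
  · exact absurd (by simpa [h6] using h5) haL
  · refine absurd ?_ haL
    have h7 := inv_mem h5
    rwa [h6, show (a ^ 2)⁻¹ = a from inv_eq_of_mul_eq_one_right (by rw [← pow_succ, ha])] at h7

namespace Setup

variable {G : Type u} [Group G] [Finite G] (S : Setup G)

theorem exists_coord (L : Subgroup G) (hLC : L ≤ centralizer ({S.a} : Set G)) (haL : S.a ∉ L)
    (hsup : zpowers S.a ⊔ L = centralizer ({S.a} : Set G))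
    (hL : Nonempty (L ≃* alternatingGroup (Fin 6))) : Nonempty (Coord S) := by
  classical
  obtain ⟨-, -, hav, -, -, q4, qc, pc, qpq, qp'q, qqp⟩ := av_facts
  obtain ⟨hp, hp', hq, hbk, hblock⟩ := psi_facts
  set A := ge S.e (av 0) with hA
  have haA : S.a = A⁻¹ := S.a_eq
  have ha3 : S.a ^ 3 = 1 := by
    rw [pow_three, ← mul_assoc]; exact S.J_cube (S.jrep_memJ 0)
  have hCA : ∀ {g : G}, g ∈ centralizer ({S.a} : Set G) ↔ Commute g A := by
    intro g
    rw [mem_centralizer_singleton_iff, haA]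
    exact ⟨fun h => Commute.inv_right_iff.1 h, fun h => h.inv_right⟩
  have hdec : ∀ g ∈ centralizer ({S.a} : Set G), ∃ i : Fin 3, ∃ l ∈ L, g = S.a ^ i.val * l := by
    intro g hg
    rw [← hsup] at hg
    have hn : zpowers S.a ≤ normalizer (L : Set G) := by
      rw [zpowers_le]
      refine mem_normalizer_iff.2 fun x => ?_
      constructor
      · intro hx
        rwa [← mem_centralizer_singleton_iff.1 (hLC hx), mul_inv_cancel_right]
      · intro hx
        have hcx := (mem_centralizer_singleton_iff.1 (hLC hx))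
        have : S.a⁻¹ * (S.a * x * S.a⁻¹) * S.a = S.a * x * S.a⁻¹ := by
          rw [mul_assoc _ _ S.a, hcx]; group
        rwa [show x = S.a⁻¹ * (S.a * x * S.a⁻¹) * S.a by group, this]
    have hg' : g ∈ (zpowers S.a : Set G) * (L : Set G) := by
      rw [← coe_mul_of_left_le_normalizer_right _ _ hn]; exact hg
    obtain ⟨y, hy, l, hl, rfl⟩ := hg'
    obtain ⟨n, rfl⟩ := hy
    refine ⟨⟨(n % 3).toNat, by omega⟩, l, hl, ?_⟩
    show S.a ^ n * l = S.a ^ (n % 3).toNat * l
    rw [← zpow_natCast, show ((n % 3).toNat : ℤ) = n % 3 by omega,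
      ← zpow_mod_orderOf S.a n, orderOf_eq_prime ha3 (S.jrep_ne_one 0)]
    rfl
  have hfour : ∀ h ∈ centralizer ({S.a} : Set G), h ^ 4 = 1 → h ∈ L := by
    intro h hh h4
    obtain ⟨i, l, hl, e⟩ := hdec h hh
    exact mem_of_pow_four i haL ha3 (mem_centralizer_singleton_iff.1 (hLC hl)).symm hl e h4
  have hcommL : ∀ x ∈ centralizer ({S.a} : Set G), ∀ y ∈ centralizer ({S.a} : Set G),
      ⁅x, y⁆ ∈ L := by
    intro x hx y hy
    obtain ⟨i, l, hl, rfl⟩ := hdec x hx
    obtain ⟨j, m, hm, rfl⟩ := hdec y hy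
    have c : ∀ {n : G}, n ∈ L → ∀ r : ℕ, Commute (S.a ^ r) n := fun hn r =>
      (show Commute _ S.a from mem_centralizer_singleton_iff.1 (hLC hn)).symm.pow_left r
    have e : ⁅S.a ^ i.val * l, S.a ^ j.val * m⁆ = ⁅l, m⁆ := by
      simp only [commutatorElement_def, mul_inv_rev]
      have c1 : l * S.a ^ j.val = S.a ^ j.val * l := (c hl _).eq.symm
      calc S.a ^ i.val * l * (S.a ^ j.val * m) * (l⁻¹ * (S.a ^ i.val)⁻¹) *
            (m⁻¹ * (S.a ^ j.val)⁻¹)
          = S.a ^ i.val * (l * S.a ^ j.val) * m * l⁻¹ * ((S.a ^ i.val)⁻¹ * m⁻¹) *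
            (S.a ^ j.val)⁻¹ := by group
        _ = S.a ^ i.val * (S.a ^ j.val * l) * m * l⁻¹ * (m⁻¹ * (S.a ^ i.val)⁻¹) *
            (S.a ^ j.val)⁻¹ := by rw [c1, ((c hm i.val).inv_left.inv_right).eq]
        _ = S.a ^ i.val * S.a ^ j.val * (l * m * l⁻¹ * m⁻¹) *
            ((S.a ^ i.val)⁻¹ * (S.a ^ j.val)⁻¹) := by group
        _ = (l * m * l⁻¹ * m⁻¹) * (S.a ^ i.val * S.a ^ j.val *
            ((S.a ^ i.val)⁻¹ * (S.a ^ j.val)⁻¹)) := by
              rw [((c (mul_mem (mul_mem (mul_mem hl hm) (inv_mem hl)) (inv_mem hm)) i.val).mul_left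
                (c (mul_mem (mul_mem (mul_mem hl hm) (inv_mem hl)) (inv_mem hm)) j.val)).eq,
                mul_assoc]
        _ = _ := by rw [((Commute.refl S.a).pow_pow i.val j.val).eq]; group
    rw [e]
    exact mul_mem (mul_mem (mul_mem hl hm) (inv_mem hl)) (inv_mem hm)
  -- the elements of `H` in `L`
  have hC : ∀ {x : W}, x ∈ M4 → x * av 0 = av 0 * x →
      ge S.e x ∈ centralizer ({S.a} : Set G) := fun hx h => hCA.2 (S.ge_comm hx (av_mem 0) h)
  have hqL : ge S.e qW ∈ L :=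
    hfour _ (hC qW_mem qc) (by rw [← S.ge_pow qW_mem, q4, S.ge_one])
  have hqq : qW * qW * av 1 * (qW * qW)⁻¹ = (av 1)⁻¹ := by
    have := congrArg (·⁻¹) qqp
    simpa [mul_assoc] using this
  have hpL : ge S.e (av 1) ∈ L := by
    have hmem := hcommL _ (mul_mem (hC qW_mem qc) (hC qW_mem qc)) _
      (inv_mem (hC (av_mem 1) pc))
    rw [← S.ge_mul qW_mem qW_mem, ← S.ge_inv (av_mem 1), commutatorElement_def,
      ← S.ge_inv (mul_mem qW_mem qW_mem), ← S.ge_inv (inv_mem (av_mem 1)),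
      ← S.ge_mul (mul_mem qW_mem qW_mem) (inv_mem (av_mem 1)),
      ← S.ge_mul (mul_mem (mul_mem qW_mem qW_mem) (inv_mem (av_mem 1)))
        (inv_mem (mul_mem qW_mem qW_mem)), qqp, ← S.ge_mul (av_mem 1) (inv_mem (inv_mem (av_mem 1))),
      inv_inv, S.ge_mul (av_mem 1) (av_mem 1)] at hmem
    have h3 : ge S.e (av 1) * ge S.e (av 1) * ge S.e (av 1) = 1 := by
      rw [← S.ge_mul (av_mem 1) (av_mem 1), ← S.ge_mul (mul_mem (av_mem 1) (av_mem 1)) (av_mem 1),
        show av 1 * av 1 * av 1 = 1 by decide +kernel, S.ge_one]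
    rw [show ge S.e (av 1) = (ge S.e (av 1) * ge S.e (av 1))⁻¹ from
      (inv_eq_of_mul_eq_one_right h3).symm]
    exact inv_mem hmem
  obtain ⟨eL⟩ := hL
  let ν : alternatingGroup (Fin 6) →* G := L.subtype.comp eL.symm.toMonoidHom
  have hν : Function.Injective ν := L.subtype_injective.comp eL.symm.injective
  have hνs : ∀ l ∈ L, ∃ π, ν π = l := fun l hl => ⟨eL ⟨l, hl⟩, by simp [ν]⟩
  obtain ⟨xp, hxp⟩ := hνs _ hpL
  obtain ⟨xq, hxq⟩ := hνs _ hqL
  have back : ∀ {π : alternatingGroup (Fin 6)} {x : W}, x ∈ M4 → ν π = ge S.e x →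
      (x = 1 → π = 1) ∧ (π = 1 → x = 1) := fun hx e =>
    ⟨fun h => hν (by rw [e, h, S.ge_one, map_one]),
      fun h => S.ge_inj hx (one_mem _) (by rw [← e, h, map_one, S.ge_one])⟩
  have hconjW : ν (xq * xp * xq⁻¹) = ge S.e (av 2) := by
    rw [← qpq, S.ge_conj qW_mem (av_mem 1), map_mul, map_mul, map_inv, hxp, hxq]
  have d1 : xp ^ 3 = 1 := (back (pow_mem (av_mem 1) 3)
    (by rw [map_pow, hxp, S.ge_pow (av_mem 1)])).1 (by decide +kernel)
  have d2 : xp ≠ 1 := fun h => absurd ((back (av_mem 1) hxp).2 h) (by decide +kernel)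
  have d3 : xq ^ 4 = 1 := (back (pow_mem qW_mem 4)
    (by rw [map_pow, hxq, S.ge_pow qW_mem])).1 q4
  have d4 : xp * (xq * xp * xq⁻¹) = xq * xp * xq⁻¹ * xp := hν (by
    rw [map_mul, map_mul ν _ xp, hconjW, hxp]
    exact (S.ge_comm (av_mem 1) (av_mem 2) (by decide +kernel)).eq)
  have d5 : xq * xp * xq⁻¹ ≠ xp := fun h => absurd
    (S.ge_inj (av_mem 2) (av_mem 1) (by rw [← hconjW, h, hxp])) (by decide +kernel)
  have d6 : xq * xp * xq⁻¹ ≠ xp⁻¹ := fun h => absurd
    (S.ge_inj (av_mem 2) (inv_mem (av_mem 1))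
      (by rw [← hconjW, h, map_inv, hxp, S.ge_inv (av_mem 1)])) (by decide +kernel)
  have d7 : xq * (xq * xp * xq⁻¹) * xq⁻¹ = xp⁻¹ := hν (by
    rw [map_mul, map_mul, map_inv, hconjW, hxq, map_inv, hxp, ← S.ge_inv (av_mem 1), ← qp'q,
      S.ge_conj qW_mem (av_mem 2)])
  obtain ⟨f, hf, hfp, hfq⟩ := CfsgLib.AltNine.exists_coord d1 d2 d3 d4 d5 d6 d7
  have hfb : Function.Bijective f := ⟨hf, Finite.surjective_of_injective hf⟩
  let ρ : alternatingGroup (Fin 6) →* G := ν.comp (MulEquiv.ofBijective f hfb).symm.toMonoidHom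
  have hρ : Function.Injective ρ := hν.comp (MulEquiv.ofBijective f hfb).symm.injective
  have hρp : ρ aP0 = ge S.e (av 1) := by
    rw [← hxp, ← hfp]
    exact congrArg ν ((MulEquiv.ofBijective f hfb).symm_apply_apply xp)
  have hρq : ρ aQ = ge S.e qW := by
    rw [← hxq, ← hfq]
    exact congrArg ν ((MulEquiv.ofBijective f hfb).symm_apply_apply xq)
  have hρp' : ρ aP1 = ge S.e (av 2) := by
    rw [← aQ_conj, map_mul, map_mul, map_inv, hρp, hρq, ← S.ge_conj qW_mem (av_mem 1), qpq]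
  have hρL : ∀ π, ρ π ∈ L := fun π => (eL.symm _).2
  have hρs : ∀ l ∈ L, ∃ π, ρ π = l := by
    intro l hl
    obtain ⟨π, rfl⟩ := hνs l hl
    exact ⟨f π, congrArg ν ((MulEquiv.ofBijective f hfb).symm_apply_apply π)⟩
  have hagree : ∀ x ∈ M4, ∀ π : alternatingGroup (Fin 6), psi x = e9 0 π → ρ π = ge S.e x := by
    intro x hx π hπ
    have h := List.all_eq_true.1 fix_zero x (mem_el4.2 hx)
    have hfix : (psi x 0 == 0 && psi x 1 == 1 && psi x 2 == 2) = true := by
      rw [hπ, e9_block 0 _ (x := 0) rfl, e9_block 0 _ (x := 1) rfl, e9_block 0 _ (x := 2) rfl]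
      rfl
    rw [if_pos hfix] at h
    simp only [List.any_eq_true, beq_iff_eq, List.mem_finRange, true_and] at h
    obtain ⟨i, j, c, rfl⟩ := h
    have e : π = aP0 ^ i.val * aP1 ^ j.val * aQ ^ c.val := Subtype.ext (e9_injective 0 (by
      rw [← hπ]
      simp only [map_mul, map_pow, Subgroup.coe_mul, SubgroupClass.coe_pow, hp, hp', hq]
      rfl))
    rw [e, map_mul, map_mul, map_pow, map_pow, map_pow, hρp, hρp', hρq,
      ← S.ge_pow (av_mem 1), ← S.ge_pow (av_mem 2), ← S.ge_pow qW_mem,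
      ← S.ge_mul (pow_mem (av_mem 1) _) (pow_mem (av_mem 2) _),
      ← S.ge_mul (mul_mem (pow_mem (av_mem 1) _) (pow_mem (av_mem 2) _)) (pow_mem qW_mem _)]
  -- equivariance at the first block
  have hequiv : ∀ x ∈ M4, ∀ τ : Perm (Fin 6), (∀ i, psi x (emb 0 i) = emb 0 (τ i)) →
      ∀ π, ge S.e x * ρ π * (ge S.e x)⁻¹ = ρ (MulAut.conjNormal τ π) := by
    intro x hx τ hτ
    have hstab := List.all_eq_true.1 stab_zero x (mem_el4.2 hx)
    have hcond : ((List.finRange 6).all fun i => (psi x (emb 0 i)).val / 3 != 0) = true := by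
      simp only [List.all_eq_true, List.mem_finRange, forall_const, bne_iff_ne]
      intro i
      rw [hτ]
      exact ((embEquiv 0) (τ i)).2
    rw [if_pos hcond, Bool.or_eq_true, beq_iff_eq, beq_iff_eq] at hstab
    have hnC : ∀ g, Commute g A → Commute (ge S.e x * g * (ge S.e x)⁻¹) A := by
      intro g hg
      have h2 : ge S.e x * A * (ge S.e x)⁻¹ = A ∨ ge S.e x * A * (ge S.e x)⁻¹ = A⁻¹ := by
        rw [hA, ← S.ge_conj hx (av_mem 0), ← S.ge_inv (av_mem 0)]
        exact hstab.imp (congrArg _) (congrArg _)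
      have h3 := hg.map (MulAut.conj (ge S.e x)).toMonoidHom
      simp only [MulEquiv.coe_toMonoidHom, MulAut.conj_apply] at h3
      rcases h2 with e | e <;> rw [e] at h3
      · exact h3
      · exact Commute.inv_right_iff.1 h3
    let c1 : alternatingGroup (Fin 6) →* G := (MulAut.conj (ge S.e x)).toMonoidHom.comp ρ
    have hc1C : ∀ π, c1 π ∈ centralizer ({S.a} : Set G) := fun π =>
      hCA.2 (hnC _ (hCA.1 (hLC (hρL π))))
    have hc1L : ∀ π, c1 π ∈ L := by
      intro π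
      have hmem : π ∈ (L.comap c1) := by
        have htop : commutator (alternatingGroup (Fin 6)) ≤ L.comap c1 := by
          rw [commutator_def, commutator_le]
          intro a _ b _
          rw [mem_comap, map_commutatorElement]
          exact hcommL _ (hc1C a) _ (hc1C b)
        rw [commutator_alternatingGroup_eq_top (by simp)] at htop
        exact htop (mem_top π)
      exact hmem
    let c2 : alternatingGroup (Fin 6) →* L :=
      (c1.comp (MulAut.conjNormal τ⁻¹).toMonoidHom).codRestrict L fun π => hc1L _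
    let ρe : alternatingGroup (Fin 6) ≃* L := MulEquiv.ofBijective (ρ.codRestrict L hρL)
      ⟨fun a b h => hρ (congrArg Subtype.val h), fun l => by
        obtain ⟨π, hπ⟩ := hρs l l.2
        exact ⟨π, Subtype.ext hπ⟩⟩
    let θ : alternatingGroup (Fin 6) →* alternatingGroup (Fin 6) :=
      ρe.symm.toMonoidHom.comp c2
    have hρθ : ∀ π, ρ (θ π) = c1 (MulAut.conjNormal τ⁻¹ π) := fun π =>
      congrArg Subtype.val (ρe.apply_symm_apply (c2 π))
    have key : ∀ (y : W), y ∈ M4 → ∀ π : alternatingGroup (Fin 6), psi y = e9 0 π →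
        θ π = π := by
      intro y hy π hyπ
      apply hρ
      rw [hρθ]
      have h1 : psi (x⁻¹ * y * x) = e9 0 (MulAut.conjNormal τ⁻¹ π : alternatingGroup (Fin 6)) := by
        rw [MulAut.conjNormal_apply, map_mul psi, map_mul psi, map_inv psi, hyπ,
          show (τ⁻¹ * (π : Perm (Fin 6)) * τ⁻¹⁻¹) = τ⁻¹ * π * τ⁻¹⁻¹ from rfl,
          ← e9_conj (k := 0) (l := 0) (σ := (psi x)⁻¹) (τ := τ⁻¹) (fun i => ?_) π, inv_inv]
        rw [Perm.inv_eq_iff_eq, hτ]; simp
      show ge S.e x * ρ _ * (ge S.e x)⁻¹ = ρ π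
      rw [hagree _ (mul_mem (mul_mem (inv_mem hx) hy) hx) _ h1, hagree y hy π hyπ,
        ← S.ge_conj hx (mul_mem (mul_mem (inv_mem hx) hy) hx)]
      congr 1
      group
    have hθ : θ = MonoidHom.id _ := endo_eq_id θ (key _ (av_mem 1) aP0 hp) (key _ qW_mem aQ hq)
    intro π
    have h := hρθ (MulAut.conjNormal τ π)
    rw [hθ, MonoidHom.id_apply, ← MulAut.mul_apply, ← map_mul MulAut.conjNormal, inv_mul_cancel,
      map_one, MulAut.one_apply] at h
    exact h.symm
  -- all blocks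
  set T : Fin 3 → G := fun k => ge S.e (gB ^ k.val) with hT
  have hTav : ∀ k, T k * A * (T k)⁻¹ = ge S.e (av k) := by
    intro k
    rw [hA, hT, ← S.ge_conj (bk_mem k) (av_mem 0)]
    congr 1
  refine ⟨{ φ := fun k => (MulAut.conj (T k)).toMonoidHom.comp ρ
            inj := fun k => (MulAut.conj (T k)).injective.comp hρ
            comm := ?_, decomp := ?_, disjoint := ?_, agree := ?_, equiv := ?_ }⟩
  · intro k π
    have h := (hCA.1 (hLC (hρL π))).symm.map (MulAut.conj (T k)).toMonoidHom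
    simp only [MulEquiv.coe_toMonoidHom, MulAut.conj_apply, hTav] at h
    exact h
  · intro k g hg
    have h1 : Commute ((T k)⁻¹ * g * T k) A := by
      have h := hg.map (MulAut.conj (T k)⁻¹).toMonoidHom
      rw [← hTav] at h
      simpa [mul_assoc] using h
    obtain ⟨i, l, hl, e⟩ := hdec _ (hCA.2 h1)
    obtain ⟨π, rfl⟩ := hρs l hl
    rw [haA] at e
    obtain ⟨j, hj⟩ : ∃ j : Fin 3, (A⁻¹) ^ i.val = A ^ j.val := by
      have hA3 : A ^ 3 = 1 := inv_injective (by rw [← inv_pow, ← haA, ha3, inv_one])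
      obtain h6 | h6 | h6 : i.val = 0 ∨ i.val = 1 ∨ i.val = 2 := by omega
      · exact ⟨0, by simp [h6]⟩
      · exact ⟨2, by
          rw [h6, pow_one]
          exact inv_eq_of_mul_eq_one_right (by rw [← pow_succ']; exact hA3)⟩
      · exact ⟨1, by
          rw [h6, inv_pow]
          exact (inv_eq_of_mul_eq_one_right (by rw [← pow_succ]; exact hA3) : (A ^ 2)⁻¹ = A).trans
            (pow_one A).symm⟩
    refine ⟨j, π, ?_⟩
    calc g = T k * ((T k)⁻¹ * g * T k) * (T k)⁻¹ := by group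
      _ = MulAut.conj (T k) (A ^ j.val * ρ π) := by rw [e, hj]; rfl
      _ = _ := by
        rw [map_mul, map_pow, MulAut.conj_apply, hTav]
        rfl
  · intro k i π h
    have h1 : A ^ i.val = ρ π := by
      apply (MulAut.conj (T k)).injective
      rw [map_pow, MulAut.conj_apply, hTav]
      exact h
    by_contra hi
    have h2 : A ^ i.val ∈ L := h1 ▸ hρL π
    obtain h6 | h6 : i.val = 1 ∨ i.val = 2 := by
      have := Fin.val_ne_of_ne hi
      simp only [Fin.val_zero] at this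
      omega
    · refine haL ?_
      rw [h6, pow_one] at h2
      rw [haA]; exact inv_mem h2
    · refine haL ?_
      have hA3 : A ^ 3 = 1 := inv_injective (by rw [← inv_pow, ← haA, ha3, inv_one])
      rw [haA, ← show A ^ 2 = A⁻¹ from (inv_eq_of_mul_eq_one_right
        (by rw [← pow_succ']; exact hA3)).symm, ← h6]
      exact h2
  · intro k x hx π hπ
    have h1 : psi ((gB ^ k.val)⁻¹ * x * gB ^ k.val) = e9 0 π := by
      rw [map_mul psi, map_mul psi, map_inv psi, hπ]
      have := e9_conj (k := k) (l := 0) (σ := (psi (gB ^ k.val))⁻¹) (τ := 1)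
        (fun i => by rw [Perm.inv_eq_iff_eq, Perm.coe_one, id, hbk]) π
      simpa using this
    have h2 := hagree _ (mul_mem (mul_mem (inv_mem (bk_mem k)) hx) (bk_mem k)) π h1
    show T k * ρ π * (T k)⁻¹ = ge S.e x
    rw [h2, hT, ← S.ge_conj (bk_mem k) (mul_mem (mul_mem (inv_mem (bk_mem k)) hx) (bk_mem k))]
    congr 1
    group
  · intro k l x hx τ hτ π
    have hy : (gB ^ l.val)⁻¹ * x * gB ^ k.val ∈ M4 :=
      mul_mem (mul_mem (inv_mem (bk_mem l)) hx) (bk_mem k)
    have h1 : ∀ i, psi ((gB ^ l.val)⁻¹ * x * gB ^ k.val) (emb 0 i) = emb 0 (τ i) := by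
      intro i
      simp only [map_mul psi, map_inv psi, Perm.coe_mul, Function.comp_apply]
      rw [hbk, hτ, Perm.inv_eq_iff_eq, hbk]
    have h2 := hequiv _ hy τ h1 π
    rw [S.ge_mul (mul_mem (inv_mem (bk_mem l)) hx) (bk_mem k),
      S.ge_mul (inv_mem (bk_mem l)) hx, S.ge_inv (bk_mem l)] at h2
    show ge S.e x * (T k * ρ π * (T k)⁻¹) * (ge S.e x)⁻¹ =
      T l * ρ (MulAut.conjNormal τ π) * (T l)⁻¹
    rw [← h2, hT]
    group

end Setup

end CfsgLib.AltNine
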