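import Cfsg.Agent.Lib.Recognition.AltNine.Setup
import Mathlib.GroupTheory.SpecificGroups.Alternating

/-!
# An embedded alternating group of degree nine

The data produced by the construction half of the large case and consumed by the identification
half: points `0,…,8`, blocks `{0,1,2}`, `{3,4,5}`, `{6,7,8}`.
-/

set_option autoImplicit false

namespace CfsgLib.AltNine

open Cfsg CfsgLib.ThreeCubed CfsgLib.ThreeCubedWreath Equiv Subgroup

universe u

/-- `(2 3)(4 5)`. -/
def u9 : alternatingGroup (Fin 9) :=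
  ⟨swap 2 3 * swap 4 5, Perm.mem_alternatingGroup.2 (by decide +kernel)⟩
/-- `(2 4)(3 5)`. -/
def v9 : alternatingGroup (Fin 9) :=
  ⟨swap 2 4 * swap 3 5, Perm.mem_alternatingGroup.2 (by decide +kernel)⟩
/-- `(0 1)(2 3)`. -/
def v9' : alternatingGroup (Fin 9) :=
  ⟨swap 0 1 * swap 2 3, Perm.mem_alternatingGroup.2 (by decide +kernel)⟩
/-- `(0 1)(2 3)(4 5)(6 7)`. -/
def σ9 : alternatingGroup (Fin 9) :=
  ⟨swap 0 1 * swap 2 3 * swap 4 5 * swap 6 7, Perm.mem_alternatingGroup.2 (by decide +kernel)⟩
/-- `(6 7 8)`. -/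
def a9 : alternatingGroup (Fin 9) :=
  ⟨swap 6 7 * swap 7 8, Perm.mem_alternatingGroup.2 (by decide +kernel)⟩

/-- An embedded `A₉` containing `N(J)` and the centralizers of two four-groups. -/
structure Frame9 {G : Type u} [Group G] (S : Setup G) where
  /-- The embedding. -/
  f : alternatingGroup (Fin 9) →* G
  injective : Function.Injective f
  agree : ∀ x ∈ M4, ∀ π : alternatingGroup (Fin 9), (π : Perm (Fin 9)) = psi x → f π = ge S.e x
  H_le : S.H ≤ f.range
  centralizer_a_le : centralizer ({f a9} : Set G) ≤ f.range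
  centralizer_b_le : centralizer ({S.b} : Set G) ≤ S.H
  /-- The four-group `⟨(2 3)(4 5), (2 4)(3 5)⟩`: centralizer of order 240. -/
  centralizer_V_le : centralizer ({f u9, f v9} : Set G) ≤ f.range
  /-- The four-group `⟨(2 3)(4 5), (0 1)(2 3)⟩`: centralizer of order 24. -/
  centralizer_V'_le : centralizer ({f u9, f v9'} : Set G) ≤ f.range
  not_isConj : ¬ IsConj (f u9) (f σ9)

end CfsgLib.AltNine
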