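import Cfsg.Agent.Lib.Recognition.AltNine.FoursModel
import Cfsg.Agent.Lib.Recognition.AltNine.Frame9

/-!
# Finite facts for the embedding of `A₉`
-/

set_option autoImplicit false
set_option maxRecDepth 10000

namespace CfsgLib.AltNine

open Equiv Subgroup CfsgLib.ThreeCubed CfsgLib.ThreeCubedWreath

/-- The restriction of `e9` to the alternating groups. -/
def lift6 (k : Fin 3) : alternatingGroup (Fin 6) →* alternatingGroup (Fin 9) :=
  ((e9 k).comp (alternatingGroup (Fin 6)).subtype).codRestrict _ fun π =>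
    Perm.mem_alternatingGroup.2 ((sign_e9 k π).trans (Perm.mem_alternatingGroup.1 π.2))

theorem coe_lift6 (k : Fin 3) (π : alternatingGroup (Fin 6)) :
    (lift6 k π : Perm (Fin 9)) = e9 k π := rfl

/-- Six points renumbered: `i ↦ (3, 4, 0, 1, 2, 5)`. -/
def ren : Perm (Fin 6) := swap 0 3 * swap 1 4 * swap 2 3 * swap 3 4

theorem ren_facts : ren 0 = 3 ∧ ren 1 = 4 ∧ ren 2 = 0 ∧ ren 3 = 1 ∧ ren 4 = 2 ∧ ren 5 = 5 := by
  decide +kernel

theorem star7_lift2 : ∀ i : Fin 4, e9 2 (star3 4 i) = star3 7 i := by decide +kernel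

theorem star7_lift1 : (∀ i : Fin 3, e9 1 (ren * star3 4 i * ren⁻¹) = star3 7 (4 + i.val)) ∧
    e9 1 (ren * star3 4 3 * ren⁻¹) = star3 7 0 ∧
    ren * star3 4 3 * ren⁻¹ = p1 ∧ ren * star3 4 0 * ren⁻¹ = swap 3 4 * swap 4 0 := by
  decide +kernel

theorem conj_gens : p1 * star3 4 1 * p1⁻¹ = star3 4 2 ∧ p1 * star3 4 2 * p1⁻¹ = star3 4 3 ∧
    p0 * (ren * star3 4 0 * ren⁻¹) * p0⁻¹ = ren * star3 4 1 * ren⁻¹ ∧
    p0 * (ren * star3 4 1 * ren⁻¹) * p0⁻¹ = ren * star3 4 2 * ren⁻¹ ∧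
    (u6 * p1 ^ 2) * star3 4 0 * (u6 * p1 ^ 2)⁻¹ = star3 4 1 ∧ star3 4 0 = p0 := by decide +kernel

/-- `(0 1)(6 7)` in `A₉`. -/
def s9 : alternatingGroup (Fin 9) :=
  ⟨swap 0 1 * swap 6 7, Perm.mem_alternatingGroup.2 (by decide +kernel)⟩

/-- The elements `(0 3 1 4)(2 5)` for the other blocks. -/
def qk (k : Fin 3) : W := gB ^ k.val * qW * (gB ^ k.val)⁻¹

theorem gen_facts : psi sW = (s9 : Perm (Fin 9)) ∧ (∀ k, psi (qk k) = e9 k q0) ∧
    psi i1 = e9 2 p0 ∧ psi i4 = e9 2 (swap 0 1 * swap 3 4) ∧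
    gB = qk 1 * qk 2 ∧ gC = sW * qk 2 := by decide +kernel

theorem frame_elts : e9 2 u6 = (u9 : Perm (Fin 9)) ∧ e9 2 v6 = (v9 : Perm (Fin 9)) ∧
    e9 2 v6' = (v9' : Perm (Fin 9)) ∧ (a9 : Perm (Fin 9)) = psi (av 2) ∧
    (σ9 : Perm (Fin 9)) = u9 * s9 := by decide +kernel

/-- The points `0, 1, 6, 7, 8`. -/
def fiveEquiv : Fin 5 ≃ {x : Fin 9 // x.val < 2 ∨ 6 ≤ x.val} where
  toFun i := ⟨⟨if i.val < 2 then i.val else i.val + 4, by split_ifs <;> omega⟩, by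
    revert i; decide +kernel⟩
  invFun x := ⟨(if x.1.val < 2 then x.1.val else x.1.val - 4) % 5, Nat.mod_lt _ (by norm_num)⟩
  left_inv := by decide +kernel
  right_inv := by decide +kernel

/-- The alternating group on `0, 1, 6, 7, 8`. -/
def lift5 : alternatingGroup (Fin 5) →* alternatingGroup (Fin 9) :=
  ((Perm.extendDomainHom fiveEquiv).comp (alternatingGroup (Fin 5)).subtype).codRestrict _ fun π =>
    Perm.mem_alternatingGroup.2
      ((Perm.sign_extendDomain _ fiveEquiv).trans (Perm.mem_alternatingGroup.1 π.2))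

theorem lift5_comm : ∀ π : alternatingGroup (Fin 5),
    lift5 π * u9 = u9 * lift5 π ∧ lift5 π * v9 = v9 * lift5 π := by decide +kernel

theorem lift5_four : ∀ π : alternatingGroup (Fin 5), ∀ a b : Fin 2,
    lift5 π = u9 ^ a.val * v9 ^ b.val → π = 1 ∧ a = 0 ∧ b = 0 := by decide +kernel

theorem uv9_facts : u9 * v9 = v9 * u9 ∧ u9 * u9 = 1 ∧ v9 * v9 = 1 ∧ u9 * v9' = v9' * u9 := by
  decide +kernel

/-- The centralizer of the second four-group in `A₉`. -/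
def cent24 (t : Fin 2 × Fin 2 × Fin 3 × Fin 2) : alternatingGroup (Fin 9) :=
  u9 ^ t.1.val * v9' ^ t.2.1.val * a9 ^ t.2.2.1.val * s9 ^ t.2.2.2.val

theorem cent24_facts : (∀ t, cent24 t * u9 = u9 * cent24 t ∧ cent24 t * v9' = v9' * cent24 t) ∧
    ∀ t t', cent24 t = cent24 t' → t = t' := by decide +kernel

end CfsgLib.AltNine
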