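import Cfsg.Agent.Lib.Recognition.AltNine.FourClasses
import Cfsg.Agent.Lib.Recognition.AltNine.EmbModel

/-!
# The embedded alternating group of degree nine
-/

set_option autoImplicit false
set_option maxRecDepth 10000
set_option linter.style.haveILetI false

namespace CfsgLib.AltNine

open Cfsg Equiv Subgroup CfsgLib.ThreeCubed CfsgLib.ThreeCubedWreath

universe u

attribute [local irreducible] el4 M4set

/-- A subgroup with at most as many elements as were found in a range lies in that range. -/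
theorem le_range_of_injective {α G A : Type*} [Group G] [Group A] [Finite G] {f : A →* G}
    (hf : Function.Injective f) {X : Subgroup G} (h : α → A) (hinj : Function.Injective h)
    (hX : ∀ t, f (h t) ∈ X) (hcard : Nat.card X ≤ Nat.card α) : X ≤ f.range := by
  have hF : Function.Injective fun t => (⟨f (h t), hX t⟩ : X) := fun a b e =>
    hinj (hf (congrArg Subtype.val e))
  haveI : Finite α := Finite.of_injective _ hF
  have hb := (Nat.bijective_iff_injective_and_card _).2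
    ⟨hF, le_antisymm (Nat.card_le_card_of_injective _ hF) hcard⟩
  intro x hx
  obtain ⟨t, ht⟩ := hb.2 ⟨x, hx⟩
  exact ⟨h t, congrArg Subtype.val ht⟩

namespace Coord

variable {G : Type u} [Group G] [Finite G] {S : Setup G} (C : Coord S)

/-- The star generators. -/
noncomputable def X : ℕ → G
  | 0 => C.φ 2 (starA 4 0)
  | 1 => C.φ 2 (starA 4 1)
  | 2 => C.φ 2 (starA 4 2)
  | 3 => C.φ 2 (starA 4 3)
  | 4 => C.φ 1 (MulAut.conjNormal ren (starA 4 0))
  | 5 => C.φ 1 (MulAut.conjNormal ren (starA 4 1))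
  | 6 => C.φ 1 (MulAut.conjNormal ren (starA 4 2))
  | _ => 1

theorem X_low {i : ℕ} (hi : i < 4) : C.X i = C.φ 2 (starA 4 i) := by
  obtain rfl | rfl | rfl | rfl : i = 0 ∨ i = 1 ∨ i = 2 ∨ i = 3 := by omega
  all_goals rfl

theorem X_high {i : ℕ} (hi : i < 3) :
    C.X (4 + i) = C.φ 1 (MulAut.conjNormal ren (starA 4 i)) := by
  obtain rfl | rfl | rfl : i = 0 ∨ i = 1 ∨ i = 2 := by omega
  all_goals rfl

theorem X_zero : C.X 0 = C.φ 1 (MulAut.conjNormal ren (starA 4 3)) ∧ C.X 0 = C.A 0 := by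
  have h1 : C.X 0 = C.A 0 := by
    rw [C.X_low (by norm_num), show starA 4 0 = aP0 from
      Subtype.ext ((coe_starA (by norm_num)).trans conj_gens.2.2.2.2.2), C.phi2_p0]
  refine ⟨?_, h1⟩
  rw [h1, show MulAut.conjNormal ren (starA 4 3) = aP1 from Subtype.ext (by
    rw [MulAut.conjNormal_apply, coe_starA (by norm_num)]; exact star7_lift1.2.2.1)]
  exact (C.agree 1 _ (av_mem 0) aP1 (psi_facts.2.2.2.2 1).2).symm

theorem cross_zero {i : ℕ} (hi : i < 3) :
    (C.X 0 * C.X (4 + i)) ^ 2 = 1 ∧ (C.X (4 + i) * C.X 0) ^ 2 = 1 := by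
  have hr := starA_rels star_rels4
  rw [C.X_zero.1, C.X_high hi]
  simp only [← map_mul, ← map_pow]
  rw [hr.pair 3 i (by norm_num) (by omega) (by omega), hr.pair i 3 (by omega) (by norm_num) (by omega)]
  simp

theorem X_conj_A1 : C.A 1 * C.X 1 * (C.A 1)⁻¹ = C.X 2 ∧ C.A 1 * C.X 2 * (C.A 1)⁻¹ = C.X 3 := by
  rw [C.X_low (by norm_num), C.X_low (by norm_num), C.X_low (by norm_num), ← C.phi2_p1]
  simp only [← map_inv, ← map_mul]
  constructor <;> refine congrArg (C.φ 2) (Subtype.ext ?_) <;>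
    simp only [Subgroup.coe_mul, Subgroup.coe_inv, coe_starA (show 1 < 4 by norm_num),
      coe_starA (show 2 < 4 by norm_num), coe_starA (show 3 < 4 by norm_num)]
  · exact conj_gens.1
  · exact conj_gens.2.1

theorem X_conj_A2 : C.A 2 * C.X 4 * (C.A 2)⁻¹ = C.X 5 ∧ C.A 2 * C.X 5 * (C.A 2)⁻¹ = C.X 6 := by
  rw [show C.X 4 = _ from C.X_high (i := 0) (by norm_num),
    show C.X 5 = _ from C.X_high (i := 1) (by norm_num),
    show C.X 6 = _ from C.X_high (i := 2) (by norm_num), ← C.phi1_p0]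
  simp only [← map_inv, ← map_mul]
  constructor <;> refine congrArg (C.φ 1) (Subtype.ext ?_) <;>
    simp only [Subgroup.coe_mul, Subgroup.coe_inv, MulAut.conjNormal_apply,
      coe_starA (show 0 < 4 by norm_num), coe_starA (show 1 < 4 by norm_num),
      coe_starA (show 2 < 4 by norm_num)]
  · exact conj_gens.2.2.1
  · exact conj_gens.2.2.2.1

theorem rels (hB : centralizer ({S.b} : Set G) ≤ S.H) : StarRels C.X 7 := by
  have hr := starA_rels star_rels4
  obtain ⟨π, hπ, hmem⟩ := C.exists_fixed hB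
  obtain ⟨ρ, hρ, hρC⟩ := C.x6_of_fixed hB hπ hmem
  obtain ⟨hu, -⟩ := C.mem_CV.1 hρC
  have h4 : C.X 4 = C.φ 1 ρ := by
    rw [show C.X 4 = _ from C.X_high (i := 0) (by norm_num)]
    refine congrArg (C.φ 1) (Subtype.ext ?_)
    rw [MulAut.conjNormal_apply, coe_starA (by norm_num), hρ]
    exact star7_lift1.2.2.2
  have hA1 : Commute (C.X 4) (C.A 1) := by rw [h4]; exact (C.comm 1 ρ).symm
  have hu4 : Commute (C.X 4) C.u := by rw [h4]; exact hu
  set d := C.u * C.A 1 ^ 2
  have hd : d * C.X 0 * d⁻¹ = C.X 1 := by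
    rw [C.X_low (by norm_num), C.X_low (by norm_num)]
    show C.u * C.A 1 ^ 2 * C.φ 2 _ * (C.u * C.A 1 ^ 2)⁻¹ = _
    rw [← C.phi2_p1]
    simp only [← map_pow, ← map_mul, ← map_inv]
    refine congrArg (C.φ 2) (Subtype.ext ?_)
    simp only [Subgroup.coe_mul, Subgroup.coe_inv, SubgroupClass.coe_pow,
      coe_starA (show 0 < 4 by norm_num), coe_starA (show 1 < 4 by norm_num)]
    exact conj_gens.2.2.2.2.1
  have hd4 : d * C.X 4 * d⁻¹ = C.X 4 := by
    rw [(hu4.mul_right (hA1.pow_right 2)).symm.eq, mul_inv_cancel_right]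
  have base : (C.X 1 * C.X 4) ^ 2 = 1 := by
    rw [show C.X 1 * C.X 4 = d * (C.X 0 * C.X 4) * d⁻¹ by
      conv_lhs => rw [← hd, ← hd4]
      group, conj_pow, show C.X 4 = C.X (4 + 0) from rfl, (C.cross_zero (by norm_num)).1, mul_one,
      mul_inv_cancel]
  have low2 : ∀ i, i < 4 → Commute (C.A 2) (C.X i) := fun i hi => by
    rw [C.X_low hi]; exact C.comm 2 _
  have high1 : ∀ i, i < 3 → Commute (C.A 1) (C.X (4 + i)) := fun i hi => by
    rw [C.X_high hi]; exact C.comm 1 _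
  have step1 : ∀ x x' y : G, C.A 1 * x * (C.A 1)⁻¹ = x' → Commute (C.A 1) y → (x * y) ^ 2 = 1 →
      (x' * y) ^ 2 = 1 := by
    intro x x' y e hc h
    rw [← e, show C.A 1 * x * (C.A 1)⁻¹ * y = C.A 1 * (x * y) * (C.A 1)⁻¹ by
      rw [show C.A 1 * (x * y) * (C.A 1)⁻¹ = C.A 1 * x * (y * (C.A 1)⁻¹) by group,
        hc.inv_left.symm.eq, ← mul_assoc],
      conj_pow, h, mul_one, mul_inv_cancel]
  have step2 : ∀ x y y' : G, C.A 2 * y * (C.A 2)⁻¹ = y' → Commute (C.A 2) x → (x * y) ^ 2 = 1 →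
      (x * y') ^ 2 = 1 := by
    intro x y y' e hc h
    rw [← e, show x * (C.A 2 * y * (C.A 2)⁻¹) = C.A 2 * (x * y) * (C.A 2)⁻¹ by
      rw [show C.A 2 * (x * y) * (C.A 2)⁻¹ = C.A 2 * x * (y * (C.A 2)⁻¹) by group, hc.eq]; group,
      conj_pow, h, mul_one, mul_inv_cancel]
  have flip : ∀ x y : G, (x * y) ^ 2 = 1 → (y * x) ^ 2 = 1 := fun x y h => by
    rw [show y * x = x⁻¹ * (x * y) * x⁻¹⁻¹ by group, conj_pow, h, mul_one, mul_inv_cancel]
  have cross : ∀ i j, 1 ≤ i → i < 4 → j < 3 → (C.X i * C.X (4 + j)) ^ 2 = 1 := by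
    intro i j hi1 hi hj
    have h0 : ∀ i, 1 ≤ i → i < 4 → (C.X i * C.X 4) ^ 2 = 1 := by
      intro i hi1 hi
      have h2 := step1 _ _ _ C.X_conj_A1.1 (high1 0 (by norm_num)) base
      have h3 := step1 _ _ _ C.X_conj_A1.2 (high1 0 (by norm_num)) h2
      obtain rfl | rfl | rfl : i = 1 ∨ i = 2 ∨ i = 3 := by omega
      exacts [base, h2, h3]
    have h5 := step2 _ _ _ C.X_conj_A2.1 (low2 i hi) (h0 i hi1 hi)
    have h6 := step2 _ _ _ C.X_conj_A2.2 (low2 i hi) h5
    obtain rfl | rfl | rfl : j = 0 ∨ j = 1 ∨ j = 2 := by omega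
    exacts [h0 i hi1 hi, h5, h6]
  refine ⟨fun i hi => ?_, fun i j hi hj hne => ?_⟩
  · rcases Nat.lt_or_ge i 4 with h | h
    · rw [C.X_low h, ← map_pow, hr.cube i h, map_one]
    · obtain ⟨l, rfl⟩ := Nat.exists_eq_add_of_le h
      rw [C.X_high (by omega), ← map_pow, ← map_pow, hr.cube l (by omega), map_one, map_one]
  · rcases Nat.lt_or_ge i 4 with h | h <;> rcases Nat.lt_or_ge j 4 with h' | h'
    · rw [C.X_low h, C.X_low h', ← map_mul, ← map_pow, hr.pair i j h h' hne, map_one]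
    · obtain ⟨l, rfl⟩ := Nat.exists_eq_add_of_le h'
      rcases Nat.eq_zero_or_pos i with rfl | hp
      · exact (C.cross_zero (by omega)).1
      · exact cross i l hp h (by omega)
    · obtain ⟨l, rfl⟩ := Nat.exists_eq_add_of_le h
      rcases Nat.eq_zero_or_pos j with rfl | hp
      · exact (C.cross_zero (by omega)).2
      · exact flip _ _ (cross j l hp h' (by omega))
    · obtain ⟨l, rfl⟩ := Nat.exists_eq_add_of_le h
      obtain ⟨m, rfl⟩ := Nat.exists_eq_add_of_le h'
      rw [C.X_high (by omega), C.X_high (by omega), ← map_mul, ← map_mul, ← map_pow, ← map_pow,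
        hr.pair l m (by omega) (by omega) (by omega), map_one, map_one]

include C in
theorem exists_frame (hB : centralizer ({S.b} : Set G) ≤ S.H) : Nonempty (Frame9 S) := by
  obtain ⟨f, hf⟩ := exists_hom9 C.X (C.rels hB)
  obtain ⟨l7, l0, -, -⟩ := star7_lift1
  -- agreement with the two `A₆`
  have h2 : ∀ π, f (lift6 2 π) = C.φ 2 π := by
    intro π
    refine DFunLike.congr_fun (MonoidHom.eq_of_eqOn_dense star_top4
      (f := f.comp (lift6 2)) (g := C.φ 2) ?_) π
    rintro _ ⟨i, hi, rfl⟩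
    show f (lift6 2 (starA 4 i)) = C.φ 2 (starA 4 i)
    have hi : i < 4 := hi
    rw [show lift6 2 (starA 4 i) = starA 7 i from Subtype.ext (by
      rw [coe_lift6, coe_starA hi, coe_starA (show i < 7 by omega)]; exact star7_lift2 ⟨i, hi⟩),
      hf i (by omega), C.X_low hi]
  have h1 : ∀ π, f (lift6 1 π) = C.φ 1 π := by
    intro π
    obtain ⟨ρ, rfl⟩ := (MulAut.conjNormal ren : MulAut (alternatingGroup (Fin 6))).surjective π
    refine DFunLike.congr_fun (MonoidHom.eq_of_eqOn_dense star_top4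
      (f := (f.comp (lift6 1)).comp (MulAut.conjNormal ren).toMonoidHom)
      (g := (C.φ 1).comp (MulAut.conjNormal ren).toMonoidHom) ?_) ρ
    rintro _ ⟨i, hi, rfl⟩
    show f (lift6 1 (MulAut.conjNormal ren (starA 4 i))) = C.φ 1 (MulAut.conjNormal ren (starA 4 i))
    have hi : i < 4 := hi
    rcases Nat.lt_or_ge i 3 with h | h
    · rw [show lift6 1 (MulAut.conjNormal ren (starA 4 i)) = starA 7 (4 + i) from Subtype.ext (by
        rw [coe_lift6, MulAut.conjNormal_apply, coe_starA hi, coe_starA (show 4 + i < 7 by omega)]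
        exact l7 ⟨i, h⟩), hf (4 + i) (by omega), C.X_high h]
    · obtain rfl : i = 3 := by omega
      rw [show lift6 1 (MulAut.conjNormal ren (starA 4 3)) = starA 7 0 from Subtype.ext (by
        rw [coe_lift6, MulAut.conjNormal_apply, coe_starA hi, coe_starA (show 0 < 7 by omega)]
        exact l0), hf 0 (by omega), C.X_zero.1]
  have hinj : Function.Injective f := by
    have : IsSimpleGroup (alternatingGroup (Fin 9)) := alternatingGroup.isSimpleGroup (by simp)
    rcases f.normal_ker.eq_bot_or_eq_top with h | h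
    · exact (MonoidHom.ker_eq_bot_iff f).1 h
    · exfalso
      refine C.A_ne_one 0 ?_
      rw [← C.X_zero.2, ← hf 0 (by norm_num)]
      exact MonoidHom.mem_ker.1 (h ▸ mem_top _)
  -- agreement on `M4`
  let T : Subgroup W :=
    { carrier := {x | x ∈ M4 ∧ ∃ π : alternatingGroup (Fin 9),
        (π : Perm (Fin 9)) = psi x ∧ f π = ge S.e x}
      one_mem' := ⟨one_mem _, 1, by simp, by rw [map_one, S.ge_one]⟩
      mul_mem' := by
        rintro x y ⟨hx, π, hπ, hf1⟩ ⟨hy, ρ, hρ, hf2⟩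
        exact ⟨mul_mem hx hy, π * ρ, by rw [Subgroup.coe_mul, hπ, hρ, map_mul],
          by rw [map_mul, hf1, hf2, S.ge_mul hx hy]⟩
      inv_mem' := by
        rintro x ⟨hx, π, hπ, hf1⟩
        exact ⟨inv_mem hx, π⁻¹, by rw [Subgroup.coe_inv, hπ, map_inv],
          by rw [map_inv, hf1, S.ge_inv hx]⟩ }
  have hk : ∀ k : Fin 3, k = 1 ∨ k = 2 → ∀ x ∈ M4, ∀ π : alternatingGroup (Fin 6),
      psi x = e9 k π → x ∈ T := by
    intro k hk x hx π hπ
    refine ⟨hx, lift6 k π, (coe_lift6 k π).trans hπ.symm, ?_⟩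
    rcases hk with rfl | rfl
    · rw [h1, C.agree 1 x hx π hπ]
    · rw [h2, C.agree 2 x hx π hπ]
  obtain ⟨gs, gq, gi1, gi4, geB, geC⟩ := gen_facts
  have hqk : ∀ k, qk k ∈ M4 := fun k => mul_mem (mul_mem (bk_mem k) qW_mem) (inv_mem (bk_mem k))
  have hq1 : qk 1 ∈ T := hk 1 (Or.inl rfl) _ (hqk 1) aQ (gq 1)
  have hq2 : qk 2 ∈ T := hk 2 (Or.inr rfl) _ (hqk 2) aQ (gq 2)
  have hs : sW ∈ T := hk 1 (Or.inl rfl) _ sW_mem
    ⟨swap 0 1 * swap 3 4, Perm.mem_alternatingGroup.2 (by decide +kernel)⟩ W_facts.2.2.2.2.2.2.2.2.2.2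
  have hM : M4 ≤ T := by
    rw [← closure_eq4, closure_le]
    intro x hx
    simp only [Set.mem_insert_iff, Set.mem_singleton_iff] at hx
    rcases hx with rfl | rfl | rfl | rfl
    · exact hk 2 (Or.inr rfl) _ (mem_M4_iff.2 (base_mem i1 (by simp))) aP0 gi1
    · rw [geB]; exact mul_mem hq1 hq2
    · exact hk 2 (Or.inr rfl) _ (mem_M4_iff.2 (base_mem i4 (by simp)))
        ⟨swap 0 1 * swap 3 4, Perm.mem_alternatingGroup.2 (by decide +kernel)⟩ gi4
    · rw [geC]; exact mul_mem hs hq2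
  have agree : ∀ x ∈ M4, ∀ π : alternatingGroup (Fin 9), (π : Perm (Fin 9)) = psi x →
      f π = ge S.e x := by
    intro x hx π hπ
    obtain ⟨-, ρ, hρ, hf'⟩ := hM hx
    rwa [show π = ρ from Subtype.ext (hπ.trans hρ.symm)]
  obtain ⟨fu, fv, fv', fa, fσ⟩ := frame_elts
  have eu : f u9 = C.u := (congrArg f (Subtype.ext fu.symm : u9 = lift6 2 aU)).trans (h2 aU)
  have ev : f v9 = C.v := (congrArg f (Subtype.ext fv.symm : v9 = lift6 2 aV)).trans (h2 aV)
  have ev' : f v9' = C.v' := (congrArg f (Subtype.ext fv'.symm : v9' = lift6 2 aV')).trans (h2 aV')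
  have ea : f a9 = C.A 2 := agree _ (av_mem 2) a9 fa
  have es : f s9 = C.s := agree _ sW_mem s9 gs.symm
  refine ⟨{ f := f, injective := hinj, agree := agree, H_le := ?_, centralizer_a_le := ?_,
            centralizer_b_le := hB, centralizer_V_le := ?_, centralizer_V'_le := ?_,
            not_isConj := ?_ }⟩
  · intro x hx
    obtain ⟨w, hw, rfl⟩ := S.exists_ge hx
    obtain ⟨-, π, -, h⟩ := hM hw
    exact ⟨π, h⟩
  · intro y hy
    rw [ea, mem_centralizer_singleton_iff] at hy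
    obtain ⟨i, π, rfl⟩ := C.decomp 2 y hy
    exact ⟨a9 ^ i.val * lift6 2 π, by rw [map_mul, map_pow, ea, h2]⟩
  · rw [eu, ev]
    have hmem : ∀ t : (Fin 2 × Fin 2) × alternatingGroup (Fin 5),
        f (u9 ^ t.1.1.val * v9 ^ t.1.2.val * lift5 t.2) ∈ C.CV := by
      rintro ⟨⟨a, b⟩, π⟩
      rw [C.mem_CV, ← eu, ← ev]
      have huv : Commute u9 v9 := uv9_facts.1
      exact ⟨((((Commute.refl u9).pow_left _).mul_left (huv.symm.pow_left _)).mul_left
          (lift5_comm π).1).map f,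
        (((huv.pow_left _).mul_left ((Commute.refl v9).pow_left _)).mul_left
          (lift5_comm π).2).map f⟩
    refine le_range_of_injective hinj (X := C.CV)
      (fun t : (Fin 2 × Fin 2) × alternatingGroup (Fin 5) =>
        u9 ^ t.1.1.val * v9 ^ t.1.2.val * lift5 t.2) ?_ hmem ?_
    · rintro ⟨⟨a, b⟩, π⟩ ⟨⟨a', b'⟩, π'⟩ e
      simp only at e
      obtain ⟨huv, u2, v2, -⟩ := uv9_facts
      have hfour : ∀ a a' b b' : Fin 2, (u9 ^ a'.val * v9 ^ b'.val)⁻¹ * (u9 ^ a.val * v9 ^ b.val) =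
          u9 ^ (a - a').val * v9 ^ (b - b').val := by decide +kernel
      have e2 : lift5 (π' * π⁻¹) = u9 ^ (a - a').val * v9 ^ (b - b').val := by
        rw [← hfour, map_mul, map_inv, eq_inv_mul_iff_mul_eq, ← mul_assoc, ← e, mul_inv_cancel_right]
      obtain ⟨hπ, ha, hb⟩ := lift5_four _ _ _ e2
      rw [sub_eq_zero.1 ha, sub_eq_zero.1 hb, (mul_inv_eq_one.1 hπ)]
    · refine (C.card_CV_le hB).trans_eq ?_
      rw [Nat.card_prod, Nat.card_prod, Nat.card_fin, CfsgLib.Suborbit3.card_a5]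
  · rw [eu, ev']
    refine le_range_of_injective hinj cent24 cent24_facts.2 (fun t => ?_) ?_
    · refine mem_centralizer_iff.2 fun z hz => ?_
      rcases hz with rfl | rfl
      · rw [← eu]; exact ((show Commute (cent24 t) u9 from (cent24_facts.1 t).1).map f).symm.eq
      · rw [← ev']; exact ((show Commute (cent24 t) v9' from (cent24_facts.1 t).2).map f).symm.eq
    · refine (C.centralizer_V' hB).1.trans_eq ?_
      simp [Nat.card_prod]
  · rw [eu, show σ9 = u9 * s9 from Subtype.ext fσ, map_mul, eu, es]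
    exact C.not_isConj_sigma hB

end Coord

theorem Setup.exists_frame9 {G : Type u} [Group G] [Finite G] (S : Setup G)
    (hB : centralizer ({S.b} : Set G) ≤ S.H) (L : Subgroup G)
    (hLC : L ≤ centralizer ({S.a} : Set G)) (haL : S.a ∉ L)
    (hsup : zpowers S.a ⊔ L = centralizer ({S.a} : Set G))
    (hL : Nonempty (L ≃* alternatingGroup (Fin 6))) : Nonempty (Frame9 S) :=
  let ⟨C⟩ := S.exists_coord L hLC haL hsup hL
  C.exists_frame hB

end CfsgLib.AltNine
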