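import Cfsg.Agent.Lib.Recognition.AltNine.Frame9
import Mathlib.GroupTheory.Perm.Support

/-!
# Finite facts on the alternating group of degree nine for the identification half
-/

set_option autoImplicit false
set_option maxRecDepth 10000
set_option synthInstance.maxSize 2000
set_option synthInstance.maxHeartbeats 400000

namespace CfsgLib.AltNine.End

open Equiv CfsgLib.ThreeCubed CfsgLib.ThreeCubedWreath

/-- An even permutation as an element of the alternating group. -/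
def mk (p : Perm (Fin 9)) (h : Perm.sign p = 1) : alternatingGroup (Fin 9) :=
  ⟨p, Perm.mem_alternatingGroup.2 h⟩

/-- `(0 2 4)(1 3 5)`. -/
def g9 : alternatingGroup (Fin 9) :=
  mk (swap 0 2 * swap 2 4 * (swap 1 3 * swap 3 5)) (by decide +kernel)
/-- `(2 4)(3 5)` inverts `g9`. -/
def j9 : alternatingGroup (Fin 9) := v9
/-- `(3 4 5)`. -/
def c9 : alternatingGroup (Fin 9) := mk (swap 3 4 * swap 4 5) (by decide +kernel)
/-- `(4 5)(6 7)`. -/
def k9 : alternatingGroup (Fin 9) := mk (swap 4 5 * swap 6 7) (by decide +kernel)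
/-- `(2 3)(6 7)`. -/
def w9 : alternatingGroup (Fin 9) := mk (swap 2 3 * swap 6 7) (by decide +kernel)
/-- `(2 3)(7 8)`. -/
def w9' : alternatingGroup (Fin 9) := mk (swap 2 3 * swap 7 8) (by decide +kernel)
/-- `(0 1 6 7 8)`. -/
def f9 : alternatingGroup (Fin 9) :=
  mk (swap 0 1 * swap 1 6 * (swap 6 7 * swap 7 8)) (by decide +kernel)
/-- `(1 4 5 3)(6 7)`. -/
def b9 : alternatingGroup (Fin 9) :=
  mk (swap 1 4 * swap 4 5 * swap 5 3 * swap 6 7) (by decide +kernel)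
/-- Two blocks rotated: the image of the model element. -/
def p9 : alternatingGroup (Fin 9) :=
  mk (swap 0 2 * swap 2 1 * (swap 3 5 * swap 5 4)) (by decide +kernel)

theorem basic :
    u9 * u9 = 1 ∧ u9 ≠ 1 ∧ v9 * v9 = 1 ∧ v9 ≠ 1 ∧ σ9 * σ9 = 1 ∧ σ9 ≠ 1 ∧
    u9 * v9 = v9 * u9 ∧ u9 * v9' = v9' * u9 ∧ v9 ≠ u9 ∧
    c9 * u9 * c9⁻¹ = v9 ∧ c9 * c9 * u9 * (c9 * c9)⁻¹ = u9 * v9 ∧
    k9 * u9 * k9⁻¹ = u9 ∧ k9 * v9 * k9⁻¹ = u9 * v9 := by
  refine ⟨?_, ?_, ?_, ?_, ?_, ?_, ?_, ?_, ?_, ?_, ?_, ?_, ?_⟩ <;> decide +kernel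

theorem sigma_facts :
    g9 ^ 3 = 1 ∧ g9 ≠ 1 ∧ j9 * j9 = 1 ∧ j9 * g9 * j9 = g9 ^ 2 ∧
    g9 * v9' * g9⁻¹ = u9 ∧ v9' * u9 = u9 * v9' ∧ g9 * u9 * g9⁻¹ = v9' * u9 ∧
    j9 * v9' * j9⁻¹ = v9' * u9 ∧ v9' * v9' = 1 ∧
    g9 * σ9 = σ9 * g9 ∧ j9 * σ9 = σ9 * j9 ∧ v9' * σ9 = σ9 * v9' ∧ u9 * σ9 = σ9 * u9 ∧
    b9 * p9 * b9⁻¹ = g9 ∧ (p9 : Perm (Fin 9)) = psi (jrep 1) ∧ g9 ≠ σ9 := by
  refine ⟨?_, ?_, ?_, ?_, ?_, ?_, ?_, ?_, ?_, ?_, ?_, ?_, ?_, ?_, ?_, ?_⟩ <;> decide +kernel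

theorem core_facts :
    (∀ i : Fin 3, a9 ^ i.val ≠ 1 → a9 ^ i.val = a9 ∨ a9 ^ i.val = a9⁻¹) ∧
    a9 * u9 = u9 * a9 ∧ a9 * v9 = v9 * a9 ∧ a9 ≠ 1 ∧ w9 * w9' = a9 ∧
    w9 * w9 = 1 ∧ w9' * w9' = 1 ∧ w9 * u9 = u9 * w9 ∧ w9' * u9 = u9 * w9' ∧
    f9 ^ 5 = 1 ∧ f9 ≠ 1 ∧ f9 * u9 = u9 * f9 ∧ f9 * v9 = v9 * f9 := by
  refine ⟨?_, ?_, ?_, ?_, ?_, ?_, ?_, ?_, ?_, ?_, ?_, ?_, ?_⟩ <;> decide +kernel

/-! ### Classes of involutions -/

theorem cycleType_invol {x : Perm (Fin 9)} (h2 : x * x = 1) (h1 : x ≠ 1) :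
    ∃ k, x.cycleType = Multiset.replicate k 2 ∧ x.support.card = k * 2 := by
  have ho : orderOf x = 2 := orderOf_eq_prime (by rw [pow_two, h2]) h1
  obtain ⟨n, hn⟩ := Perm.cycleType_prime_order (σ := x) (by rw [ho]; exact Nat.prime_two)
  rw [ho] at hn
  refine ⟨n + 1, hn, ?_⟩
  rw [← Perm.sum_cycleType, hn, Multiset.sum_replicate, smul_eq_mul]

/-- An involution of `A₉` is conjugate to `u9` or to `σ9`. -/
theorem invol_cases (x : alternatingGroup (Fin 9)) (h2 : x * x = 1) (h1 : x ≠ 1) :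
    ∃ k : alternatingGroup (Fin 9), k * u9 * k⁻¹ = x ∨ k * σ9 * k⁻¹ = x := by
  obtain ⟨p, hp⟩ := x
  have hp2 : p * p = 1 := congrArg Subtype.val h2
  have hp1 : p ≠ 1 := fun e => h1 (Subtype.ext e)
  have hs : Perm.sign p = 1 := Perm.mem_alternatingGroup.1 hp
  obtain ⟨k, hk, hm⟩ := cycleType_invol hp2 hp1
  have hle : p.support.card ≤ 9 := (Finset.card_le_univ _).trans (by simp)
  have hs' := hs
  rw [Perm.sign_of_cycleType, hk, Multiset.sum_replicate, Multiset.card_replicate, smul_eq_mul]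
    at hs'
  have hk0 : k ≠ 0 := by
    rintro rfl
    exact hp1 (Perm.support_eq_empty_iff.1 (Finset.card_eq_zero.1 (by simpa using hm)))
  have key : ∀ q : alternatingGroup (Fin 9), (q : Perm (Fin 9)).cycleType = p.cycleType →
      ∃ c : alternatingGroup (Fin 9), c * q * c⁻¹ = ⟨p, hp⟩ := by
    intro q hq
    obtain ⟨c, hc⟩ := isConj_iff.1 ((Perm.isConj_iff_cycleType_eq).2 hq)
    rcases Int.units_eq_one_or (Perm.sign c) with h | h
    · exact ⟨⟨c, Perm.mem_alternatingGroup.2 h⟩, Subtype.ext hc⟩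
    · obtain ⟨i, hi⟩ : ∃ i, p i ≠ i := by
        by_contra hcon
        push Not at hcon
        exact hp1 (Equiv.ext hcon)
      have hxx : p (p i) = i := by rw [← Perm.mul_apply, hp2, Perm.one_apply]
      have hcomm : swap i (p i) * p * (swap i (p i))⁻¹ = p := by
        rw [mul_inv_eq_iff_eq_mul]
        have h' := Equiv.mul_swap_eq_swap_mul p i (p i)
        rw [hxx, Equiv.swap_comm (p i) i] at h'
        exact h'.symm
      refine ⟨⟨swap i (p i) * c, Perm.mem_alternatingGroup.2 (by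
        rw [map_mul, h, Perm.sign_swap (Ne.symm hi)]; rfl)⟩, Subtype.ext ?_⟩
      show swap i (p i) * c * (q : Perm (Fin 9)) * (swap i (p i) * c)⁻¹ = p
      calc swap i (p i) * c * (q : Perm (Fin 9)) * (swap i (p i) * c)⁻¹
          = swap i (p i) * (c * q * c⁻¹) * (swap i (p i))⁻¹ := by group
        _ = p := by rw [hc, hcomm]
  have hk4 : k ≤ 4 := by omega
  interval_cases k
  · exact absurd rfl hk0
  · exact absurd hs' (by decide)
  · obtain ⟨c, hc⟩ := key u9 (by rw [hk]; decide +kernel)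
    exact ⟨c, Or.inl hc⟩
  · exact absurd hs' (by decide)
  · obtain ⟨c, hc⟩ := key σ9 (by rw [hk]; decide +kernel)
    exact ⟨c, Or.inr hc⟩

/-- `u9`, `σ9` move four, eight points. -/
theorem not_conj_u_sigma (k : alternatingGroup (Fin 9)) : k * u9 * k⁻¹ ≠ σ9 := by
  intro h
  have h' : (k : Perm (Fin 9)) * (u9 : Perm (Fin 9)) * (k : Perm (Fin 9))⁻¹ = σ9 :=
    congrArg Subtype.val h
  have h1 := Perm.card_support_conj (σ := (k : Perm (Fin 9))) (τ := (u9 : Perm (Fin 9)))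
  rw [h'] at h1
  revert h1
  decide +kernel

/-! ### The centralizer of `u9` -/

/-- The five points fixed by `u9`, moved onto `0,1`, and the two pairs. -/
def conjList : List (Perm (Fin 9)) :=
  ([1, swap 0 6 * swap 1 7, swap 0 6 * swap 1 8, swap 0 7 * swap 1 8, swap 1 6 * swap 7 8,
    swap 1 7 * swap 6 8, swap 1 8 * swap 6 7, swap 0 6 * swap 7 8, swap 0 7 * swap 6 8,
    swap 0 8 * swap 6 7] : List (Perm (Fin 9))).flatMap fun k => [k, swap 2 4 * swap 3 5 * k]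

theorem conjList_all : (conjList.all fun k => decide (∀ i : Fin 9,
    k ((swap 2 3 * swap 4 5 : Perm (Fin 9)) i) = (swap 2 3 * swap 4 5 : Perm (Fin 9)) (k i))) = true := by
  decide +kernel

theorem conjList_comm : ∀ k ∈ conjList, ∀ i : Fin 9,
    k ((swap 2 3 * swap 4 5 : Perm (Fin 9)) i) = (swap 2 3 * swap 4 5 : Perm (Fin 9)) (k i) :=
  fun k hk => of_decide_eq_true (List.all_eq_true.1 conjList_all k hk)

theorem conjList_sign : ∀ k ∈ conjList, Perm.sign k = 1 := by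
  simp [conjList, Perm.sign_swap']

theorem conjList_facts (k : Perm (Fin 9)) (hk : k ∈ conjList) :
    Perm.sign k = 1 ∧ k * (swap 2 3 * swap 4 5) = (swap 2 3 * swap 4 5) * k :=
  ⟨conjList_sign k hk, Equiv.ext fun i => conjList_comm k hk i⟩

/-- Two transpositions, pointwise. -/
def tr (a b c d i : Fin 9) : Fin 9 :=
  if i = a then b else if i = b then a else if i = c then d else if i = d then c else i

theorem tr_eq (a b c d : Fin 9) (hac : a ≠ c) (had : a ≠ d) (hbc : b ≠ c) (hbd : b ≠ d) (i : Fin 9) :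
    (swap a b * swap c d) i = tr a b c d i := by
  simp only [tr, Perm.mul_apply, swap_apply_def]
  split_ifs <;> simp_all

/-- `u9`, pointwise. -/
def uF (i : Fin 9) : Fin 9 := tr 2 3 4 5 i

theorem cent_u_enum : ∀ a b c d : Fin 9, a ≠ b → c ≠ d → a ≠ c → a ≠ d → b ≠ c → b ≠ d →
    (∀ i, tr a b c d (uF i) = uF (tr a b c d i)) →
    (Finset.univ.filter fun i => tr a b c d (uF i) ≠ i).card = 4 →
    (∀ i, tr a b c d i = tr 2 4 3 5 i) ∨ (∀ i, tr a b c d i = tr 2 5 3 4 i) ∨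
      (conjList.any fun k => decide (∀ i, tr a b c d i = tr (k 0) (k 1) (k 2) (k 3) i)) = true := by
  decide +kernel

/-- Double transpositions commuting with `u9` whose product with it is again one. -/
theorem cent_u_cases {x : alternatingGroup (Fin 9)} (hx : x * u9 = u9 * x)
    {k : alternatingGroup (Fin 9)} (hk : k * u9 * k⁻¹ = x)
    {l : alternatingGroup (Fin 9)} (hl : l * u9 * l⁻¹ = x * u9) :
    x = v9 ∨ x = u9 * v9 ∨ ∃ c : alternatingGroup (Fin 9),
      c * u9 * c⁻¹ = u9 ∧ c * v9' * c⁻¹ = x := by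
  have hk' : (x : Perm (Fin 9)) = swap ((k : Perm (Fin 9)) 2) ((k : Perm (Fin 9)) 3) *
      swap ((k : Perm (Fin 9)) 4) ((k : Perm (Fin 9)) 5) := by
    rw [← congrArg Subtype.val hk]
    show (k : Perm (Fin 9)) * (swap 2 3 * swap 4 5) * (k : Perm (Fin 9))⁻¹ = _
    rw [Equiv.swap_apply_apply, Equiv.swap_apply_apply]
    group
  have hne : ∀ i j : Fin 9, i ≠ j → (k : Perm (Fin 9)) i ≠ (k : Perm (Fin 9)) j :=
    fun i j h e => h ((k : Perm (Fin 9)).injective e)
  have hxu : (x : Perm (Fin 9)) * (swap 2 3 * swap 4 5) = (swap 2 3 * swap 4 5) * (x : Perm (Fin 9)) :=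
    congrArg Subtype.val hx
  have hl' : ((x : Perm (Fin 9)) * (swap 2 3 * swap 4 5)).support.card = 4 := by
    have e : (l : Perm (Fin 9)) * (u9 : Perm (Fin 9)) * (l : Perm (Fin 9))⁻¹ =
        (x : Perm (Fin 9)) * (swap 2 3 * swap 4 5) := congrArg Subtype.val hl
    rw [← e, Perm.card_support_conj]
    decide +kernel
  rw [hk'] at hxu hl'
  have h1 := hne 2 4 (by decide)
  have h2 := hne 2 5 (by decide)
  have h3 := hne 3 4 (by decide)
  have h4 := hne 3 5 (by decide)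
  have hu : ∀ i, (swap 2 3 * swap 4 5 : Perm (Fin 9)) i = uF i := fun i =>
    tr_eq 2 3 4 5 (by decide) (by decide) (by decide) (by decide) i
  have hx' : ∀ i, (x : Perm (Fin 9)) i = tr ((k : Perm (Fin 9)) 2) ((k : Perm (Fin 9)) 3)
      ((k : Perm (Fin 9)) 4) ((k : Perm (Fin 9)) 5) i := fun i => by
    rw [hk', tr_eq _ _ _ _ h1 h2 h3 h4]
  rcases cent_u_enum _ _ _ _ (hne 2 3 (by decide)) (hne 4 5 (by decide)) h1 h2 h3 h4
    (fun i => by
      have := DFunLike.congr_fun hxu i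
      simp only [Perm.mul_apply (swap _ _ * swap _ _)] at this
      rwa [hu, hu, tr_eq _ _ _ _ h1 h2 h3 h4, tr_eq _ _ _ _ h1 h2 h3 h4] at this)
    (by
      rw [← hl']
      refine congrArg Finset.card (Finset.ext fun i => ?_)
      rw [Perm.mem_support, Finset.mem_filter, Perm.mul_apply, hu, tr_eq _ _ _ _ h1 h2 h3 h4]
      simp) with e | e | e
  · refine Or.inl (Subtype.ext (Equiv.ext fun i => ?_))
    rw [hx', e i]
    exact (tr_eq 2 4 3 5 (by decide) (by decide) (by decide) (by decide) i).symm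
  · refine Or.inr (Or.inl (Subtype.ext (Equiv.ext fun i => ?_)))
    rw [hx', e i]
    revert i
    decide +kernel
  · obtain ⟨c, hc, e⟩ := List.any_eq_true.1 e
    replace e := of_decide_eq_true e
    obtain ⟨hs, hcu⟩ := conjList_facts c hc
    refine Or.inr (Or.inr ⟨mk c hs, Subtype.ext ?_, Subtype.ext (Equiv.ext fun i => ?_)⟩)
    · show c * (swap 2 3 * swap 4 5) * c⁻¹ = swap 2 3 * swap 4 5
      rw [hcu, mul_inv_cancel_right]
    · rw [hx', e i, ← tr_eq _ _ _ _ (c.injective.ne (by decide)) (c.injective.ne (by decide))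
        (c.injective.ne (by decide)) (c.injective.ne (by decide)), Equiv.swap_apply_apply,
        Equiv.swap_apply_apply]
      show (c * (swap 0 1 * swap 2 3 : Perm (Fin 9)) * c⁻¹ : Perm (Fin 9)) i = _
      congr 1
      group

/-! ### Elements fixing invariant sets -/

/-- A power of exponent prime to the order fixing a point fixes it already. -/
theorem fix_of_pow {y : Perm (Fin 9)} {n : ℕ} (hn : (orderOf y).Coprime n) {i : Fin 9}
    (h : (y ^ n) i = i) : y i = i := by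
  obtain ⟨m, hm⟩ := exists_pow_eq_self_of_coprime hn.symm
  have : ((y ^ n) ^ m) i = i := by
    clear hm
    induction m with
    | zero => simp
    | succ m ih => rw [pow_succ, Perm.mul_apply, h, ih]
  rwa [hm] at this

/-- An element of order prime to `n` fixes pointwise an invariant set on which its `n`th power
is trivial. -/
theorem fix_on {y : Perm (Fin 9)} {n : ℕ} (hn : (orderOf y).Coprime n) (A : Finset (Fin 9))
    (hA : ∀ i, i ∈ A ↔ y i ∈ A) (P : Perm A → Prop) (hP : ∀ q : Perm A, P q → q ^ n = 1)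
    (hy : P (y.subtypePerm fun i => (hA i).symm)) {i : Fin 9} (hi : i ∈ A) : y i = i := by
  refine fix_of_pow hn ?_
  have hA' : ∀ i, y i ∈ A ↔ i ∈ A := fun i => (hA i).symm
  have h := congrArg Subtype.val (DFunLike.congr_fun (hP _ hy) ⟨i, hi⟩)
  rw [Perm.subtypePerm_pow] at h
  simpa using h

/-- An even permutation fixing all points outside a pair is trivial. -/
theorem eq_one_of_fix {y : Perm (Fin 9)} (hs : Perm.sign y = 1) (i j : Fin 9)
    (h : ∀ t, t ≠ i → t ≠ j → y t = t) : y = 1 := by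
  by_contra hne
  have hsub : y.support ⊆ {i, j} := fun t ht => by
    by_contra hc
    simp only [Finset.mem_insert, Finset.mem_singleton, not_or] at hc
    exact Perm.mem_support.1 ht (h t hc.1 hc.2)
  have h2 : y.support.card = 2 := le_antisymm ((Finset.card_le_card hsub).trans Finset.card_le_two)
    (Perm.two_le_card_support_of_ne_one hne)
  rw [(Perm.card_support_eq_two.1 h2).sign_eq] at hs
  exact absurd hs (by decide)

/-- The set moved by an element is invariant under its centralizer. -/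
theorem mem_iff_of_comm {y p : Perm (Fin 9)} (h : y * p = p * y) (i : Fin 9) :
    p i ≠ i ↔ p (y i) ≠ y i := by
  have h' : p (y i) = y (p i) := (DFunLike.congr_fun h i).symm
  rw [h', y.injective.ne_iff]

theorem u_set : ∀ i : Fin 9, (u9 : Perm (Fin 9)) i ≠ i ↔ i ∈ ({2, 3, 4, 5} : Finset (Fin 9)) := by
  decide +kernel

theorem pair_sets : ∀ i : Fin 9,
    ((u9 : Perm (Fin 9)) i ≠ i ∧ (v9' : Perm (Fin 9)) i ≠ i ↔ i ∈ ({2, 3} : Finset (Fin 9))) ∧
    ((u9 : Perm (Fin 9)) i ≠ i ∧ ¬ (v9' : Perm (Fin 9)) i ≠ i ↔ i ∈ ({4, 5} : Finset (Fin 9))) ∧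
    (¬ (u9 : Perm (Fin 9)) i ≠ i ∧ (v9' : Perm (Fin 9)) i ≠ i ↔ i ∈ ({0, 1} : Finset (Fin 9))) ∧
    (¬ (u9 : Perm (Fin 9)) i ≠ i ∧ ¬ (v9' : Perm (Fin 9)) i ≠ i ↔
      i ∈ ({6, 7, 8} : Finset (Fin 9))) ∧
    (¬ (u9 : Perm (Fin 9)) i ≠ i ∧ ¬ (a9 : Perm (Fin 9)) i ≠ i ↔
      i ∈ ({0, 1} : Finset (Fin 9))) := by decide +kernel

theorem two_exp : ∀ A ∈ ([{0, 1}, {2, 3}, {4, 5}] : List (Finset (Fin 9))),
    ∀ q : Perm A, q ^ 2 = 1 := by
  simp only [List.forall_mem_cons]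
  refine ⟨?_, ?_, ?_, List.forall_mem_nil _⟩ <;> decide +kernel

theorem six_exp : ∀ q : Perm ({6, 7, 8} : Finset (Fin 9)), q ^ 6 = 1 := by decide +kernel

theorem four_exp : ∀ q : Perm ({2, 3, 4, 5} : Finset (Fin 9)),
    (∀ i j : ({2, 3, 4, 5} : Finset (Fin 9)), (u9 : Perm (Fin 9)) i.1 = j.1 →
      (u9 : Perm (Fin 9)) (q i).1 = (q j).1) → q ^ 4 = 1 := by decide +kernel

/-- An element of odd order commuting with `u9` fixes its support. -/
theorem fix_u {y : Perm (Fin 9)} (ho : Odd (orderOf y))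
    (hu : y * (u9 : Perm (Fin 9)) = (u9 : Perm (Fin 9)) * y) :
    ∀ i ∈ ({2, 3, 4, 5} : Finset (Fin 9)), y i = i := fun i hi =>
  fix_on (n := 4) (show (orderOf y).Coprime (2 ^ 2) from (Nat.coprime_two_right.2 ho).pow_right 2) _
    (fun i => by rw [← u_set, ← u_set]; exact mem_iff_of_comm hu i)
    (fun q => ∀ i j : ({2, 3, 4, 5} : Finset (Fin 9)), (u9 : Perm (Fin 9)) i.1 = j.1 →
      (u9 : Perm (Fin 9)) (q i).1 = (q j).1) four_exp
    (fun i j h => by
      show (u9 : Perm (Fin 9)) (y i.1) = y j.1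
      rw [← h]
      exact (DFunLike.congr_fun hu i.1).symm) hi

theorem fix_pairs {y : Perm (Fin 9)} (ho : Odd (orderOf y))
    (hu : y * (u9 : Perm (Fin 9)) = (u9 : Perm (Fin 9)) * y)
    (hv : y * (v9' : Perm (Fin 9)) = (v9' : Perm (Fin 9)) * y) :
    ∀ i, i ∉ ({6, 7, 8} : Finset (Fin 9)) → y i = i := by
  intro i hi
  have hn : (orderOf y).Coprime 2 := Nat.coprime_two_right.2 ho
  have key : ∀ A ∈ ([{0, 1}, {2, 3}, {4, 5}] : List (Finset (Fin 9))),
      (∀ i, i ∈ A ↔ y i ∈ A) → i ∈ A → y i = i := fun A hA hinv hiA =>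
    fix_on hn A hinv (fun _ => True) (fun q _ => two_exp A hA q) trivial hiA
  have hA1 : ∀ i, i ∈ ({2, 3} : Finset (Fin 9)) ↔ y i ∈ ({2, 3} : Finset (Fin 9)) := fun i => by
    rw [← (pair_sets i).1, ← (pair_sets (y i)).1, mem_iff_of_comm hu i, mem_iff_of_comm hv i]
  have hA2 : ∀ i, i ∈ ({4, 5} : Finset (Fin 9)) ↔ y i ∈ ({4, 5} : Finset (Fin 9)) := fun i => by
    rw [← (pair_sets i).2.1, ← (pair_sets (y i)).2.1, mem_iff_of_comm hu i, mem_iff_of_comm hv i]
  have hA3 : ∀ i, i ∈ ({0, 1} : Finset (Fin 9)) ↔ y i ∈ ({0, 1} : Finset (Fin 9)) := fun i => by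
    rw [← (pair_sets i).2.2.1, ← (pair_sets (y i)).2.2.1, mem_iff_of_comm hu i,
      mem_iff_of_comm hv i]
  obtain ⟨A, hA, hiA⟩ : ∃ A ∈ ([{0, 1}, {2, 3}, {4, 5}] : List (Finset (Fin 9))), i ∈ A := by
    fin_cases i <;> simp at hi ⊢
  simp only [List.mem_cons, List.not_mem_nil, or_false] at hA
  rcases hA with rfl | rfl | rfl
  · exact key _ (by simp) hA3 hiA
  · exact key _ (by simp) hA1 hiA
  · exact key _ (by simp) hA2 hiA

/-- An even permutation fixing `0, …, 5` is a power of `a9`. -/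
theorem eq_pow_a9 (y : alternatingGroup (Fin 9))
    (h : ∀ i, i ∉ ({6, 7, 8} : Finset (Fin 9)) → (y : Perm (Fin 9)) i = i) :
    ∃ i : Fin 3, y = a9 ^ i.val := by
  have hy6 : (y : Perm (Fin 9)) 6 ∈ ({6, 7, 8} : Finset (Fin 9)) := by
    by_contra hc
    have := (y : Perm (Fin 9)).injective (h _ hc)
    rw [this] at hc
    exact hc (by decide)
  obtain ⟨i, hi⟩ : ∃ i : Fin 3, ((a9 ^ i.val : alternatingGroup (Fin 9)) : Perm (Fin 9)) 6 =
      (y : Perm (Fin 9)) 6 := by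
    have key : ∀ t ∈ ({6, 7, 8} : Finset (Fin 9)),
        ∃ i : Fin 3, ((a9 ^ i.val : alternatingGroup (Fin 9)) : Perm (Fin 9)) 6 = t := by
      decide +kernel
    exact key _ hy6
  have hfix : ∀ i : Fin 3, ∀ t, t ∉ ({6, 7, 8} : Finset (Fin 9)) →
      ((a9 ^ i.val : alternatingGroup (Fin 9)) : Perm (Fin 9)) t = t := by decide +kernel
  refine ⟨i, (inv_mul_eq_one.1 (Subtype.ext (eq_one_of_fix
    (Perm.mem_alternatingGroup.1 ((a9 ^ i.val)⁻¹ * y).2) 7 8 fun t h7 h8 => ?_))).symm⟩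
  rw [Subgroup.coe_mul, InvMemClass.coe_inv, Perm.mul_apply, Perm.inv_eq_iff_eq]
  by_cases h6 : t = 6
  · subst h6; exact hi.symm
  · have ht : t ∉ ({6, 7, 8} : Finset (Fin 9)) := by simp [h6, h7, h8]
    rw [h t ht, hfix i t ht]

/-- An element of order five centralizes no four-group of the second kind. -/
theorem five_v' {y : alternatingGroup (Fin 9)} (h5 : y ^ 5 = 1) (hu : y * u9 = u9 * y)
    (hv : y * v9' = v9' * y) : y = 1 := by
  have hd : orderOf (y : Perm (Fin 9)) ∣ 5 :=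
    orderOf_dvd_of_pow_eq_one (congrArg Subtype.val h5)
  have ho : Odd (orderOf (y : Perm (Fin 9))) := Odd.of_dvd_nat ⟨2, rfl⟩ hd
  have hu' := congrArg Subtype.val hu
  have hv' := congrArg Subtype.val hv
  have h6 := fix_pairs ho hu' hv'
  refine Subtype.ext (Equiv.ext fun i => ?_)
  by_cases hi : i ∈ ({6, 7, 8} : Finset (Fin 9))
  · exact fix_on (n := 6) (Nat.Coprime.coprime_dvd_left hd (by decide)) _ (fun j => by
      rw [← (pair_sets j).2.2.2.1, ← (pair_sets ((y : Perm (Fin 9)) j)).2.2.2.1,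
        mem_iff_of_comm hu' j, mem_iff_of_comm hv' j]) (fun _ => True) (fun q _ => six_exp q)
      trivial hi
  · exact h6 i hi

/-- An element of odd order centralizing `u9` and `a9` is a power of `a9`. -/
theorem cent_u_a {y : alternatingGroup (Fin 9)} (ho : Odd (orderOf (y : Perm (Fin 9))))
    (hu : y * u9 = u9 * y) (ha : y * a9 = a9 * y) : ∃ i : Fin 3, y = a9 ^ i.val := by
  have hu' := congrArg Subtype.val hu
  have ha' := congrArg Subtype.val ha
  refine eq_pow_a9 y fun i hi => ?_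
  by_cases h : i ∈ ({2, 3, 4, 5} : Finset (Fin 9))
  · exact fix_u ho hu' i h
  · refine fix_on (Nat.coprime_two_right.2 ho) {0, 1} (fun j => ?_) (fun _ => True)
      (fun q _ => two_exp {0, 1} (by simp) q) trivial ?_
    · rw [← (pair_sets j).2.2.2.2, ← (pair_sets ((y : Perm (Fin 9)) j)).2.2.2.2,
        mem_iff_of_comm hu' j, mem_iff_of_comm ha' j]
    · fin_cases i <;> simp at hi h ⊢

/-- The common centralizer of `g9` and `σ9`. -/
theorem cent_g_sigma {y : alternatingGroup (Fin 9)} (hg : y * g9 = g9 * y)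
    (hσ : y * σ9 = σ9 * y) : ∃ i : Fin 3, ∃ j : Fin 2, y = g9 ^ i.val * σ9 ^ j.val := by
  have hg' := congrArg Subtype.val hg
  have hσ' := congrArg Subtype.val hσ
  have hgs : ∀ i : Fin 9, ((g9 : Perm (Fin 9)) i ≠ i ↔ i.val < 6) ∧
      ((σ9 : Perm (Fin 9)) i ≠ i ↔ i.val < 8) := by decide +kernel
  have h0 : ((y : Perm (Fin 9)) 0).val < 6 :=
    (hgs _).1.1 ((mem_iff_of_comm hg' 0).1 ((hgs 0).1.2 (by decide)))
  have key : ∀ t : Fin 9, t.val < 6 → ∃ i : Fin 3, ∃ j : Fin 2,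
      ((g9 ^ i.val * σ9 ^ j.val : alternatingGroup (Fin 9)) : Perm (Fin 9)) 0 = t := by decide +kernel
  obtain ⟨i, j, hij⟩ := key _ h0
  set z := g9 ^ i.val * σ9 ^ j.val with hz
  refine ⟨i, j, (inv_mul_eq_one.1 ?_).symm⟩
  have cgs : Commute g9 σ9 := sigma_facts.2.2.2.2.2.2.2.2.2.1
  have hzg : Commute z g9 := ((Commute.refl g9).pow_left _).mul_left (cgs.symm.pow_left _)
  have hzs : Commute z σ9 := (cgs.pow_left _).mul_left ((Commute.refl σ9).pow_left _)
  have hyg : Commute y g9 := hg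
  have hys : Commute y σ9 := hσ
  have w0 : ((z⁻¹ * y : alternatingGroup (Fin 9)) : Perm (Fin 9)) 0 = 0 := by
    rw [Subgroup.coe_mul, InvMemClass.coe_inv, Perm.mul_apply, Perm.inv_eq_iff_eq]
    exact hij.symm
  have hwg := congrArg Subtype.val (hzg.inv_left.mul_left hyg).eq
  have hws := congrArg Subtype.val (hzs.inv_left.mul_left hys).eq
  refine Subtype.ext (eq_one_of_fix (Perm.mem_alternatingGroup.1 (z⁻¹ * y).2) 6 7 fun t h6 h7 => ?_)
  by_cases ht : t.val < 6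
  · obtain ⟨a, b, hab⟩ := key t ht
    have hc : Commute (z⁻¹ * y) (g9 ^ a.val * σ9 ^ b.val) :=
      ((hzg.inv_left.mul_left hyg).pow_right _).mul_right ((hzs.inv_left.mul_left hys).pow_right _)
    have h' := DFunLike.congr_fun (congrArg Subtype.val hc.eq) (0 : Fin 9)
    rw [← hab]
    simp only [Subgroup.coe_mul, Perm.mul_apply] at h' w0 ⊢
    rw [h', w0]
  · have h6' : t.val ≠ 6 := fun e => h6 (Fin.ext e)
    have h7' : t.val ≠ 7 := fun e => h7 (Fin.ext e)
    have ht8 : ¬ t.val < 8 := by omega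
    have hw8 : ¬ (((z⁻¹ * y : alternatingGroup (Fin 9)) : Perm (Fin 9)) t).val < 8 := by
      rwa [← (hgs _).2, ← mem_iff_of_comm hws t, (hgs t).2]
    revert hw8
    generalize ((z⁻¹ * y : alternatingGroup (Fin 9)) : Perm (Fin 9)) t = q
    intro hw8
    exact Fin.ext (by omega)

end CfsgLib.AltNine.End

namespace CfsgLib.AltNine.End

open Equiv

/-- An elementary abelian group of order sixteen centralizing `σ9`. -/
def e16 (x : (Fin 2 × Fin 2) × (Fin 2 × Fin 2)) : alternatingGroup (Fin 9) :=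
  v9' ^ x.1.1.val * mk (swap 0 2 * swap 1 3) (by decide +kernel) ^ x.1.2.val *
    (mk (swap 4 5 * swap 6 7) (by decide +kernel) ^ x.2.1.val *
      mk (swap 4 6 * swap 5 7) (by decide +kernel) ^ x.2.2.val)

/-- `(0 4)(1 5)(2 6)(3 7)`. -/
def s16 : alternatingGroup (Fin 9) :=
  mk (swap 0 4 * swap 1 5 * (swap 2 6 * swap 3 7)) (by decide +kernel)

theorem e16_add : ∀ x y, e16 x * e16 y = e16 (x + y) := by decide +kernel

theorem e16_injective : Function.Injective e16 := by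
  intro x y
  revert x y
  decide +kernel

theorem e16_zero : e16 ((0, 0), (0, 0)) = 1 := by decide +kernel

theorem e16_comm : ∀ x, e16 x * σ9 = σ9 * e16 x := by decide +kernel

theorem s16_facts : s16 * s16 = 1 ∧ s16 * σ9 = σ9 * s16 ∧ (∀ x, e16 x ≠ s16) ∧
    ∀ x, s16 * e16 x * s16 = e16 (x.2, x.1) := by
  refine ⟨?_, ?_, ?_, ?_⟩ <;> decide +kernel

/-- In `A₅` no four-group normalized by an element of order three is also normalized by an
involution inverting that element. -/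
theorem alt5_flip : ∀ a : alternatingGroup (Fin 5), a * a = 1 → a ≠ 1 →
    ∀ d : alternatingGroup (Fin 5), d ^ 3 = 1 → d ≠ 1 → a * (d * a * d⁻¹) = d * a * d⁻¹ * a →
      d * (d * a * d⁻¹) * d⁻¹ = a * (d * a * d⁻¹) →
    ∀ j : alternatingGroup (Fin 5), j * j = 1 → j * d * j = d ^ 2 →
      j * a * j⁻¹ = a * (d * a * d⁻¹) → False := by
  decide +kernel

/-- In `S₃` no four-group is normalized by an element of order three. -/
theorem s3_flip : ∀ a d : Perm (Fin 3), a * a = 1 → d ^ 3 = 1 → d ≠ 1 →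
    a * (d * a * d⁻¹) = d * a * d⁻¹ * a → d * (d * a * d⁻¹) * d⁻¹ = a * (d * a * d⁻¹) → a = 1 := by
  decide +kernel

end CfsgLib.AltNine.End
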