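import Cfsg.Agent.Lib.Recognition.AltNine.EndU
import Cfsg.Agent.Lib.Recognition.ThreeEight.CentB

/-!
# The centralizer of an involution of type `2⁴` lies in the embedded `A₉`

Modulo the involution it has a self-centralizing subgroup of order three, so a nilpotent normal
subgroup contains a conjugate of `u`; the normalizer condition puts it into the image.
-/

set_option autoImplicit false
set_option linter.style.haveILetI false
set_option linter.unusedSectionVars false
set_option maxHeartbeats 800000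

namespace CfsgLib.AltNine

open Subgroup Equiv End

universe u

namespace Frame9

variable {G : Type u} [Group G] {S : Setup G} (F : Frame9 S)

/-- The centralizer of `σ`. -/
def Cs : Subgroup G := centralizer {F.f σ9}

theorem mem_Cs {g : G} : g ∈ F.Cs ↔ g * F.f σ9 = F.f σ9 * g := mem_centralizer_singleton_iff

/-- The part inside the image. -/
def lift (y : alternatingGroup (Fin 9)) (h : y * σ9 = σ9 * y) : F.Cs :=
  ⟨F.f y, F.mem_Cs.2 (F.comm_iff.2 h)⟩

theorem centralizer_g_le : centralizer ({F.f g9} : Set G) ≤ F.f.range := by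
  obtain ⟨-, -, -, -, -, -, -, -, -, -, -, -, -, hb, hp, -⟩ := sigma_facts
  have hfp : F.f p9 = S.b :=
    F.agree _ (ThreeCubedWreath.mem_M4_iff.2 (Setup.jrep_sign 1)) _ hp
  intro x hx
  rw [mem_centralizer_singleton_iff, ← hb, map_mul, map_mul, map_inv, hfp] at hx
  have h : (F.f b9)⁻¹ * x * F.f b9 ∈ centralizer ({S.b} : Set G) := by
    rw [mem_centralizer_singleton_iff]
    calc (F.f b9)⁻¹ * x * F.f b9 * S.b
        = (F.f b9)⁻¹ * (x * (F.f b9 * S.b * (F.f b9)⁻¹)) * F.f b9 := by group
      _ = S.b * ((F.f b9)⁻¹ * x * F.f b9) := by rw [hx]; group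
  rw [show x = F.f b9 * ((F.f b9)⁻¹ * x * F.f b9) * (F.f b9)⁻¹ by group]
  exact mul_mem (mul_mem ⟨_, rfl⟩ (F.H_le (F.centralizer_b_le h))) (inv_mem ⟨_, rfl⟩)

variable [Finite G]

/-- `C(σ)` lies in the image. -/
theorem centralizer_sigma_le : centralizer ({F.f σ9} : Set G) ≤ F.f.range := by
  classical
  haveI : Fact (Nat.Prime 2) := ⟨Nat.prime_two⟩
  haveI : Fact (Nat.Prime 3) := ⟨Nat.prime_three⟩
  obtain ⟨d3, d1, j2, jd, de, eu, du, je, e2, dσ, jσ, eσ, uσ, -, -, dne⟩ := sigma_facts
  set s := F.lift σ9 rfl with hs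
  have ho2 : orderOf s = 2 := by rw [hs, lift, Subgroup.orderOf_mk, F.orderOf_sigma]
  set Zb : Subgroup F.Cs := zpowers s with hZb
  have hcen : ∀ x : F.Cs, x * s = s * x := fun x => Subtype.ext (F.mem_Cs.1 x.2)
  haveI : Zb.Normal := ⟨fun n hn g => by
    obtain ⟨i, rfl⟩ := hn
    rw [((show Commute g s from hcen g).zpow_right i).eq, mul_inv_cancel_right]
    exact zpow_mem_zpowers _ _⟩
  have hZ : ∀ {x : F.Cs}, x ∈ Zb → x = 1 ∨ x = s := by
    intro x hx
    obtain ⟨i, rfl⟩ := hx
    have h2 : s ^ (2 : ℤ) = 1 := by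
      rw [show (2 : ℤ) = ((2 : ℕ) : ℤ) from rfl, zpow_natCast, ← ho2, pow_orderOf_eq_one]
    show s ^ i = 1 ∨ s ^ i = s
    rw [zpow_eq_zpow_emod i h2]
    rcases (show i % 2 = 0 ∨ i % 2 = 1 by omega) with e | e <;> rw [e]
    · exact Or.inl (zpow_zero _)
    · exact Or.inr (zpow_one _)
  set q : F.Cs →* F.Cs ⧸ Zb := QuotientGroup.mk' Zb with hq
  have hqZ : ∀ {x y : F.Cs}, q x = q y → y = x ∨ y = x * s := by
    intro x y e
    rcases hZ (QuotientGroup.eq.1 e) with f | f
    · exact Or.inl (inv_mul_eq_one.1 f).symm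
    · exact Or.inr (by rw [← f, mul_inv_cancel_left])
  have hmul : ∀ (x y : alternatingGroup (Fin 9)) (hx : x * σ9 = σ9 * x) (hy : y * σ9 = σ9 * y),
      F.lift x hx * F.lift y hy =
        F.lift (x * y) ((show Commute x σ9 from hx).mul_left (show Commute y σ9 from hy)).eq :=
    fun x y hx hy => Subtype.ext (map_mul F.f x y).symm
  set cd := F.lift g9 dσ with hcd
  set cj := F.lift j9 jσ with hcj
  set ce := F.lift v9' eσ with hce
  set cu := F.lift u9 uσ with hcu
  have r2 : cd ^ 3 = 1 := Subtype.ext (by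
    show F.f g9 ^ 3 = 1
    rw [← map_pow, d3, map_one])
  have r1 : ce * ce = 1 := Subtype.ext (by
    show F.f v9' * F.f v9' = 1
    rw [← map_mul, e2, map_one])
  have r3 : cj * cj = 1 := Subtype.ext (by
    show F.f j9 * F.f j9 = 1
    rw [← map_mul, j2, map_one])
  have r4 : cj * cd * cj = cd ^ 2 := Subtype.ext (by
    show F.f j9 * F.f g9 * F.f j9 = F.f g9 ^ 2
    rw [← map_mul, ← map_mul, jd, map_pow])
  have r5 : cd * ce * cd⁻¹ = cu := Subtype.ext (by
    show F.f g9 * F.f v9' * (F.f g9)⁻¹ = F.f u9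
    rw [← map_inv, ← map_mul, ← map_mul, de])
  have r6 : ce * cu = cu * ce := Subtype.ext (by
    show F.f v9' * F.f u9 = F.f u9 * F.f v9'
    rw [← map_mul, ← map_mul, eu])
  have r7 : cd * cu * cd⁻¹ = ce * cu := Subtype.ext (by
    show F.f g9 * F.f u9 * (F.f g9)⁻¹ = F.f v9' * F.f u9
    rw [← map_inv, ← map_mul, ← map_mul, du, map_mul])
  have r8 : cj * ce * cj⁻¹ = ce * cu := Subtype.ext (by
    show F.f j9 * F.f v9' * (F.f j9)⁻¹ = F.f v9' * F.f u9
    rw [← map_inv, ← map_mul, ← map_mul, je, map_mul])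
  -- a self-centralizing subgroup of order three
  set X : Subgroup (F.Cs ⧸ Zb) := zpowers (q cd) with hXdef
  have hd3 : q cd ^ 3 = 1 := by rw [← map_pow, r2, map_one]
  have hdne : q cd ≠ 1 := by
    intro e
    rcases hZ ((QuotientGroup.eq_one_iff _).1 e) with f | f
    · exact d1 (F.injective ((congrArg Subtype.val f).trans (map_one F.f).symm))
    · exact dne (F.injective (congrArg Subtype.val f))
  have hX : Nat.card X = 3 := by rw [hXdef, Nat.card_zpowers, orderOf_eq_prime hd3 hdne]
  have hCX : centralizer (X : Set (F.Cs ⧸ Zb)) = X := by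
    apply le_antisymm
    · intro x hx
      obtain ⟨x, rfl⟩ := QuotientGroup.mk'_surjective Zb x
      have hc := mem_centralizer_iff.1 hx _ (mem_zpowers (q cd))
      rw [← hq, ← map_mul, ← map_mul] at hc
      have hxd : x * cd = cd * x := by
        rcases hqZ hc with e | e
        · exact e
        · exfalso
          have e' : x * cd * x⁻¹ = cd * s := by
            rw [e, mul_assoc cd x, hcen x, ← mul_assoc, mul_inv_cancel_right]
          have := congrArg (· ^ 3) e'
          simp only [conj_pow, r2, mul_one, mul_inv_cancel,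
            (show Commute cd s from hcen _).mul_pow, one_mul] at this
          rw [show s ^ 3 = s by rw [pow_succ, ← ho2, pow_orderOf_eq_one, one_mul]] at this
          rw [← this, orderOf_one] at ho2
          omega
      obtain ⟨y, hy⟩ := F.centralizer_g_le
        (mem_centralizer_singleton_iff.2 (congrArg Subtype.val hxd : (x : G) * F.f g9 = F.f g9 * x))
      obtain ⟨i, j, e⟩ := cent_g_sigma (y := y)
        (F.comm_iff.1 (by rw [hy]; exact congrArg Subtype.val hxd))
        (F.comm_iff.1 (by rw [hy]; exact F.mem_Cs.1 x.2))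
      rw [show x = cd ^ i.val * s ^ j.val from Subtype.ext (by
          rw [← hy, e, map_mul, map_pow, map_pow]; rfl),
        ← hq, map_mul, map_pow, map_pow, show q s = 1 from
          (QuotientGroup.eq_one_iff _).2 (mem_zpowers _), one_pow, mul_one]
      exact pow_mem (mem_zpowers _) _
    · intro x hx
      refine mem_centralizer_iff.2 fun y hy => ?_
      obtain ⟨i, rfl⟩ := hx
      obtain ⟨j, rfl⟩ := hy
      exact ((Commute.refl _).zpow_zpow j i).eq
  -- a nilpotent normal subgroup modulo `σ` containing the image of `(0 1)(2 3)`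
  obtain ⟨N, hN, hnil, hNe⟩ : ∃ (N : Subgroup (F.Cs ⧸ Zb)), N.Normal ∧
      Group.IsNilpotent N ∧ q ce ∈ N := by
    rcases Cfsg.Agent.S3331.result X hX hCX with
      ⟨N, hN, hnil, hcop, hQ⟩ | ⟨N, hN, hNc, hN2, ⟨e⟩⟩ | ⟨⟨e⟩⟩
    · haveI := hN
      refine ⟨N, hN, hnil, (QuotientGroup.eq_one_iff _).1 ?_⟩
      set f : F.Cs →* (F.Cs ⧸ Zb) ⧸ N := (QuotientGroup.mk' N).comp q with hf
      show f ce = 1
      have hfd : f cd ≠ 1 := fun h => hdne (by
        have hm : q cd ∈ N := (QuotientGroup.eq_one_iff _).1 h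
        rw [← orderOf_eq_one_iff]
        exact Nat.eq_one_of_dvd_coprimes hcop (N.orderOf_dvd_natCard hm)
          (orderOf_dvd_of_pow_eq_one hd3))
      rcases hQ with h3 | ⟨⟨e⟩⟩
      · exfalso
        have := Nat.card_le_card_of_injective _ (ThreeEight.six_map_injective
          (d := f cd) (j := f cj) (by rw [← map_pow, r2, map_one]) hfd
          (by rw [← map_mul, r3, map_one]) (by rw [← map_mul, ← map_mul, r4, map_pow]))
        rw [h3] at this
        simp at this
      · apply e.injective
        rw [map_one]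
        refine End.s3_flip (e (f ce)) (e (f cd)) ?_ ?_ ?_ ?_ ?_
        · rw [← map_mul, ← map_mul, r1, map_one, map_one]
        · rw [← map_pow, ← map_pow, r2, map_one, map_one]
        · rwa [Ne, EmbeddingLike.map_eq_one_iff]
        · simp only [← map_mul, ← map_inv]
          rw [r5, r6]
        · simp only [← map_mul, ← map_inv]
          rw [r5, r7]
    · haveI := hN
      haveI : Group.IsNilpotent N := by
        refine IsPGroup.isNilpotent (p := 2) fun x => ⟨1, Subtype.ext ?_⟩
        rw [pow_one, Subgroup.coe_pow, OneMemClass.coe_one]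
        exact hN2 _ x.2
      refine ⟨N, hN, inferInstance, (QuotientGroup.eq_one_iff _).1 ?_⟩
      set f : F.Cs →* alternatingGroup (Fin 5) :=
        e.toMonoidHom.comp ((QuotientGroup.mk' N).comp q) with hf
      have hmem : ∀ x : F.Cs, f x = 1 ↔ q x ∈ N := fun x => by
        rw [← QuotientGroup.eq_one_iff]
        exact EmbeddingLike.map_eq_one_iff (f := e)
      show ((q ce : F.Cs ⧸ Zb) : (F.Cs ⧸ Zb) ⧸ N) = 1
      by_contra h
      have hfe : f ce ≠ 1 := fun h' => h ((QuotientGroup.eq_one_iff _).2 ((hmem _).1 h'))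
      have hfd : f cd ≠ 1 := fun h' => hdne (by
        have h2 := hN2 _ ((hmem _).1 h')
        rw [pow_succ, h2, one_mul] at hd3
        exact hd3)
      refine End.alt5_flip (f ce) (by rw [← map_mul, r1, map_one]) hfe (f cd)
        (by rw [← map_pow, r2, map_one]) hfd ?_ ?_ (f cj) (by rw [← map_mul, r3, map_one])
        (by rw [← map_mul, ← map_mul, r4, map_pow]) ?_
      · simp only [← map_mul, ← map_inv]; rw [r5, r6]
      · simp only [← map_mul, ← map_inv]; rw [r5, r7]
      · simp only [← map_mul, ← map_inv]; rw [r5, r8]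
    · exfalso
      haveI : Fact (Nat.Prime 7) := ⟨by norm_num⟩
      have h168 : Nat.card (Matrix.ProjectiveSpecialLinearGroup (Fin 2) (ZMod 7)) = 168 := by
        have h := CfsgLib.PSL2.card_psl (F := ZMod 7)
        rw [ZMod.card] at h
        norm_num [← Nat.card_eq_fintype_card] at h
        simp only [Nat.card_eq_fintype_card] at h ⊢
        omega
      have h336 : Nat.card F.Cs = 336 := by
        rw [card_eq_card_quotient_mul_card_subgroup Zb, Nat.card_congr e.toEquiv, h168, hZb,
          Nat.card_zpowers, ho2]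
      let M : Subgroup (alternatingGroup (Fin 9)) :=
        { carrier := Set.range e16
          one_mem' := ⟨_, e16_zero⟩
          mul_mem' := by
            rintro _ _ ⟨x, rfl⟩ ⟨y, rfl⟩
            exact ⟨x + y, (e16_add x y).symm⟩
          inv_mem' := by
            rintro _ ⟨x, rfl⟩
            refine ⟨x, eq_inv_of_mul_eq_one_left ?_⟩
            have h2 : ∀ x : (Fin 2 × Fin 2) × (Fin 2 × Fin 2), x + x = ((0, 0), (0, 0)) := by decide
            rw [e16_add, h2, e16_zero] }
      have h16 : Nat.card M = 16 := by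
        show Nat.card (Set.range e16) = 16
        rw [Nat.card_range_of_injective e16_injective]
        simp
      obtain ⟨s2, ssσ, sne, snorm⟩ := s16_facts
      have hsinv : s16⁻¹ = s16 := inv_eq_of_mul_eq_one_right s2
      have hsn : zpowers s16 ≤ normalizer (M : Set (alternatingGroup (Fin 9))) := by
        rw [zpowers_le]
        have step : ∀ x ∈ M, s16 * x * s16⁻¹ ∈ M := by
          rintro _ ⟨x, rfl⟩
          exact ⟨(x.2, x.1), by rw [hsinv, snorm]⟩
        refine mem_normalizer_iff.2 fun x => ⟨step x, fun h => ?_⟩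
        have h' := step _ h
        rw [hsinv] at h'
        rwa [show s16 * (s16 * x * s16) * s16 = s16 * s16 * x * (s16 * s16) by group, s2, one_mul,
          mul_one] at h'
      have hps : IsPGroup 2 (zpowers s16) := by
        refine IsPGroup.of_card (n := 1) ?_
        rw [Nat.card_zpowers, pow_one]
        refine orderOf_eq_prime (by rw [pow_two]; exact s2) fun h => ?_
        exact sne ((0, 0), (0, 0)) (e16_zero.trans h.symm)
      have hS : IsPGroup 2 (zpowers s16 ⊔ M : Subgroup (alternatingGroup (Fin 9))) :=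
        hps.to_sup_of_normal_right' (IsPGroup.of_card (n := 4) (by rw [h16]; rfl)) hsn
      obtain ⟨n, hn⟩ := IsPGroup.iff_card.1 hS
      have h5 : 5 ≤ n := by
        by_contra h
        have heq : M = zpowers s16 ⊔ M := eq_of_le_of_card_ge le_sup_right (by
          rw [h16, hn]
          exact (Nat.pow_le_pow_right (show 0 < 2 by norm_num) (show n ≤ 4 by omega)).trans
            (by norm_num))
        obtain ⟨x, hx⟩ : s16 ∈ M := heq ▸ mem_sup_left (mem_zpowers _)
        exact sne x hx
      have hle : (zpowers s16 ⊔ M).map F.f ≤ F.Cs := by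
        rw [Subgroup.map_sup, sup_le_iff, MonoidHom.map_zpowers, zpowers_le]
        refine ⟨F.mem_Cs.2 (F.comm_iff.2 ssσ), ?_⟩
        rintro _ ⟨_, ⟨x, rfl⟩, rfl⟩
        exact F.mem_Cs.2 (F.comm_iff.2 (e16_comm x))
      have h32 := card_dvd_of_le hle
      rw [card_map_of_injective F.injective, hn, h336] at h32
      have := (pow_dvd_pow 2 h5).trans h32
      norm_num at this
  haveI := hN
  set Nb := N.comap q with hNb
  haveI hnil' : Group.IsNilpotent Nb := by
    haveI := hnil
    refine Subgroup.isNilpotent_of_ker_le_center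
      ((q.comp Nb.subtype).codRestrict N fun x => x.2) ?_
    intro x hx
    rw [mem_center_iff]
    intro y
    have hxZ : (x : F.Cs) ∈ Zb := (QuotientGroup.eq_one_iff _).1 (congrArg Subtype.val hx)
    rcases hZ hxZ with f | f
    · rw [show x = 1 from Subtype.ext f, one_mul, mul_one]
    · exact Subtype.ext (by rw [Subgroup.coe_mul, Subgroup.coe_mul, f]; exact hcen _)
  set K' : Subgroup F.Cs := F.f.range.subgroupOf F.Cs with hK'
  have hconj : g9⁻¹ * u9 * g9⁻¹⁻¹ = v9' := by
    rw [inv_inv]; exact inv_conj de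
  have hkey : ∀ y : F.Cs, (y * ce * y⁻¹ : F.Cs) ∈ K' → y ∈ K' := fun y hy =>
    F.mem_of_conj_u hconj hy
  have hceK : ce ∈ K' := ⟨v9', rfl⟩
  have hce' : ce ∈ Nb := hNe
  have hNbK : Nb ≤ K' := by
    rw [← Subgroup.subgroupOf_eq_top]
    by_contra hne
    have hlt := Group.normalizerCondition_of_isNilpotent (G := Nb) (K'.subgroupOf Nb)
      (lt_top_iff_ne_top.2 hne)
    obtain ⟨y, hy, hyT⟩ := SetLike.exists_of_lt hlt
    refine hyT (mem_subgroupOf.2 (hkey y ?_))
    exact mem_subgroupOf.1 ((mem_normalizer_iff.1 hy ⟨ce, hce'⟩).1 (mem_subgroupOf.2 hceK))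
  intro x hx
  exact hkey ⟨x, hx⟩ (hNbK ((inferInstance : Nb.Normal).conj_mem ce hce' ⟨x, hx⟩))

end Frame9

end CfsgLib.AltNine
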