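import Cfsg.Agent.Lib.Recognition.AltNine.EndAlt
import Cfsg.Agent.Lib.Involutions.BrauerSuzuki
import Cfsg.Agent.Lib.Involutions.Isolated
import Cfsg.Agent.Lib.PCore.Basic
import Cfsg.Agent.Lib.Transfer.Basic
import Mathlib.GroupTheory.SpecificGroups.Alternating.Simple

/-!
# The centralizer of an involution of type `2²` lies in the embedded `A₉`

By the Z*-theorem it is its odd core times its part in the image, and the odd core is trivial.
-/

set_option autoImplicit false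
set_option linter.style.haveILetI false
set_option linter.unusedSectionVars false

namespace CfsgLib.AltNine

open Subgroup Equiv End

universe u

/-- The five points fixed by `u9`. -/
abbrev P5 : Type := {i : Fin 9 // i ∉ ({2, 3, 4, 5} : Finset (Fin 9))}

theorem card_P5 : Nat.card P5 = 5 := by
  rw [Nat.card_eq_fintype_card]; decide +kernel

theorem inv_conj {M : Type*} [Group M] {k a b : M} (h : k * a * k⁻¹ = b) : k⁻¹ * b * k = a := by
  rw [← h]; group

namespace Frame9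

variable {G : Type u} [Group G] {S : Setup G} (F : Frame9 S)

/-- A pair of elements of the image conjugated as by an element of the image. -/
theorem mem_of_pair {w : alternatingGroup (Fin 9)}
    (hw : centralizer ({F.f u9, F.f w} : Set G) ≤ F.f.range) {g : G}
    (k : alternatingGroup (Fin 9)) {p q : alternatingGroup (Fin 9)}
    (hp : k * u9 * k⁻¹ = p) (hq : k * w * k⁻¹ = q)
    (hgu : g * F.f u9 * g⁻¹ = F.f p) (hgw : g * F.f w * g⁻¹ = F.f q) : g ∈ F.f.range := by
  have key : ∀ x y : alternatingGroup (Fin 9), k * x * k⁻¹ = y → g * F.f x * g⁻¹ = F.f y →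
      F.f x * ((F.f k)⁻¹ * g) = (F.f k)⁻¹ * g * F.f x := by
    intro x y h1 h2
    calc F.f x * ((F.f k)⁻¹ * g)
        = (F.f k)⁻¹ * (F.f k * F.f x * (F.f k)⁻¹) * g := by group
      _ = (F.f k)⁻¹ * (g * F.f x * g⁻¹) * g := by rw [h2, ← h1, map_mul, map_mul, map_inv]
      _ = _ := by group
  have hm : (F.f k)⁻¹ * g ∈ centralizer ({F.f u9, F.f w} : Set G) := by
    rw [mem_centralizer_iff]
    rintro z (rfl | rfl)
    exacts [key _ _ hp hgu, key _ _ hq hgw]
  simpa using mul_mem (⟨k, rfl⟩ : F.f k ∈ F.f.range) (hw hm)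

theorem orderOf_u : orderOf (F.f u9) = 2 := by
  rw [orderOf_injective F.f F.injective]
  exact orderOf_eq_prime (by rw [pow_two]; exact End.basic.1) End.basic.2.1

theorem orderOf_sigma : orderOf (F.f σ9) = 2 := by
  rw [orderOf_injective F.f F.injective]
  exact orderOf_eq_prime (by rw [pow_two]; exact End.basic.2.2.2.2.1) End.basic.2.2.2.2.2.1

/-- Conjugates of `u9` in the image. -/
theorem exists_conj_u {x : alternatingGroup (Fin 9)} (h : IsConj (F.f u9) (F.f x)) :
    ∃ k : alternatingGroup (Fin 9), k * u9 * k⁻¹ = x := by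
  obtain ⟨g, hg⟩ := isConj_iff.1 h
  have ho : orderOf x = 2 := by
    rw [← orderOf_injective F.f F.injective, ← hg, ← MulAut.conj_apply, MulEquiv.orderOf_eq,
      F.orderOf_u]
  obtain ⟨k, hk | hk⟩ := invol_cases x (by rw [← pow_two, ← ho, pow_orderOf_eq_one])
    (fun e => by rw [e, orderOf_one] at ho; omega)
  · exact ⟨k, hk⟩
  · exfalso
    refine F.not_isConj (h.trans ?_)
    refine isConj_iff.2 ⟨(F.f k)⁻¹, ?_⟩
    rw [← hk, map_mul, map_mul, map_inv]
    group

theorem comm_iff {x y : alternatingGroup (Fin 9)} :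
    F.f x * F.f y = F.f y * F.f x ↔ x * y = y * x := by
  rw [← map_mul, ← map_mul, F.injective.eq_iff]

variable [Finite G]

/-- A conjugate of `v` under `C(u)` commuting with it modulo `u` is `v` or `u v`. -/
theorem vee_isolated {h : G} (hh : h * F.f u9 = F.f u9 * h)
    (hx : h * F.f v9 * h⁻¹ * F.f v9 = F.f v9 * (h * F.f v9 * h⁻¹) ∨
      h * F.f v9 * h⁻¹ * F.f v9 = F.f (u9 * v9) * (h * F.f v9 * h⁻¹)) :
    h * F.f v9 * h⁻¹ = F.f v9 ∨ h * F.f v9 * h⁻¹ = F.f (u9 * v9) := by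
  obtain ⟨u2, u1, v2, v1, -, -, huv, -, -, hc, hcc, hku, hkv⟩ := End.basic
  set x := h * F.f v9 * h⁻¹ with hxdef
  have hth : h * F.f u9 * h⁻¹ = F.f u9 := by rw [hh, mul_inv_cancel_right]
  have hxt : x * F.f u9 = F.f u9 * x := by
    calc x * F.f u9 = h * (F.f v9 * (h⁻¹ * F.f u9 * h)) * h⁻¹ := by rw [hxdef]; group
      _ = h * (F.f v9 * F.f u9) * h⁻¹ := by rw [mul_assoc h⁻¹, ← hh, inv_mul_cancel_left]
      _ = h * (F.f u9 * F.f v9) * h⁻¹ := by rw [F.comm_iff.2 huv.symm]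
      _ = h * F.f u9 * h⁻¹ * x := by rw [hxdef]; group
      _ = F.f u9 * x := by rw [hth]
  obtain ⟨y, hy⟩ : x ∈ F.f.range := by
    rcases hx with e | e
    · exact F.mem_of_pair F.centralizer_V_le 1 (by rw [one_mul, inv_one, mul_one])
        (by rw [one_mul, inv_one, mul_one])
        (by rw [hxt, mul_inv_cancel_right]) (by rw [e, mul_inv_cancel_right])
    · exact F.mem_of_pair F.centralizer_V_le k9 hku hkv
        (by rw [hxt, mul_inv_cancel_right]) (by rw [e, mul_inv_cancel_right])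
  have hvconj : IsConj (F.f u9) (F.f v9) :=
    isConj_iff.2 ⟨F.f c9, by rw [← map_inv, ← map_mul, ← map_mul, hc]⟩
  have huvconj : IsConj (F.f u9) (F.f (u9 * v9)) :=
    isConj_iff.2 ⟨F.f (c9 * c9), by rw [← map_inv, ← map_mul, ← map_mul, hcc]⟩
  obtain ⟨k, hk⟩ := F.exists_conj_u (x := y) (hvconj.trans (isConj_iff.2 ⟨h, by rw [hy]⟩))
  have hyu : y * u9 = u9 * y := F.comm_iff.1 (by rw [hy]; exact hxt)
  obtain ⟨l, hl⟩ := F.exists_conj_u (x := y * u9) (huvconj.trans (isConj_iff.2 ⟨h, by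
    rw [map_mul F.f y, hy, huv, map_mul]
    calc h * (F.f v9 * F.f u9) * h⁻¹ = h * F.f v9 * h⁻¹ * (h * F.f u9 * h⁻¹) := by group
      _ = x * F.f u9 := by rw [hth]⟩))
  rcases cent_u_cases hyu hk hl with e | e | ⟨c, hcu, hcv⟩
  · exact Or.inl (by rw [← hy, e])
  · exact Or.inr (by rw [← hy, e])
  exfalso
  obtain ⟨-, -, -, -, -, -, -, -, -, f5, f1, fu, fv⟩ := core_facts
  set g := (F.f c)⁻¹ * h with hgdef
  have hgu : g * F.f u9 * g⁻¹ = F.f u9 := by
    calc g * F.f u9 * g⁻¹ = (F.f c)⁻¹ * (h * F.f u9 * h⁻¹) * F.f c := by rw [hgdef]; group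
      _ = F.f u9 := by
        rw [hth, ← map_inv, ← map_mul, ← map_mul, inv_conj hcu]
  have hgv : g * F.f v9 * g⁻¹ = F.f v9' := by
    calc g * F.f v9 * g⁻¹ = (F.f c)⁻¹ * (h * F.f v9 * h⁻¹) * F.f c := by rw [hgdef]; group
      _ = F.f v9' := by
        rw [← hxdef, ← hy, ← map_inv, ← map_mul, ← map_mul, inv_conj hcv]
  set z := g * F.f f9 * g⁻¹ with hz
  have hzc : ∀ {a b : G}, F.f f9 * a = a * F.f f9 → g * a * g⁻¹ = b → b * z = z * b := by
    rintro a _ ha rfl
    calc g * a * g⁻¹ * z = g * (a * F.f f9) * g⁻¹ := by rw [hz]; group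
      _ = g * (F.f f9 * a) * g⁻¹ := by rw [ha]
      _ = z * (g * a * g⁻¹) := by rw [hz]; group
  have hzu := hzc (F.comm_iff.2 fu) hgu
  have hzv := hzc (F.comm_iff.2 fv) hgv
  obtain ⟨t, ht⟩ : z ∈ F.f.range := F.centralizer_V'_le (by
    rw [mem_centralizer_iff]
    rintro w (rfl | rfl)
    exacts [hzu, hzv])
  have ht5 : t ^ 5 = 1 := F.injective (by
    rw [map_pow, ht, hz, conj_pow, ← map_pow, f5, map_one]; group)
  have := five_v' ht5 (F.comm_iff.1 (by rw [ht]; exact hzu.symm)) (F.comm_iff.1 (by rw [ht]; exact hzv.symm))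
  rw [this, map_one, hz, eq_comm, conj_eq_one_iff, ← map_one F.f] at ht
  exact f1 (F.injective ht)

/-- The odd core of `C(u)`. -/
def OU : Subgroup G :=
  (Cfsg.pPrimeCore 2 (centralizer ({F.f u9} : Set G))).map
    (centralizer ({F.f u9} : Set G)).subtype

theorem OU_le : F.OU ≤ centralizer ({F.f u9} : Set G) := map_subtype_le _

theorem OU_conj {h : G} (hh : h * F.f u9 = F.f u9 * h) {x : G} (hx : x ∈ F.OU) :
    h * x * h⁻¹ ∈ F.OU := by
  obtain ⟨⟨x, hx'⟩, hxO, rfl⟩ := hx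
  exact ⟨_, (inferInstance : (Cfsg.pPrimeCore 2 (centralizer ({F.f u9} : Set G))).Normal).conj_mem _
    hxO ⟨h, mem_centralizer_singleton_iff.2 hh⟩, rfl⟩

theorem OU_odd : ¬ 2 ∣ Nat.card F.OU := by
  haveI : Fact (Nat.Prime 2) := ⟨Nat.prime_two⟩
  rw [OU, card_map_of_injective (subtype_injective _)]
  exact CfsgLib.PCore.not_dvd_card_pPrimeCore

theorem OU_odd_preimage {y : alternatingGroup (Fin 9)} (hy : F.f y ∈ F.OU) :
    Odd (orderOf (y : Perm (Fin 9))) ∧ y * u9 = u9 * y := by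
  refine ⟨?_, F.comm_iff.1 (mem_centralizer_singleton_iff.1 (F.OU_le hy))⟩
  rw [← Nat.not_even_iff_odd, even_iff_two_dvd, Subgroup.orderOf_coe,
    ← orderOf_injective F.f F.injective]
  exact fun h => F.OU_odd (h.trans (F.OU.orderOf_dvd_natCard hy))

/-- The odd core meets the centralizer of `v` trivially. -/
theorem OU_inf_V {x : G} (hx : x ∈ F.OU) (hv : x * F.f v9 = F.f v9 * x) : x = 1 := by
  obtain ⟨y, rfl⟩ := F.centralizer_V_le (show x ∈ centralizer ({F.f u9, F.f v9} : Set G) by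
    rw [mem_centralizer_iff]
    rintro z (rfl | rfl)
    exacts [(mem_centralizer_singleton_iff.1 (F.OU_le hx)).symm, hv.symm])
  obtain ⟨ho, hyu⟩ := F.OU_odd_preimage hx
  haveI : IsSimpleGroup (alternatingGroup P5) := alternatingGroup.isSimpleGroup card_P5.ge
  haveI : Nontrivial P5 := Finite.one_lt_card_iff_nontrivial.1 (by rw [card_P5]; norm_num)
  let ι : alternatingGroup P5 →* alternatingGroup (Fin 9) :=
    (Perm.ofSubtype.comp (alternatingGroup P5).subtype).codRestrict _ fun p =>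
      Perm.mem_alternatingGroup.2 ((Perm.sign_ofSubtype _).trans (Perm.mem_alternatingGroup.1 p.2))
  have hι : Function.Injective ι := fun p q h =>
    Subtype.ext (Perm.ofSubtype_injective (congrArg Subtype.val h))
  have hcomm : ∀ (p : alternatingGroup P5), ι p * u9 = u9 * ι p := fun p => by
    refine Subtype.ext (Perm.Disjoint.commute ?_).eq
    intro i
    by_cases hi : i ∈ ({2, 3, 4, 5} : Finset (Fin 9))
    · exact Or.inl (Perm.ofSubtype_apply_of_not_mem _ (not_not.2 hi))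
    · exact Or.inr (not_not.1 fun h => hi ((u_set i).1 h))
  set O' : Subgroup (alternatingGroup P5) := (F.OU.comap F.f).comap ι with hO'
  haveI : O'.Normal := ⟨fun n hn p => by
    show F.f (ι (p * n * p⁻¹)) ∈ F.OU
    rw [map_mul, map_mul, map_mul, map_mul, map_inv, map_inv]
    exact F.OU_conj (F.comm_iff.2 (hcomm p)) hn⟩
  have hO'bot : O' = ⊥ := by
    refine (Normal.eq_bot_or_eq_top (H := O') inferInstance).resolve_right fun htop => ?_
    haveI : Fact (Nat.Prime 2) := ⟨Nat.prime_two⟩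
    have h2 := two_mul_nat_card_alternatingGroup (α := P5)
    rw [Nat.card_perm, card_P5, show (5 : ℕ).factorial = 120 from rfl] at h2
    obtain ⟨p, hp⟩ := exists_prime_orderOf_dvd_card' (G := alternatingGroup P5) 2 (by omega)
    have hpO : F.f (ι p) ∈ F.OU := (htop ▸ mem_top p : p ∈ O')
    refine F.OU_odd (dvd_trans ?_ (F.OU.orderOf_dvd_natCard hpO))
    rw [orderOf_injective F.f F.injective, orderOf_injective ι hι, hp]
  have hfix := fix_u ho (congrArg Subtype.val hyu)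
  have hiff : ∀ i, i ∉ ({2, 3, 4, 5} : Finset (Fin 9)) ↔
      (y : Perm (Fin 9)) i ∉ ({2, 3, 4, 5} : Finset (Fin 9)) := fun i => by
    refine ⟨fun hi h => hi ?_, fun hi h => hi ?_⟩
    · have := (y : Perm (Fin 9)).injective (hfix _ h)
      rwa [← this]
    · rw [hfix i h]; exact h
  set q : Perm P5 := (y : Perm (Fin 9)).subtypePerm (fun i => (hiff i).symm)
  have hq : Perm.ofSubtype q = (y : Perm (Fin 9)) :=
    Perm.ofSubtype_subtypePerm _ fun i hi h => hi (hfix i h)
  have hqs : Perm.sign q = 1 := by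
    rw [← Perm.sign_ofSubtype, hq, Perm.mem_alternatingGroup.1 y.2]
  have hιy : ι ⟨q, Perm.mem_alternatingGroup.2 hqs⟩ = y := Subtype.ext hq
  have h1 : (⟨q, Perm.mem_alternatingGroup.2 hqs⟩ : alternatingGroup P5) ∈ O' := by
    show F.f (ι _) ∈ F.OU
    rwa [hιy]
  rw [hO'bot, mem_bot] at h1
  rw [← hιy, h1, map_one, map_one]

theorem a9_notMem : F.f a9 ∉ F.OU := fun h => by
  obtain ⟨-, -, hav, ha1, -⟩ := core_facts
  refine ha1 (F.injective ?_)
  rw [map_one]
  exact F.OU_inf_V h (F.comm_iff.2 hav)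

theorem eq_one_of_pow_a9 {y : alternatingGroup (Fin 9)} (hy : F.f y ∈ F.OU) (i : Fin 3)
    (e : y = a9 ^ i.val) : y = 1 := by
  by_contra h
  rcases core_facts.1 i (e ▸ h) with e' | e' <;> rw [← e] at e' <;> rw [e'] at hy
  · exact F.a9_notMem hy
  · refine F.a9_notMem ?_
    have := inv_mem hy
    rwa [map_inv, inv_inv] at this

/-- The odd core meets the centralizer of `v'` trivially. -/
theorem OU_inf_V' {x : G} (hx : x ∈ F.OU) (hv : x * F.f v9' = F.f v9' * x) : x = 1 := by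
  obtain ⟨y, rfl⟩ := F.centralizer_V'_le (show x ∈ centralizer ({F.f u9, F.f v9'} : Set G) by
    rw [mem_centralizer_iff]
    rintro z (rfl | rfl)
    exacts [(mem_centralizer_singleton_iff.1 (F.OU_le hx)).symm, hv.symm])
  obtain ⟨ho, hyu⟩ := F.OU_odd_preimage hx
  obtain ⟨i, e⟩ := eq_pow_a9 y
    (fix_pairs ho (congrArg Subtype.val hyu) (congrArg Subtype.val (F.comm_iff.1 hv)))
  rw [F.eq_one_of_pow_a9 hx i e, map_one]

/-- An involution generating with `u` a conjugate of `<u, v'>` inverts the odd core. -/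
theorem OU_inverted {w k : alternatingGroup (Fin 9)} (hw : w * w = 1) (hwu : w * u9 = u9 * w)
    (hku : k * u9 = u9 * k) (hkw : k * v9' * k⁻¹ = w) {x : G} (hx : x ∈ F.OU) :
    F.f w * x * (F.f w)⁻¹ = x⁻¹ := by
  let σ : F.OU →* F.OU :=
    { toFun := fun z => ⟨F.f w * z * (F.f w)⁻¹, F.OU_conj (F.comm_iff.2 hwu) z.2⟩
      map_one' := Subtype.ext (by simp)
      map_mul' := fun a b => Subtype.ext (by simp [mul_assoc]) }
  have hσ : MonoidHom.FixedPointFree σ := by
    intro z hz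
    have hz' : F.f w * z = (z : G) * F.f w := mul_inv_eq_iff_eq_mul.1 (congrArg Subtype.val hz)
    have hki : (F.f k)⁻¹ * F.f u9 = F.f u9 * (F.f k)⁻¹ :=
      (show Commute (F.f k) (F.f u9) from F.comm_iff.2 hku).inv_left.eq
    have hm : (F.f k)⁻¹ * (z : G) * F.f k ∈ F.OU := by simpa using F.OU_conj hki z.2
    have hc : (F.f k)⁻¹ * (z : G) * F.f k * F.f v9' = F.f v9' * ((F.f k)⁻¹ * (z : G) * F.f k) := by
      have e : F.f w = F.f k * F.f v9' * (F.f k)⁻¹ := by rw [← hkw, map_mul, map_mul, map_inv]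
      rw [e] at hz'
      calc (F.f k)⁻¹ * (z : G) * F.f k * F.f v9'
          = (F.f k)⁻¹ * ((z : G) * (F.f k * F.f v9' * (F.f k)⁻¹)) * F.f k := by group
        _ = _ := by rw [← hz']; group
    have h1 := F.OU_inf_V' hm hc
    refine Subtype.ext ?_
    rw [show (z : G) = F.f k * ((F.f k)⁻¹ * z * F.f k) * (F.f k)⁻¹ by group, h1]
    simp
  have h2 : Function.Involutive σ := fun z => Subtype.ext (by
    show F.f w * (F.f w * (z : G) * (F.f w)⁻¹) * (F.f w)⁻¹ = z
    rw [show F.f w * (F.f w * (z : G) * (F.f w)⁻¹) * (F.f w)⁻¹ =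
      (F.f w * F.f w) * z * (F.f w * F.f w)⁻¹ by group, ← map_mul, hw, map_one]
    group)
  exact congrArg Subtype.val (congrFun (hσ.coe_eq_inv_of_involutive h2) ⟨x, hx⟩)

/-- The odd core is trivial. -/
theorem OU_eq_one {x : G} (hx : x ∈ F.OU) : x = 1 := by
  obtain ⟨-, -, -, -, hprod, w2, w2', wu, wu', -⟩ := core_facts
  have hinv : ∀ {z : G}, z ∈ F.OU → F.f w9 * z * (F.f w9)⁻¹ = z⁻¹ ∧
      F.f w9' * z * (F.f w9')⁻¹ = z⁻¹ := fun hz => by
    have h1 : ∃ k : alternatingGroup (Fin 9), k * u9 = u9 * k ∧ k * v9' * k⁻¹ = w9 :=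
      ⟨End.mk (swap 0 6 * swap 1 7) (by decide +kernel), by decide +kernel, by decide +kernel⟩
    have h2 : ∃ k : alternatingGroup (Fin 9), k * u9 = u9 * k ∧ k * v9' * k⁻¹ = w9' :=
      ⟨End.mk (swap 0 7 * swap 1 8) (by decide +kernel), by decide +kernel, by decide +kernel⟩
    obtain ⟨k, a1, a2⟩ := h1
    obtain ⟨l, b1, b2⟩ := h2
    exact ⟨F.OU_inverted w2 wu a1 a2 hz, F.OU_inverted w2' wu' b1 b2 hz⟩
  have hxa : x * F.f a9 = F.f a9 * x := by
    have h2 : F.f a9 * x * (F.f a9)⁻¹ = x := by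
      rw [← hprod, map_mul, show F.f w9 * F.f w9' * x * (F.f w9 * F.f w9')⁻¹ =
        F.f w9 * (F.f w9' * x * (F.f w9')⁻¹) * (F.f w9)⁻¹ by group, (hinv hx).2,
        (hinv (inv_mem hx)).1, inv_inv]
    exact (mul_inv_eq_iff_eq_mul.1 h2).symm
  obtain ⟨y, rfl⟩ := F.centralizer_a_le (mem_centralizer_singleton_iff.2 hxa)
  obtain ⟨ho, hyu⟩ := F.OU_odd_preimage hx
  obtain ⟨i, e⟩ := cent_u_a ho hyu (F.comm_iff.1 hxa)
  rw [F.eq_one_of_pow_a9 hx i e, map_one]

/-- `C(u)` lies in the image. -/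
theorem centralizer_u_le : centralizer ({F.f u9} : Set G) ≤ F.f.range := by
  haveI : Fact (Nat.Prime 2) := ⟨Nat.prime_two⟩
  obtain ⟨-, -, v2, v1, -, -, huv, -, hvu, -, -, hku, hkv⟩ := End.basic
  intro h hh
  set H := centralizer ({F.f u9} : Set G) with hH
  have mem_H : ∀ {g : G}, g ∈ H ↔ g * F.f u9 = F.f u9 * g := mem_centralizer_singleton_iff
  set t : H := ⟨F.f u9, mem_H.2 rfl⟩
  have hot : orderOf t = 2 := by rw [Subgroup.orderOf_mk, F.orderOf_u]
  have htcen : ∀ x : H, x * t = t * x := fun x => Subtype.ext (mem_H.1 x.2)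
  set Z : Subgroup H := zpowers t
  haveI : Z.Normal := ⟨fun n hn g => by
    obtain ⟨i, rfl⟩ := hn
    have hc : Commute g (t ^ i) := (show Commute g t from htcen g).zpow_right i
    rw [hc.eq, mul_inv_cancel_right]
    exact zpow_mem_zpowers _ _⟩
  have hZ : ∀ {x : H}, x ∈ Z → x = 1 ∨ x = t := by
    intro x hx
    obtain ⟨i, rfl⟩ := hx
    have h2 : t ^ (2 : ℤ) = 1 := by
      rw [show (2 : ℤ) = ((2 : ℕ) : ℤ) from rfl, zpow_natCast, ← hot, pow_orderOf_eq_one]
    show t ^ i = 1 ∨ t ^ i = t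
    rw [zpow_eq_zpow_emod i h2]
    rcases (show i % 2 = 0 ∨ i % 2 = 1 by omega) with e | e <;> rw [e]
    · exact Or.inl (zpow_zero t)
    · exact Or.inr (zpow_one t)
  set v : H := ⟨F.f v9, mem_H.2 (F.comm_iff.2 huv.symm)⟩
  have hvv : v * v = 1 := Subtype.ext (by
    show F.f v9 * F.f v9 = 1
    rw [← map_mul, v2, map_one])
  set u : H ⧸ Z := (v : H ⧸ Z) with hu
  have hu1 : u ≠ 1 := by
    intro e
    rcases hZ ((QuotientGroup.eq_one_iff v).1 e) with e | e
    · exact v1 (F.injective ((congrArg Subtype.val e).trans (map_one F.f).symm))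
    · exact hvu (F.injective (congrArg Subtype.val e))
  have huu : u * u = 1 := by rw [hu, ← QuotientGroup.mk_mul, hvv, QuotientGroup.mk_one]
  have hmod : ∀ {a b : H}, ((a : H ⧸ Z)) = (b : H ⧸ Z) → b = a ∨ b = t * a := by
    intro a b e
    rcases hZ (QuotientGroup.eq.1 e) with e | e
    · exact Or.inl (inv_mul_eq_one.1 e).symm
    · right; rw [← htcen a, ← e, mul_inv_cancel_left]
  have htv' : ((t * v : H) : G) = F.f (u9 * v9) := (map_mul F.f _ _).symm
  have hiso : Cfsg.IsIsolatedInvolution u := by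
    refine ⟨orderOf_eq_prime (by rw [pow_two, huu]) hu1, fun q hq => ?_⟩
    obtain ⟨⟨g, hg⟩, rfl⟩ := QuotientGroup.mk_surjective q
    set x : H := ⟨g, hg⟩ * v * (⟨g, hg⟩ : H)⁻¹ with hxd
    have hq' : ((v * x : H) : H ⧸ Z) = ((x * v : H) : H ⧸ Z) := by
      simp only [hxd, QuotientGroup.mk_mul, QuotientGroup.mk_inv, ← hu]
      exact hq.eq
    have hcases : g * F.f v9 * g⁻¹ = F.f v9 ∨ g * F.f v9 * g⁻¹ = F.f (u9 * v9) := by
      refine F.vee_isolated (mem_H.1 hg) ?_
      rcases hmod hq' with e | e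
      · exact Or.inl (congrArg Subtype.val e)
      · right
        have h2 := congrArg Subtype.val (e.trans (mul_assoc t v x).symm)
        rw [← htv']
        exact h2
    show ((x : H) : H ⧸ Z) = (v : H ⧸ Z)
    rcases hcases with e | e
    · exact congrArg _ (Subtype.ext e)
    · rw [show x = t * v from Subtype.ext (e.trans htv'.symm), QuotientGroup.mk_mul,
        show ((t : H) : H ⧸ Z) = 1 from (QuotientGroup.eq_one_iff t).2 (mem_zpowers t), one_mul]
  have hz := CfsgLib.Involutions.zstar (H ⧸ Z) u hiso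
  set N := Cfsg.pPrimeCore 2 (H ⧸ Z)
  haveI : N.Normal := inferInstance
  set h' : H := ⟨h, hh⟩
  obtain ⟨q, hqu, hqN⟩ := CfsgLib.Involutions.Isolated.quotient_centralizer hiso N
    (g := (h' : H ⧸ Z)) (by
      have := hz (h' : H ⧸ Z)
      rwa [inv_eq_of_mul_eq_one_right huu] at this)
  obtain ⟨c, rfl⟩ := QuotientGroup.mk_surjective q
  have hcU : (c : G) * F.f u9 * (c : G)⁻¹ = F.f u9 := by
    rw [mem_H.1 c.2, mul_inv_cancel_right]
  have hcK : (c : G) ∈ F.f.range := by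
    have hq' : ((v * c : H) : H ⧸ Z) = ((c * v : H) : H ⧸ Z) := by
      simp only [QuotientGroup.mk_mul]; exact hqu.eq.symm
    rcases hmod hq' with e | e
    · refine F.mem_of_pair F.centralizer_V_le 1 (by rw [one_mul, inv_one, mul_one])
        (by rw [one_mul, inv_one, mul_one]) hcU ?_
      rw [show (c : G) * F.f v9 = F.f v9 * c from congrArg Subtype.val e, mul_inv_cancel_right]
    · refine F.mem_of_pair F.centralizer_V_le k9 hku hkv hcU ?_
      have e' : (c : G) * F.f v9 = F.f (u9 * v9) * c := by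
        rw [← htv']
        exact congrArg Subtype.val (e.trans (mul_assoc t v c).symm)
      rw [e', mul_inv_cancel_right]
  -- the preimage of the core is generated by `t` and a subgroup of odd order, which is trivial
  set N₁ : Subgroup H := N.comap (QuotientGroup.mk' Z)
  have hw : h' * c⁻¹ ∈ N₁ := by
    show ((h' * c⁻¹ : H) : H ⧸ Z) ∈ N
    have e : ((h' * c⁻¹ : H) : H ⧸ Z) =
        (c : H ⧸ Z) * ((h' : H ⧸ Z)⁻¹ * (c : H ⧸ Z))⁻¹ * (c : H ⧸ Z)⁻¹ := by
      rw [QuotientGroup.mk_mul, QuotientGroup.mk_inv]; group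
    rw [e]
    exact (inferInstance : N.Normal).conj_mem _ (inv_mem hqN) _
  have hNodd : ¬ 2 ∣ Nat.card N := CfsgLib.PCore.not_dvd_card_pPrimeCore
  have hcardN₁ : Nat.card N₁ = 2 * Nat.card N := by
    rw [CfsgLib.PCore.card_comap_mk', Nat.card_zpowers, hot]
  set tN : N₁ := ⟨t, by
    show ((t : H) : H ⧸ Z) ∈ N
    rw [(QuotientGroup.eq_one_iff t).2 (mem_zpowers t)]
    exact one_mem _⟩
  have hfac : (Nat.card N₁).factorization 2 = 1 := by
    rw [hcardN₁, Nat.factorization_mul (by norm_num) Nat.card_pos.ne', Finsupp.add_apply,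
      Nat.prime_two.factorization_self, Nat.factorization_eq_zero_of_not_dvd hNodd]
  let P : Sylow 2 N₁ := Sylow.ofCard (zpowers tN)
    (by rw [hfac, Nat.card_zpowers, Subgroup.orderOf_mk, hot, pow_one])
  obtain ⟨Q, M, hM, hc⟩ := CfsgLib.Transfer.hasNormalPComplement_of_normalizer_le P fun g _ => by
    refine mem_centralizer_iff.2 ?_
    rintro _ ⟨i, rfl⟩
    exact ((show Commute g tN from Subtype.ext (htcen g)).zpow_right i).symm.eq
  haveI := hM
  have hM2 : ¬ 2 ∣ Nat.card M := (CfsgLib.Transfer.eq_pResidual_of_isComplement' Q M hc).2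
  have hMidx : M.index = 2 := by
    rw [hc.symm.index_eq_card, Q.card_eq_multiplicity, hfac, pow_one]
  have hodd : ∀ x : N₁, x ∈ M ↔ ¬ 2 ∣ orderOf x := by
    intro x
    refine ⟨fun hx h2 => hM2 (h2.trans (M.orderOf_dvd_natCard hx)), fun hx => ?_⟩
    rw [← QuotientGroup.eq_one_iff, ← orderOf_eq_one_iff]
    rcases (Nat.dvd_prime Nat.prime_two).1
      (show orderOf (x : N₁ ⧸ M) ∣ 2 from hMidx ▸ orderOf_dvd_natCard _) with e | e
    · exact e
    · exact absurd (e ▸ orderOf_map_dvd (QuotientGroup.mk' M) x) hx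
  have hM1 : ∀ x ∈ M, x = 1 := by
    intro x hx
    have hN₁n : N₁.Normal := inferInstance
    have hMn : (M.map N₁.subtype).Normal := ⟨by
      rintro _ ⟨y, hy, rfl⟩ g
      refine ⟨⟨g * y * g⁻¹, hN₁n.conj_mem _ y.2 g⟩, (hodd _).2 ?_, rfl⟩
      rw [Subgroup.orderOf_mk, ← MulAut.conj_apply, MulEquiv.orderOf_eq, Subgroup.orderOf_coe]
      exact (hodd y).1 hy⟩
    have h1 := F.OU_eq_one (x := (((x : N₁) : H) : G)) ⟨x, CfsgLib.PCore.le_pPrimeCore_of_not_dvd
      hMn (by rwa [card_map_of_injective (subtype_injective _)]) ⟨x, hx, rfl⟩, rfl⟩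
    exact Subtype.ext (Subtype.ext h1)
  set w : N₁ := ⟨h' * c⁻¹, hw⟩
  have htM : tN ∉ M := fun hm => (hodd tN).1 hm (dvd_of_eq (by rw [Subgroup.orderOf_mk, hot]))
  by_cases hwM : w ∈ M
  · have e : h * (c : G)⁻¹ = 1 := congrArg (fun z : N₁ => ((z : H) : G)) (hM1 w hwM)
    rwa [show h = (c : G) from mul_inv_eq_one.1 e]
  · have hwt : w * tN ∈ M := (Subgroup.mul_mem_iff_of_index_two hMidx).2 (iff_of_false hwM htM)
    have e : h * (c : G)⁻¹ * F.f u9 = 1 := congrArg (fun z : N₁ => ((z : H) : G)) (hM1 _ hwt)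
    rw [show h = (F.f u9)⁻¹ * (c : G) by rw [inv_eq_of_mul_eq_one_left e]; group]
    exact mul_mem (inv_mem ⟨_, rfl⟩) hcK

/-- An element conjugating a conjugate of `u` into the image lies in the image. -/
theorem mem_of_conj_u {w c : alternatingGroup (Fin 9)} (hc : c * u9 * c⁻¹ = w) {y : G}
    (h : y * F.f w * y⁻¹ ∈ F.f.range) : y ∈ F.f.range := by
  obtain ⟨p, hp⟩ := h
  have hy : y * F.f c * F.f u9 * (y * F.f c)⁻¹ = F.f p := by
    rw [hp, ← hc, map_mul, map_mul, map_inv]; group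
  obtain ⟨k, hk⟩ := F.exists_conj_u (isConj_iff.2 ⟨_, hy⟩)
  have hm : (F.f k)⁻¹ * (y * F.f c) ∈ centralizer ({F.f u9} : Set G) := by
    rw [mem_centralizer_singleton_iff]
    calc (F.f k)⁻¹ * (y * F.f c) * F.f u9
        = (F.f k)⁻¹ * (y * F.f c * F.f u9 * (y * F.f c)⁻¹) * (y * F.f c) := by group
      _ = F.f u9 * ((F.f k)⁻¹ * (y * F.f c)) := by rw [hy, ← hk, map_mul, map_mul, map_inv]; group
  rw [show y = F.f k * ((F.f k)⁻¹ * (y * F.f c)) * (F.f c)⁻¹ by group]
  exact mul_mem (mul_mem ⟨_, rfl⟩ (F.centralizer_u_le hm)) (inv_mem ⟨_, rfl⟩)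

end Frame9

end CfsgLib.AltNine
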