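import Cfsg.Agent.Lib.Recognition.AltNine.Gram
import Mathlib.Data.Complex.Basic
import Mathlib.Tactic.FinCases
import Mathlib.Tactic.Linarith
import Mathlib.Tactic.NormNum

/-!
The sign patterns of nine induced characters of `3³ : S₄` with a given Gram matrix.
-/

set_option autoImplicit false

namespace CfsgLib.AltNine.Gram

/-- The Gram matrix of the non-principal parts. -/
def gp : Fin 9 → Fin 9 → ℤ :=
  ![![3,-1,-1,0,-1,1,-1,1,1],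
    ![-1,3,1,-1,-1,-1,1,-1,1],
    ![-1,1,2,0,0,0,1,0,0],
    ![0,-1,0,2,1,1,0,1,0],
    ![-1,-1,0,1,3,0,0,1,-1],
    ![1,-1,0,1,0,3,0,1,1],
    ![-1,1,1,0,0,0,3,1,1],
    ![1,-1,0,1,1,1,1,4,1],
    ![1,1,0,0,-1,1,1,1,4]]

/-- The principal parts. -/
def pp : Fin 9 → ℤ := ![0,0,0,0,1,1,1,0,0]

/-- States after 1 rows. -/
def st1 : List (List (List ℤ)) :=
  [[[1],[1],[1]]]

/-- States after 2 rows. -/
def st2 : List (List (List ℤ)) :=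
  [[[-1,1],[0,1],[0,1],[1,0],[1,0]],
    [[-1,1],[-1,1],[1,1]]]

/-- States after 3 rows. -/
def st3 : List (List (List ℤ)) :=
  [[[-1,-1,1],[0,0,1],[0,0,1],[0,1,0],[0,1,0],[1,0,0]],
    [[-1,0,1],[0,-1,1],[0,0,1],[0,1,0],[1,1,0]],
    [[-1,-1,1],[0,-1,1],[0,1,1],[1,0,0]]]

/-- States after 4 rows. -/
def st4 : List (List (List ℤ)) :=
  [[[-1,0,1,0],[0,-1,-1,1],[0,0,0,1],[0,0,0,1],[0,0,1,0],[0,1,0,0],[1,0,0,0]],
    [[-1,0,1,0],[0,-1,0,1],[0,0,-1,1],[0,0,0,1],[0,1,1,0],[1,0,0,0]],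
    [[-1,0,0,1],[0,-1,0,1],[0,0,1,0],[0,1,1,0],[1,0,-1,1]]]

/-- States after 5 rows. -/
def st5 : List (List (List ℤ)) :=
  [[[-1,-1,0,1,0],[-1,0,0,0,1],[0,0,-1,-1,1],[0,0,0,0,1],[0,0,0,1,0],[0,0,1,0,0],[0,1,0,0,0],[1,0,0,0,0]],
    [[-1,0,0,0,1],[-1,0,0,1,0],[0,-1,0,1,0],[0,0,-1,-1,1],[0,0,0,0,1],[0,0,1,0,0],[1,1,0,0,0]],
    [[-1,-1,0,1,0],[-1,0,0,0,1],[0,0,-1,0,1],[0,0,0,-1,1],[0,0,1,1,0],[0,1,0,0,0],[1,0,0,0,0]],
    [[-1,0,-1,0,1],[-1,0,1,1,0],[0,-1,0,1,0],[0,0,0,-1,1],[0,0,0,0,1],[1,1,0,0,0]],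
    [[-1,-1,0,0,1],[-1,0,0,1,0],[0,0,-1,0,1],[0,0,1,1,0],[0,1,0,-1,1],[1,0,0,0,0]]]

/-- States after 6 rows. -/
def st6 : List (List (List ℤ)) :=
  [[[-1,-1,-1,0,1,0],[-1,1,0,0,0,0],[0,-1,0,0,0,1],[0,0,0,-1,-1,1],[0,0,0,0,1,0],[0,0,0,1,0,0],[0,0,1,0,0,0],[1,0,0,0,0,1]],
    [[-1,-1,-1,0,1,0],[0,0,0,-1,-1,1],[0,0,0,0,0,1],[0,0,0,0,1,0],[0,0,0,1,0,0],[0,0,1,0,0,0],[0,1,0,0,0,0],[1,-1,0,0,0,1],[1,0,0,0,0,0]],
    [[-1,0,0,0,1,0],[0,-1,-1,0,1,0],[0,-1,0,0,0,1],[0,0,0,-1,-1,1],[0,0,0,1,0,0],[0,1,0,0,0,0],[1,0,0,0,0,1],[1,0,1,0,0,0]],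
    [[0,-1,-1,0,1,0],[0,-1,0,0,0,1],[0,0,0,0,0,1],[0,0,0,0,1,0],[0,1,0,0,0,0],[1,0,0,-1,-1,1],[1,0,0,1,0,0],[1,0,1,0,0,0]],
    [[-1,0,-1,0,1,0],[0,-1,0,0,0,1],[0,-1,0,0,1,0],[0,0,0,-1,-1,1],[0,0,0,1,0,0],[0,1,1,0,0,0],[1,0,0,0,0,0],[1,0,0,0,0,1]],
    [[-1,-1,-1,0,1,0],[0,0,0,-1,0,1],[0,0,0,0,-1,1],[0,0,0,1,1,0],[0,0,1,0,0,0],[0,1,0,0,0,0],[1,-1,0,0,0,1],[1,0,0,0,0,0]],
    [[0,-1,-1,0,1,0],[0,-1,0,0,0,1],[0,0,0,-1,0,1],[0,0,0,1,1,0],[0,1,0,0,0,0],[1,0,0,0,-1,1],[1,0,0,0,0,0],[1,0,1,0,0,0]],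
    [[-1,0,-1,0,1,0],[0,-1,0,-1,0,1],[0,-1,0,1,1,0],[0,0,0,0,-1,1],[0,1,1,0,0,0],[1,0,0,0,0,0],[1,0,0,0,0,1]],
    [[0,-1,-1,0,0,1],[0,-1,0,0,1,0],[0,0,0,-1,0,1],[0,0,0,1,1,0],[0,1,0,0,0,0],[1,0,0,0,0,0],[1,0,0,0,0,0],[1,0,1,0,-1,1]]]

/-- States after 7 rows. -/
def st7 : List (List (List ℤ)) :=
  [[[-1,0,0,0,-1,-1,1],[0,-1,-1,-1,0,1,0],[0,-1,1,0,0,0,0],[0,0,-1,0,0,0,1],[0,0,0,0,0,1,0],[0,0,0,0,1,0,0],[0,0,0,1,0,0,0],[0,1,0,0,0,0,1],[1,0,0,0,0,0,0],[1,0,0,0,0,0,0]],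
    [[-1,0,0,0,-1,-1,1],[0,-1,-1,-1,0,1,0],[0,0,0,0,0,0,1],[0,0,0,0,0,1,0],[0,0,0,0,1,0,0],[0,0,0,1,0,0,0],[0,0,1,0,0,0,0],[0,1,-1,0,0,0,1],[0,1,0,0,0,0,0],[1,0,0,0,0,0,0],[1,0,0,0,0,0,0]],
    [[-1,0,0,0,0,0,1],[0,-1,-1,-1,0,1,0],[0,0,0,0,-1,-1,1],[0,0,0,1,0,0,0],[0,0,1,0,0,0,0],[0,1,-1,0,0,0,1],[0,1,0,0,0,0,0],[1,0,0,0,0,1,0],[1,0,0,0,1,0,0]],
    [[-1,0,0,0,-1,-1,1],[0,-1,0,0,0,1,0],[0,0,-1,-1,0,1,0],[0,0,-1,0,0,0,1],[0,0,0,0,1,0,0],[0,0,1,0,0,0,0],[0,1,0,0,0,0,1],[0,1,0,1,0,0,0],[1,0,0,0,0,0,0],[1,0,0,0,0,0,0]],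
    [[-1,0,-1,0,0,0,1],[0,-1,0,-1,0,1,0],[0,0,0,0,-1,-1,1],[0,0,1,1,0,0,0],[0,1,0,0,0,0,0],[0,1,0,0,0,0,1],[1,0,-1,0,0,1,0],[1,0,0,0,1,0,0]],
    [[-1,0,0,0,-1,-1,1],[0,-1,0,-1,0,1,0],[0,0,-1,0,0,0,1],[0,0,-1,0,0,1,0],[0,0,0,0,1,0,0],[0,0,1,1,0,0,0],[0,1,0,0,0,0,0],[0,1,0,0,0,0,1],[1,0,0,0,0,0,0],[1,0,0,0,0,0,0]],
    [[-1,0,-1,0,0,0,1],[-1,0,1,0,0,0,0],[0,0,-1,-1,0,1,0],[0,0,0,0,-1,0,1],[0,1,0,0,0,-1,1],[0,1,0,0,0,0,0],[0,1,0,1,0,0,0],[1,0,0,0,1,1,0]],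
    [[-1,0,0,0,-1,0,1],[0,0,-1,-1,0,0,1],[0,0,0,0,1,1,0],[0,1,0,0,0,0,0],[0,1,0,0,0,0,0],[0,1,0,1,0,-1,1],[1,0,-1,0,0,1,0],[1,0,1,0,0,0,0]]]

/-- States after 8 rows. -/
def st8 : List (List (List ℤ)) :=
  [[[-1,0,-1,-1,-1,0,1,0],[0,-1,0,0,0,-1,-1,1],[0,0,0,0,0,0,1,0],[0,0,0,0,0,1,0,0],[0,0,0,0,1,0,0,0],[0,0,0,1,0,0,0,0],[0,0,1,-1,0,0,0,1],[0,0,1,0,0,0,0,0],[0,1,0,0,0,0,0,0],[1,0,0,0,0,0,0,0],[1,0,0,0,0,0,0,1],[1,1,0,0,0,0,0,0]],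
    [[-1,0,0,-1,-1,0,1,0],[0,-1,0,0,0,-1,-1,1],[0,0,-1,0,0,0,1,0],[0,0,0,-1,0,0,0,1],[0,0,0,0,0,1,0,0],[0,0,0,1,0,0,0,0],[0,0,1,0,1,0,0,0],[0,1,0,0,0,0,0,0],[1,0,0,0,0,0,0,0],[1,0,1,0,0,0,0,1],[1,1,0,0,0,0,0,0]],
    [[0,-1,0,-1,0,0,0,1],[0,0,-1,0,-1,0,1,0],[0,0,1,0,0,0,0,1],[0,1,0,-1,0,0,1,0],[1,0,0,0,0,-1,-1,1],[1,0,0,1,1,0,0,0],[1,0,1,0,0,0,0,0],[1,1,0,0,0,1,0,0]],
    [[0,-1,0,0,0,-1,0,1],[0,0,0,-1,-1,0,0,1],[0,0,0,0,0,1,1,0],[0,0,1,0,0,0,0,0],[0,0,1,0,0,0,0,0],[0,1,0,-1,0,0,1,0],[1,0,0,0,0,0,0,0],[1,0,0,0,0,0,0,0],[1,0,1,0,1,0,-1,1],[1,1,0,1,0,0,0,0]],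
    [[-1,0,1,0,0,0,0,0],[0,-1,0,0,0,-1,0,1],[0,0,0,-1,-1,0,0,1],[0,0,0,0,0,1,1,0],[0,1,0,-1,0,0,1,0],[1,0,1,0,0,0,0,0],[1,0,1,0,1,0,-1,1],[1,1,0,1,0,0,0,0]]]

/-- States after 9 rows. -/
def st9 : List (List (List ℤ)) :=
  [[[-1,0,-1,0,0,0,-1,-1,1],[-1,0,0,0,0,0,1,0,0],[0,-1,0,-1,-1,-1,0,1,0],[0,0,0,0,0,0,0,1,0],[0,0,0,0,0,1,0,0,0],[0,0,0,0,1,0,0,0,0],[0,0,0,1,0,0,0,0,0],[0,0,1,0,0,0,0,0,0],[0,1,0,0,0,0,0,0,0],[0,1,1,0,0,0,0,0,0],[1,0,0,1,-1,0,0,0,1],[1,1,0,0,0,0,0,0,1]],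
    [[0,-1,0,-1,-1,-1,0,1,0],[0,0,-1,0,0,0,-1,-1,1],[0,0,0,0,0,0,1,0,0],[0,0,0,0,0,1,0,0,0],[0,0,0,0,1,0,0,0,0],[0,0,0,1,0,0,0,0,0],[0,0,1,0,0,0,0,0,0],[0,1,0,0,0,0,0,0,0],[0,1,0,0,0,0,0,0,1],[1,0,0,0,0,0,0,0,0],[1,0,0,0,0,0,0,1,0],[1,0,0,1,-1,0,0,0,1],[1,1,1,0,0,0,0,0,0]],
    [[0,-1,0,-1,-1,-1,0,1,0],[0,0,-1,0,0,0,-1,-1,1],[0,0,0,0,0,0,1,0,0],[0,0,0,0,0,1,0,0,0],[0,0,0,0,1,0,0,0,0],[0,0,0,1,0,0,0,0,0],[0,1,0,0,0,0,0,0,1],[0,1,1,0,0,0,0,0,0],[1,0,0,0,0,0,0,1,0],[1,0,0,1,-1,0,0,0,1],[1,0,1,0,0,0,0,0,0],[1,1,0,0,0,0,0,0,0]],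
    [[-1,0,-1,0,0,0,-1,-1,1],[-1,0,0,0,0,0,1,0,0],[0,-1,0,0,-1,-1,0,1,0],[0,0,0,-1,0,0,0,1,0],[0,0,0,0,1,0,0,0,0],[0,0,0,1,0,1,0,0,0],[0,0,1,0,0,0,0,0,0],[0,1,0,0,0,0,0,0,0],[0,1,1,0,0,0,0,0,0],[1,0,0,0,-1,0,0,0,1],[1,1,0,1,0,0,0,0,1]]]

theorem steps : step [] 3 [[]] = st1 ∧
    step [-1] 3 st1 = st2 ∧
    step [1,-1] 2 st2 = st3 ∧
    step [0,-1,0] 2 st3 = st4 ∧
    step [1,0,-1,-1] 3 st4 = st5 ∧
    step [0,1,0,-1,1] 3 st5 = st6 ∧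
    step [0,0,0,1,1,-1] 3 st6 = st7 ∧
    step [1,1,1,1,0,-1,1] 4 st7 = st8 ∧
    step [1,1,1,-1,0,0,1,1] 4 st8 = st9 := by
  decide +kernel

variable {ι : Type*} [Fintype ι]

theorem inv_st9 (m : Fin 9 → ι → ℤ) (hgram : ∀ k l, ∑ i, m k i * m l i = gp k l) :
    Inv [m 8, m 7, m 6, m 5, m 4, m 3, m 2, m 1, m 0] st9 := by
  obtain ⟨h1, h2, h3, h4, h5, h6, h7, h8, h9⟩ := steps
  have st : ∀ {rows : List (ι → ℤ)} {s t : List (List (List ℤ))} (k : Fin 9) (need : List ℤ)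
      (N : ℕ), Inv rows s → N ≤ 4 → gp k k = (N : ℤ) →
      need = rows.map (fun r => ∑ i, m k i * r i) → step need N s = t → Inv (m k :: rows) t := by
    intro rows s t k need N hi hN hg hne hst
    rw [← hst]
    exact inv_step hi (m k) need N hN (by rw [hgram, hg]) hne
  have e (k l : Fin 9) : (∑ i, m k i * m l i) = gp k l := hgram k l
  refine st 8 _ 4 ?_ le_rfl rfl ?_ h9
  · refine st 7 _ 4 ?_ le_rfl rfl ?_ h8
    · refine st 6 _ 3 ?_ (by norm_num) rfl ?_ h7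
      · refine st 5 _ 3 ?_ (by norm_num) rfl ?_ h6
        · refine st 4 _ 3 ?_ (by norm_num) rfl ?_ h5
          · refine st 3 _ 2 ?_ (by norm_num) rfl ?_ h4
            · refine st 2 _ 2 ?_ (by norm_num) rfl ?_ h3
              · refine st 1 _ 3 ?_ (by norm_num) rfl ?_ h2
                · exact st 0 _ 3 inv_nil (by norm_num) rfl rfl h1
                · simp only [List.map_cons, List.map_nil, e]; rfl
              · simp only [List.map_cons, List.map_nil, e]; rfl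
            · simp only [List.map_cons, List.map_nil, e]; rfl
          · simp only [List.map_cons, List.map_nil, e]; rfl
        · simp only [List.map_cons, List.map_nil, e]; rfl
      · simp only [List.map_cons, List.map_nil, e]; rfl
    · simp only [List.map_cons, List.map_nil, e]; rfl
  · simp only [List.map_cons, List.map_nil, e]; rfl

/-- The first four rows are `X + Y - Θ`, `Θ + X' - Γ`, `1 - X + Γ + A`, `1 + X + Γ + B` for signed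
coordinates. -/
theorem pattern (m : Fin 9 → ι → ℤ) (hgram : ∀ k l, ∑ i, m k i * m l i = gp k l) (d : ι → ℤ)
    (hd : ∀ i, d i ≠ 0) (hdeg : ∀ k, pp k + ∑ i, m k i * d i = 0) :
    ∃ (c : Fin 7 → ι) (e : Fin 7 → ℤ), (∀ t, e t * e t = 1) ∧ ∀ g : ι → ℂ,
      ∑ i, (m 0 i : ℂ) * g i = e 0 * g (c 0) + e 1 * g (c 1) - e 2 * g (c 2) ∧
      ∑ i, (m 1 i : ℂ) * g i = e 2 * g (c 2) + e 3 * g (c 3) - e 4 * g (c 4) ∧
      ∑ i, (m 4 i : ℂ) * g i = -(e 0 * g (c 0)) + e 4 * g (c 4) + e 5 * g (c 5) ∧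
      ∑ i, (m 5 i : ℂ) * g i = e 0 * g (c 0) + e 4 * g (c 4) + e 6 * g (c 6) := by
  classical
  obtain ⟨s, hs, f, ε, hf, hε, hfs, hout⟩ := inv_st9 m hgram
  let rows : List (ι → ℤ) := [m 8, m 7, m 6, m 5, m 4, m 3, m 2, m 1, m 0]
  have hmem : ∀ k, m k ∈ rows := fun k => by fin_cases k <;> simp [rows]
  have hsum : ∀ (k : Fin 9) (g : ι → ℂ),
      ∑ i, (m k i : ℂ) * g i = (f.map fun i => (m k i : ℂ) * g i).sum := fun k g => by
    rw [← List.sum_toFinset _ hf]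
    refine (Finset.sum_subset (Finset.subset_univ _) fun i _ hi => ?_).symm
    rw [hout i (fun h => hi (List.mem_toFinset.2 h)) _ (hmem k), Int.cast_zero, zero_mul]
  have hsumd : ∀ k : Fin 9, ∑ i, m k i * d i = (f.map fun i => m k i * d i).sum := fun k => by
    rw [← List.sum_toFinset _ hf]
    refine (Finset.sum_subset (Finset.subset_univ _) fun i _ hi => ?_).symm
    rw [hout i (fun h => hi (List.mem_toFinset.2 h)) _ (hmem k), zero_mul]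
  have val : ∀ {i : ι} {x c : ℤ}, ε i * x = c → x = ε i * c := fun {i x c} h => by
    rw [← h, ← mul_assoc, hε, one_mul]
  simp only [st9, List.mem_cons, List.not_mem_nil, or_false] at hs
  rcases hs with rfl | rfl | rfl | rfl
  · -- leaf 0
    obtain ⟨i0, f, rfl, h0, hfs⟩ := List.map_eq_cons_iff.1 hfs
    obtain ⟨i1, f, rfl, h1, hfs⟩ := List.map_eq_cons_iff.1 hfs
    obtain ⟨i2, f, rfl, h2, hfs⟩ := List.map_eq_cons_iff.1 hfs
    obtain ⟨i3, f, rfl, h3, hfs⟩ := List.map_eq_cons_iff.1 hfs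
    obtain ⟨i4, f, rfl, h4, hfs⟩ := List.map_eq_cons_iff.1 hfs
    obtain ⟨i5, f, rfl, h5, hfs⟩ := List.map_eq_cons_iff.1 hfs
    obtain ⟨i6, f, rfl, h6, hfs⟩ := List.map_eq_cons_iff.1 hfs
    obtain ⟨i7, f, rfl, h7, hfs⟩ := List.map_eq_cons_iff.1 hfs
    obtain ⟨i8, f, rfl, h8, hfs⟩ := List.map_eq_cons_iff.1 hfs
    obtain ⟨i9, f, rfl, h9, hfs⟩ := List.map_eq_cons_iff.1 hfs
    obtain ⟨i10, f, rfl, h10, hfs⟩ := List.map_eq_cons_iff.1 hfs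
    obtain ⟨i11, f, rfl, h11, hfs⟩ := List.map_eq_cons_iff.1 hfs
    rw [List.map_eq_nil_iff] at hfs; subst hfs
    simp only [List.map_cons, List.map_nil, List.cons.injEq, and_true] at h0
    obtain ⟨a0_8, -, -, -, -, -, a0_2, -, a0_0⟩ := h0
    simp only [List.map_cons, List.map_nil, List.cons.injEq, and_true] at h1
    obtain ⟨a1_8, -, -, -, -, -, a1_2, -, a1_0⟩ := h1
    simp only [List.map_cons, List.map_nil, List.cons.injEq, and_true] at h2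
    obtain ⟨a2_8, -, -, -, -, -, a2_2, -, a2_0⟩ := h2
    simp only [List.map_cons, List.map_nil, List.cons.injEq, and_true] at h3
    obtain ⟨a3_8, -, -, -, -, -, a3_2, -, a3_0⟩ := h3
    simp only [List.map_cons, List.map_nil, List.cons.injEq, and_true] at h4
    obtain ⟨a4_8, -, -, -, -, -, a4_2, -, a4_0⟩ := h4
    simp only [List.map_cons, List.map_nil, List.cons.injEq, and_true] at h5
    obtain ⟨a5_8, -, -, -, -, -, a5_2, -, a5_0⟩ := h5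
    simp only [List.map_cons, List.map_nil, List.cons.injEq, and_true] at h6
    obtain ⟨a6_8, -, -, -, -, -, a6_2, -, a6_0⟩ := h6
    simp only [List.map_cons, List.map_nil, List.cons.injEq, and_true] at h7
    obtain ⟨a7_8, -, -, -, -, -, a7_2, -, a7_0⟩ := h7
    simp only [List.map_cons, List.map_nil, List.cons.injEq, and_true] at h8
    obtain ⟨a8_8, -, -, -, -, -, a8_2, -, a8_0⟩ := h8
    simp only [List.map_cons, List.map_nil, List.cons.injEq, and_true] at h9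
    obtain ⟨a9_8, -, -, -, -, -, a9_2, -, a9_0⟩ := h9
    simp only [List.map_cons, List.map_nil, List.cons.injEq, and_true] at h10
    obtain ⟨a10_8, -, -, -, -, -, a10_2, -, a10_0⟩ := h10
    simp only [List.map_cons, List.map_nil, List.cons.injEq, and_true] at h11
    obtain ⟨a11_8, -, -, -, -, -, a11_2, -, a11_0⟩ := h11
    have q0 := hdeg 0
    rw [hsumd 0] at q0
    simp only [List.map_cons, List.map_nil, List.sum_cons, List.sum_nil, val a0_0, val a1_0, val a2_0, val a3_0, val a4_0, val a5_0, val a6_0, val a7_0, val a8_0, val a9_0, val a10_0, val a11_0] at q0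
    rw [show pp 0 = 0 from rfl] at q0
    norm_num at q0
    have q2 := hdeg 2
    rw [hsumd 2] at q2
    simp only [List.map_cons, List.map_nil, List.sum_cons, List.sum_nil, val a0_2, val a1_2, val a2_2, val a3_2, val a4_2, val a5_2, val a6_2, val a7_2, val a8_2, val a9_2, val a10_2, val a11_2] at q2
    rw [show pp 2 = 0 from rfl] at q2
    norm_num at q2
    have q8 := hdeg 8
    rw [hsumd 8] at q8
    simp only [List.map_cons, List.map_nil, List.sum_cons, List.sum_nil, val a0_8, val a1_8, val a2_8, val a3_8, val a4_8, val a5_8, val a6_8, val a7_8, val a8_8, val a9_8, val a10_8, val a11_8] at q8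
    rw [show pp 8 = 0 from rfl] at q8
    norm_num at q8
    have q : ε i0 * d i0 = 0 := by linarith
    exact absurd q (mul_ne_zero (left_ne_zero_of_mul_eq_one (hε _)) (hd _))
  · -- leaf 1
    obtain ⟨i0, f, rfl, h0, hfs⟩ := List.map_eq_cons_iff.1 hfs
    obtain ⟨i1, f, rfl, h1, hfs⟩ := List.map_eq_cons_iff.1 hfs
    obtain ⟨i2, f, rfl, h2, hfs⟩ := List.map_eq_cons_iff.1 hfs
    obtain ⟨i3, f, rfl, h3, hfs⟩ := List.map_eq_cons_iff.1 hfs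
    obtain ⟨i4, f, rfl, h4, hfs⟩ := List.map_eq_cons_iff.1 hfs
    obtain ⟨i5, f, rfl, h5, hfs⟩ := List.map_eq_cons_iff.1 hfs
    obtain ⟨i6, f, rfl, h6, hfs⟩ := List.map_eq_cons_iff.1 hfs
    obtain ⟨i7, f, rfl, h7, hfs⟩ := List.map_eq_cons_iff.1 hfs
    obtain ⟨i8, f, rfl, h8, hfs⟩ := List.map_eq_cons_iff.1 hfs
    obtain ⟨i9, f, rfl, h9, hfs⟩ := List.map_eq_cons_iff.1 hfs
    obtain ⟨i10, f, rfl, h10, hfs⟩ := List.map_eq_cons_iff.1 hfs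
    obtain ⟨i11, f, rfl, h11, hfs⟩ := List.map_eq_cons_iff.1 hfs
    obtain ⟨i12, f, rfl, h12, hfs⟩ := List.map_eq_cons_iff.1 hfs
    rw [List.map_eq_nil_iff] at hfs; subst hfs
    simp only [List.map_cons, List.map_nil, List.cons.injEq, and_true] at h0
    obtain ⟨-, -, -, a0_5, a0_4, -, -, a0_1, a0_0⟩ := h0
    simp only [List.map_cons, List.map_nil, List.cons.injEq, and_true] at h1
    obtain ⟨-, -, -, a1_5, a1_4, -, -, a1_1, a1_0⟩ := h1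
    simp only [List.map_cons, List.map_nil, List.cons.injEq, and_true] at h2
    obtain ⟨-, -, -, a2_5, a2_4, -, -, a2_1, a2_0⟩ := h2
    simp only [List.map_cons, List.map_nil, List.cons.injEq, and_true] at h3
    obtain ⟨-, -, -, a3_5, a3_4, -, -, a3_1, a3_0⟩ := h3
    simp only [List.map_cons, List.map_nil, List.cons.injEq, and_true] at h4
    obtain ⟨-, -, -, a4_5, a4_4, -, -, a4_1, a4_0⟩ := h4
    simp only [List.map_cons, List.map_nil, List.cons.injEq, and_true] at h5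
    obtain ⟨-, -, -, a5_5, a5_4, -, -, a5_1, a5_0⟩ := h5
    simp only [List.map_cons, List.map_nil, List.cons.injEq, and_true] at h6
    obtain ⟨-, -, -, a6_5, a6_4, -, -, a6_1, a6_0⟩ := h6
    simp only [List.map_cons, List.map_nil, List.cons.injEq, and_true] at h7
    obtain ⟨-, -, -, a7_5, a7_4, -, -, a7_1, a7_0⟩ := h7
    simp only [List.map_cons, List.map_nil, List.cons.injEq, and_true] at h8
    obtain ⟨-, -, -, a8_5, a8_4, -, -, a8_1, a8_0⟩ := h8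
    simp only [List.map_cons, List.map_nil, List.cons.injEq, and_true] at h9
    obtain ⟨-, -, -, a9_5, a9_4, -, -, a9_1, a9_0⟩ := h9
    simp only [List.map_cons, List.map_nil, List.cons.injEq, and_true] at h10
    obtain ⟨-, -, -, a10_5, a10_4, -, -, a10_1, a10_0⟩ := h10
    simp only [List.map_cons, List.map_nil, List.cons.injEq, and_true] at h11
    obtain ⟨-, -, -, a11_5, a11_4, -, -, a11_1, a11_0⟩ := h11
    simp only [List.map_cons, List.map_nil, List.cons.injEq, and_true] at h12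
    obtain ⟨-, -, -, a12_5, a12_4, -, -, a12_1, a12_0⟩ := h12
    refine ⟨![i11, i8, i1, i10, i0, i4, i5], ![ε i11, ε i8, -ε i1, ε i10, -ε i0, ε i4, ε i5], ?_, fun g => ?_⟩
    · intro t; fin_cases t <;> simp [hε]
    refine ⟨?_, ?_, ?_, ?_⟩ <;> rw [hsum]
    · simp [val a0_0, val a1_0, val a2_0, val a3_0, val a4_0, val a5_0, val a6_0, val a7_0, val a8_0, val a9_0, val a10_0, val a11_0, val a12_0]
      try ring
    · simp [val a0_1, val a1_1, val a2_1, val a3_1, val a4_1, val a5_1, val a6_1, val a7_1, val a8_1, val a9_1, val a10_1, val a11_1, val a12_1]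
      try ring
    · simp [val a0_4, val a1_4, val a2_4, val a3_4, val a4_4, val a5_4, val a6_4, val a7_4, val a8_4, val a9_4, val a10_4, val a11_4, val a12_4]
      try ring
    · simp [val a0_5, val a1_5, val a2_5, val a3_5, val a4_5, val a5_5, val a6_5, val a7_5, val a8_5, val a9_5, val a10_5, val a11_5, val a12_5]
      try ring
  · -- leaf 2
    obtain ⟨i0, f, rfl, h0, hfs⟩ := List.map_eq_cons_iff.1 hfs
    obtain ⟨i1, f, rfl, h1, hfs⟩ := List.map_eq_cons_iff.1 hfs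
    obtain ⟨i2, f, rfl, h2, hfs⟩ := List.map_eq_cons_iff.1 hfs
    obtain ⟨i3, f, rfl, h3, hfs⟩ := List.map_eq_cons_iff.1 hfs
    obtain ⟨i4, f, rfl, h4, hfs⟩ := List.map_eq_cons_iff.1 hfs
    obtain ⟨i5, f, rfl, h5, hfs⟩ := List.map_eq_cons_iff.1 hfs
    obtain ⟨i6, f, rfl, h6, hfs⟩ := List.map_eq_cons_iff.1 hfs
    obtain ⟨i7, f, rfl, h7, hfs⟩ := List.map_eq_cons_iff.1 hfs
    obtain ⟨i8, f, rfl, h8, hfs⟩ := List.map_eq_cons_iff.1 hfs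
    obtain ⟨i9, f, rfl, h9, hfs⟩ := List.map_eq_cons_iff.1 hfs
    obtain ⟨i10, f, rfl, h10, hfs⟩ := List.map_eq_cons_iff.1 hfs
    obtain ⟨i11, f, rfl, h11, hfs⟩ := List.map_eq_cons_iff.1 hfs
    rw [List.map_eq_nil_iff] at hfs; subst hfs
    simp only [List.map_cons, List.map_nil, List.cons.injEq, and_true] at h0
    obtain ⟨-, -, -, a0_5, a0_4, -, -, a0_1, a0_0⟩ := h0
    simp only [List.map_cons, List.map_nil, List.cons.injEq, and_true] at h1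
    obtain ⟨-, -, -, a1_5, a1_4, -, -, a1_1, a1_0⟩ := h1
    simp only [List.map_cons, List.map_nil, List.cons.injEq, and_true] at h2
    obtain ⟨-, -, -, a2_5, a2_4, -, -, a2_1, a2_0⟩ := h2
    simp only [List.map_cons, List.map_nil, List.cons.injEq, and_true] at h3
    obtain ⟨-, -, -, a3_5, a3_4, -, -, a3_1, a3_0⟩ := h3
    simp only [List.map_cons, List.map_nil, List.cons.injEq, and_true] at h4
    obtain ⟨-, -, -, a4_5, a4_4, -, -, a4_1, a4_0⟩ := h4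
    simp only [List.map_cons, List.map_nil, List.cons.injEq, and_true] at h5
    obtain ⟨-, -, -, a5_5, a5_4, -, -, a5_1, a5_0⟩ := h5
    simp only [List.map_cons, List.map_nil, List.cons.injEq, and_true] at h6
    obtain ⟨-, -, -, a6_5, a6_4, -, -, a6_1, a6_0⟩ := h6
    simp only [List.map_cons, List.map_nil, List.cons.injEq, and_true] at h7
    obtain ⟨-, -, -, a7_5, a7_4, -, -, a7_1, a7_0⟩ := h7
    simp only [List.map_cons, List.map_nil, List.cons.injEq, and_true] at h8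
    obtain ⟨-, -, -, a8_5, a8_4, -, -, a8_1, a8_0⟩ := h8
    simp only [List.map_cons, List.map_nil, List.cons.injEq, and_true] at h9
    obtain ⟨-, -, -, a9_5, a9_4, -, -, a9_1, a9_0⟩ := h9
    simp only [List.map_cons, List.map_nil, List.cons.injEq, and_true] at h10
    obtain ⟨-, -, -, a10_5, a10_4, -, -, a10_1, a10_0⟩ := h10
    simp only [List.map_cons, List.map_nil, List.cons.injEq, and_true] at h11
    obtain ⟨-, -, -, a11_5, a11_4, -, -, a11_1, a11_0⟩ := h11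
    refine ⟨![i9, i6, i1, i8, i0, i4, i5], ![ε i9, ε i6, -ε i1, ε i8, -ε i0, ε i4, ε i5], ?_, fun g => ?_⟩
    · intro t; fin_cases t <;> simp [hε]
    refine ⟨?_, ?_, ?_, ?_⟩ <;> rw [hsum]
    · simp [val a0_0, val a1_0, val a2_0, val a3_0, val a4_0, val a5_0, val a6_0, val a7_0, val a8_0, val a9_0, val a10_0, val a11_0]
      try ring
    · simp [val a0_1, val a1_1, val a2_1, val a3_1, val a4_1, val a5_1, val a6_1, val a7_1, val a8_1, val a9_1, val a10_1, val a11_1]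
      try ring
    · simp [val a0_4, val a1_4, val a2_4, val a3_4, val a4_4, val a5_4, val a6_4, val a7_4, val a8_4, val a9_4, val a10_4, val a11_4]
      try ring
    · simp [val a0_5, val a1_5, val a2_5, val a3_5, val a4_5, val a5_5, val a6_5, val a7_5, val a8_5, val a9_5, val a10_5, val a11_5]
      try ring
  · -- leaf 3
    obtain ⟨i0, f, rfl, h0, hfs⟩ := List.map_eq_cons_iff.1 hfs
    obtain ⟨i1, f, rfl, h1, hfs⟩ := List.map_eq_cons_iff.1 hfs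
    obtain ⟨i2, f, rfl, h2, hfs⟩ := List.map_eq_cons_iff.1 hfs
    obtain ⟨i3, f, rfl, h3, hfs⟩ := List.map_eq_cons_iff.1 hfs
    obtain ⟨i4, f, rfl, h4, hfs⟩ := List.map_eq_cons_iff.1 hfs
    obtain ⟨i5, f, rfl, h5, hfs⟩ := List.map_eq_cons_iff.1 hfs
    obtain ⟨i6, f, rfl, h6, hfs⟩ := List.map_eq_cons_iff.1 hfs
    obtain ⟨i7, f, rfl, h7, hfs⟩ := List.map_eq_cons_iff.1 hfs
    obtain ⟨i8, f, rfl, h8, hfs⟩ := List.map_eq_cons_iff.1 hfs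
    obtain ⟨i9, f, rfl, h9, hfs⟩ := List.map_eq_cons_iff.1 hfs
    obtain ⟨i10, f, rfl, h10, hfs⟩ := List.map_eq_cons_iff.1 hfs
    rw [List.map_eq_nil_iff] at hfs; subst hfs
    simp only [List.map_cons, List.map_nil, List.cons.injEq, and_true] at h0
    obtain ⟨a0_8, -, -, -, -, -, a0_2, -, a0_0⟩ := h0
    simp only [List.map_cons, List.map_nil, List.cons.injEq, and_true] at h1
    obtain ⟨a1_8, -, -, -, -, -, a1_2, -, a1_0⟩ := h1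
    simp only [List.map_cons, List.map_nil, List.cons.injEq, and_true] at h2
    obtain ⟨a2_8, -, -, -, -, -, a2_2, -, a2_0⟩ := h2
    simp only [List.map_cons, List.map_nil, List.cons.injEq, and_true] at h3
    obtain ⟨a3_8, -, -, -, -, -, a3_2, -, a3_0⟩ := h3
    simp only [List.map_cons, List.map_nil, List.cons.injEq, and_true] at h4
    obtain ⟨a4_8, -, -, -, -, -, a4_2, -, a4_0⟩ := h4
    simp only [List.map_cons, List.map_nil, List.cons.injEq, and_true] at h5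
    obtain ⟨a5_8, -, -, -, -, -, a5_2, -, a5_0⟩ := h5
    simp only [List.map_cons, List.map_nil, List.cons.injEq, and_true] at h6
    obtain ⟨a6_8, -, -, -, -, -, a6_2, -, a6_0⟩ := h6
    simp only [List.map_cons, List.map_nil, List.cons.injEq, and_true] at h7
    obtain ⟨a7_8, -, -, -, -, -, a7_2, -, a7_0⟩ := h7
    simp only [List.map_cons, List.map_nil, List.cons.injEq, and_true] at h8
    obtain ⟨a8_8, -, -, -, -, -, a8_2, -, a8_0⟩ := h8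
    simp only [List.map_cons, List.map_nil, List.cons.injEq, and_true] at h9
    obtain ⟨a9_8, -, -, -, -, -, a9_2, -, a9_0⟩ := h9
    simp only [List.map_cons, List.map_nil, List.cons.injEq, and_true] at h10
    obtain ⟨a10_8, -, -, -, -, -, a10_2, -, a10_0⟩ := h10
    have q0 := hdeg 0
    rw [hsumd 0] at q0
    simp only [List.map_cons, List.map_nil, List.sum_cons, List.sum_nil, val a0_0, val a1_0, val a2_0, val a3_0, val a4_0, val a5_0, val a6_0, val a7_0, val a8_0, val a9_0, val a10_0] at q0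
    rw [show pp 0 = 0 from rfl] at q0
    norm_num at q0
    have q2 := hdeg 2
    rw [hsumd 2] at q2
    simp only [List.map_cons, List.map_nil, List.sum_cons, List.sum_nil, val a0_2, val a1_2, val a2_2, val a3_2, val a4_2, val a5_2, val a6_2, val a7_2, val a8_2, val a9_2, val a10_2] at q2
    rw [show pp 2 = 0 from rfl] at q2
    norm_num at q2
    have q8 := hdeg 8
    rw [hsumd 8] at q8
    simp only [List.map_cons, List.map_nil, List.sum_cons, List.sum_nil, val a0_8, val a1_8, val a2_8, val a3_8, val a4_8, val a5_8, val a6_8, val a7_8, val a8_8, val a9_8, val a10_8] at q8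
    rw [show pp 8 = 0 from rfl] at q8
    norm_num at q8
    have q : ε i0 * d i0 = 0 := by linarith
    exact absurd q (mul_ne_zero (left_ne_zero_of_mul_eq_one (hε _)) (hd _))

end CfsgLib.AltNine.Gram
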