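import Cfsg.Agent.Lib.Recognition.AltNine.CharSound
import Cfsg.Agent.Lib.Recognition.AltNine.Leaves

/-!
# Gram matrix and involution products of the nine forms
-/

set_option autoImplicit false

namespace CfsgLib.AltNine

open Cfsg CfsgLib.ThreeCubed CfsgLib.ThreeCubedWreath CfsgLib.Characters
open scoped ComplexConjugate

/-- The nine forms. -/
def ft : Fin 9 → Fin 14 → ℤ√3 :=
  ![![0, 3, 6, 9, 0, -3, 0, 0, 0, ⟨0, 1⟩, ⟨0, -1⟩, 0, 0, 0],
    ![0, 9, 0, 0, 0, 3, 0, 0, 0, ⟨0, -1⟩, ⟨0, 1⟩, 0, 0, -3],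
    ![0, 0, 0, 0, 0, 0, 0, 0, 0, ⟨0, -2⟩, ⟨0, 2⟩, 0, 0, 0],
    ![0, 0, 0, 0, 0, 0, 0, 0, 0, 0, 0, 0, -3, 3],
    ![0, -9, 0, 0, 0, 3, 0, 0, 0, 3, 3, 0, 0, 3],
    ![0, 0, 9, 0, 0, 0, 0, 3, 0, 0, 0, 0, 0, 3],
    ![0, 9, 0, 0, 0, 3, 0, 0, 0, ⟨0, -1⟩, ⟨0, 1⟩, 0, 3, 3],
    ![0, 0, 9, 0, 0, 0, 0, -3, 0, 0, 0, 0, 0, 3],
    ![0, 3, 6, 9, 0, 3, 0, 0, 0, -3, -3, 0, 0, 0]]

/-- Their coefficients. -/
def coef : Fin 9 → ℤ × (Fin 13 → ℤ) :=
  ![(0, ![0, 0, 1, 1, 0, -1, 0, 0, 0, 0, 0, 0, 0]),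
    (-1, ![0, 1, 0, 0, 0, 1, 0, 0, 0, 0, 0, -1, 0]),
    (0, ![0, 0, 0, 0, 0, 1, 0, -1, 0, 0, 0, 0, 0]),
    (0, ![0, 0, 0, 0, 0, 0, 0, 0, 0, 0, 0, 1, -1]),
    (1, ![0, 0, 0, -1, -1, 0, 0, 0, 0, 0, 0, 1, 0]),
    (1, ![0, 0, 0, 1, 0, 0, 0, 0, -1, 0, 0, 1, 0]),
    (0, ![1, 0, 0, 0, 0, 1, 0, 0, 0, 0, -1, 0, 0]),
    (-1, ![1, 0, 1, 0, 0, 0, 0, 0, 0, -1, 0, 1, 0]),
    (-2, ![1, 1, 0, 1, 0, 0, -1, 0, 0, 0, 0, 0, 0])]

/-- The class sizes. -/
def cnt : Fin 14 → ℕ := ![1, 6, 12, 8, 27, 54, 54, 108, 54, 54, 54, 72, 72, 72]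

/-- The classes in the support. -/
def Dc : Fin 14 → Bool :=
  ![false, true, true, true, false, true, false, true, false, true, true, false, true, true]

theorem ft_eq : ∀ i c, ft i c = ((coef i).1 : ℤ√3) + ∑ j, ((coef i).2 j : ℤ√3) * dtab j c := by
  decide +kernel

theorem ft_zero : ∀ i c, Dc c = false → ft i c = 0 := by decide +kernel

theorem count_cid : ∀ c : Fin 14, (el4.filter fun x => cid x == c).length = cnt c := by
  decide +kernel

theorem ft_gram : ∀ i j, ∑ c, (cnt c : ℤ√3) * (ft i c * ft j c) =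
    648 * (((Gram.gp i j + Gram.pp i * Gram.pp j : ℤ)) : ℤ√3) := by decide +kernel

theorem ft_princ : ∀ i, ∑ c, (cnt c : ℤ√3) * ft i c = 648 * ((Gram.pp i : ℤ) : ℤ√3) := by
  decide +kernel

/-- The sum of a form over the products of two classes. -/
def prodSum (i : Fin 9) (s t : Fin 14) : ℤ√3 :=
  ((el4.filter fun x => cid x == s).map fun p =>
    ((el4.filter fun x => cid x == t).map fun q => ft i (cid (p * q))).sum).sum

theorem prod_ss : prodSum 0 4 4 = 0 ∧ prodSum 1 4 4 = 1944 ∧ prodSum 4 4 4 = 0 ∧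
    prodSum 5 4 4 = 972 := by decide +kernel

theorem prod_tt : prodSum 0 6 6 = 1944 ∧ prodSum 1 6 6 = 0 ∧ prodSum 4 6 6 = 1944 ∧
    prodSum 5 6 6 = 2916 := by decide +kernel

theorem prod_st : prodSum 0 4 6 = 0 ∧ prodSum 1 4 6 = 0 ∧ prodSum 4 4 6 = 1944 ∧
    prodSum 5 4 6 = 972 := by decide +kernel

theorem D_powers : (el4.all fun x => !Dc (cid x) ||
    (Dc (cid x⁻¹) && ([1, 2, 3, 4].all fun n =>
      decide ((x ^ n) ^ 3 = 1 ∧ x ^ n ≠ 1 → isJ (x ^ n))) &&
    [1, 2, 3, 4].any fun n => decide ((x ^ n) ^ 3 = 1 ∧ x ^ n ≠ 1))) = true := by decide +kernel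

theorem invol_classes : (el4.all fun x => decide
    (((x * x = 1 ∧ x ≠ 1) ↔ (cid x = 4 ∨ cid x = 6)) ∧
      (cid x = 4 → x.right = 1) ∧ (cid x = 6 → x.right ≠ 1))) = true := by decide +kernel

attribute [local irreducible] el4 M4set

/-- The forms. -/
noncomputable def Fm (i : Fin 9) : M4 → ℂ := fun x => toC (ft i (cid (x : W)))

theorem isGeneralized_Fm (i : Fin 9) : IsGeneralizedCharacter M4 (Fm i) := by
  have e : Fm i = ((coef i).1 : ℤ) • (1 : M4 → ℂ) +
      ∑ j, (coef i).2 j • (fun x : M4 => toC (dtab j (cid (x : W)))) := by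
    funext x
    simp [Fm, ft_eq, map_sum, zsmul_eq_mul, Finset.sum_apply]
  rw [e]
  exact isGeneralizedCharacter_add
    (isGeneralizedCharacter_zsmul isGeneralizedCharacter_one _)
    (isGeneralizedCharacter_sum _ fun j _ => isGeneralizedCharacter_zsmul
      (isGeneralizedCharacter_of_isCharacter (isCharacter_dtab j)) _)

theorem sum_cid [Fintype M4] (g : Fin 14 → ℂ) :
    ∑ x : M4, g (cid (x : W)) = ∑ c, (cnt c : ℂ) * g c := by
  classical
  rw [sum_M4 (fun x => g (cid x)), M4set_eq, ← Finset.sum_fiberwise el4.toFinset cid]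
  refine Finset.sum_congr rfl fun c _ => ?_
  rw [Finset.sum_congr rfl fun x hx => congrArg g (Finset.mem_filter.1 hx).2, Finset.sum_const,
    nsmul_eq_mul, ← count_cid c]
  congr 2
  rw [← List.toFinset_card_of_nodup (List.Nodup.filter _ nodup_el4), List.toFinset_filter]
  congr 1
  ext x
  simp

theorem gram_Fm [Fintype M4] (i j : Fin 9) :
    classInner (Fm i) (Fm j) = ((Gram.gp i j + Gram.pp i * Gram.pp j : ℤ) : ℂ) := by
  have h := congrArg toC (ft_gram i j)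
  simp only [map_sum, map_mul, map_natCast, map_ofNat, map_intCast] at h
  simp only [classInner, card_M4, Fm, toC_conj]
  rw [sum_cid fun c => toC (ft i c) * toC (ft j c), h]
  push_cast
  ring

theorem princ_Fm [Fintype M4] (i : Fin 9) : classInner (Fm i) 1 = ((Gram.pp i : ℤ) : ℂ) := by
  have h := congrArg toC (ft_princ i)
  simp only [map_sum, map_mul, map_natCast, map_ofNat, map_intCast] at h
  simp only [classInner, card_M4, Fm, Pi.one_apply, map_one, mul_one]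
  rw [sum_cid fun c => toC (ft i c), h]
  push_cast
  ring

theorem sum_prod_Fm [Fintype M4] (i : Fin 9) (s t : Fin 14)
    [DecidablePred fun p : M4 => cid (p : W) = s] [DecidablePred fun p : M4 => cid (p : W) = t] :
    ∑ p ∈ Finset.univ.filter (fun p : M4 => cid (p : W) = s),
      ∑ q ∈ Finset.univ.filter (fun q : M4 => cid (q : W) = t), Fm i (p * q) =
      toC (prodSum i s t) := by
  classical
  have conv : ∀ (s : Fin 14) [DecidablePred fun p : M4 => cid (p : W) = s] (g : W → ℂ),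
      ∑ p ∈ Finset.univ.filter (fun p : M4 => cid (p : W) = s), g p =
        ((el4.filter fun x => cid x == s).map g).sum := by
    intro s _ g
    rw [Finset.sum_filter]
    refine Eq.trans (Finset.sum_congr rfl fun p _ => ?_)
      ((sum_M4 (fun x => if cid x = s then g x else 0)).trans ?_)
    · split_ifs <;> rfl
    rw [M4set_eq,
      ← Finset.sum_filter, ← List.sum_toFinset g (List.Nodup.filter _ nodup_el4),
      List.toFinset_filter]
    congr 1
    ext x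
    simp
  simp only [Fm, Subgroup.coe_mul]
  rw [prodSum, map_list_sum, List.map_map]
  refine Eq.trans (Finset.sum_congr rfl fun p _ => conv t fun q => toC (ft i (cid ((p : W) * q)))) ?_
  rw [conv s fun p => ((el4.filter fun x => cid x == t).map fun q => toC (ft i (cid (p * q)))).sum]
  congr 1
  refine List.map_congr_left fun p _ => ?_
  simp [Function.comp_def, map_list_sum, List.map_map]

end CfsgLib.AltNine
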