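import Cfsg.Agent.Lib.Recognition.AltNine.Isometry
import Cfsg.Agent.Lib.Recognition.AltNine.Forms
import Cfsg.Agent.Lib.Recognition.AltNine.Algebra
import Cfsg.Agent.Lib.Recognition.AltNine.Local
import Cfsg.Agent.Lib.Characters.Galois

/-!
# A character of degree three when all centralizers of `J` lie in `H`
-/

set_option autoImplicit false
set_option linter.style.haveILetI false
set_option linter.unusedSectionVars false

namespace CfsgLib.AltNine

open Cfsg CfsgLib.ThreeCubed CfsgLib.ThreeCubedWreath CfsgLib.Characters CfsgLib.ClassCount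
open scoped ComplexConjugate

attribute [local irreducible] el4 M4set

universe u

namespace Setup

variable {G : Type u} [Group G] [Finite G] (S : Setup G)

theorem centralizer_le_of_cases (hA : Subgroup.centralizer ({S.a} : Set G) ≤ S.H)
    (hB : Subgroup.centralizer ({S.b} : Set G) ≤ S.H) :
    ∀ j ∈ S.J, j ≠ 1 → Subgroup.centralizer ({j} : Set G) ≤ S.H := by
  intro j hj hj1
  obtain ⟨t, ht⟩ := exists_Jel ((S.memJ ⟨j, S.le_H hj⟩).1 hj)
  have ht1 : Jel t ≠ 1 := by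
    rw [ht, ← wim_one S.e]
    exact fun h => hj1 (congrArg Subtype.val (wim_inj S.e h))
  obtain ⟨p, a, b, i, c, hp⟩ := jrep_classes t ht1
  have he : (⟨j, S.le_H hj⟩ : S.H) =
      el S.e (conjC 0 a b i c) * el S.e (jrep p) * (el S.e (conjC 0 a b i c))⁻¹ := by
    refine wim_inj S.e ?_
    rw [wim_mul, wim_mul, wim_inv, wim_el S.e (conjC_mem _ _ _ _ _), wim_el S.e (jrep_sign p), hp,
      ht]
  obtain ⟨k, hk⟩ : ∃ k : S.H, k = el S.e (conjC 0 a b i c) := ⟨_, rfl⟩
  rw [← hk] at he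
  have hjk : j = (k : G) * ge S.e (jrep p) * (k : G)⁻¹ := congrArg Subtype.val he
  have hp' : Subgroup.centralizer ({ge S.e (jrep p)} : Set G) ≤ S.H := by
    fin_cases p
    · exact hA
    · exact hB
    · exact S.centralizer_c_le
  intro g hg
  have : (k : G)⁻¹ * g * k ∈ Subgroup.centralizer ({ge S.e (jrep p)} : Set G) := by
    rw [Subgroup.mem_centralizer_singleton_iff] at hg ⊢
    rw [hjk] at hg
    calc (k : G)⁻¹ * g * k * ge S.e (jrep p)
        = (k : G)⁻¹ * (g * ((k : G) * ge S.e (jrep p) * (k : G)⁻¹)) * k := by group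
      _ = ge S.e (jrep p) * ((k : G)⁻¹ * g * k) := by rw [hg]; group
  have := mul_mem (mul_mem k.2 (hp' this)) (inv_mem k.2)
  rwa [show (k : G) * ((k : G)⁻¹ * g * k) * (k : G)⁻¹ = g by group] at this

/-- The elements of `H` with a power in `J`. -/
def Dset : Set G := {g | ∃ h : g ∈ S.H, Dc (cid (wim S.e ⟨g, h⟩)) = true}

theorem mem_Dset_iff (h : S.H) : (h : G) ∈ S.Dset ↔ Dc (cid (wim S.e h)) = true :=
  ⟨fun ⟨_, hd⟩ => hd, fun hd => ⟨h.2, hd⟩⟩

theorem special (hC : ∀ j ∈ S.J, j ≠ 1 → Subgroup.centralizer ({j} : Set G) ≤ S.H) :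
    SpecialSet S.H S.Dset where
  le := fun _ hd => hd.1
  inv := by
    rintro d ⟨hd, hDc⟩
    have h := List.all_eq_true.1 D_powers _ (mem_el4.2 (wim_mem S.e ⟨d, hd⟩))
    simp only [hDc, Bool.not_true, Bool.false_or, Bool.and_eq_true] at h
    refine ⟨inv_mem hd, ?_⟩
    rw [show (⟨d⁻¹, inv_mem hd⟩ : S.H) = ⟨d, hd⟩⁻¹ from rfl, wim_inv]
    exact h.1.1
  fus := by
    rintro x d ⟨hd, hDc⟩ ⟨hk, hkc⟩
    have h := List.all_eq_true.1 D_powers _ (mem_el4.2 (wim_mem S.e ⟨d, hd⟩))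
    have h' := List.all_eq_true.1 D_powers _ (mem_el4.2 (wim_mem S.e ⟨_, hk⟩))
    simp only [hDc, Bool.not_true, Bool.false_or, Bool.and_eq_true, List.all_eq_true,
      List.any_eq_true, decide_eq_true_eq] at h
    simp only [hkc, Bool.not_true, Bool.false_or, Bool.and_eq_true, List.all_eq_true,
      List.any_eq_true, decide_eq_true_eq] at h'
    obtain ⟨n, hn, h3, hne⟩ := h.2
    have hj := h.1.2 n hn ⟨h3, hne⟩
    have e3 : (d ^ n) ^ 3 = 1 := by
      have := wim_inj S.e (a := (⟨d, hd⟩ ^ n) ^ 3) (b := 1) (by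
        rw [wim_pow, wim_pow, h3, wim_one])
      simpa using congrArg Subtype.val this
    have e1 : d ^ n ≠ 1 := fun he => hne (by
      rw [← wim_pow, ← wim_one S.e]
      exact congrArg _ (Subtype.ext (by simpa using he)))
    have hdn : d ^ n ∈ S.J := by
      have := (S.memJ (⟨d, hd⟩ ^ n)).2 (by rw [wim_pow]; exact hj)
      simpa using this
    have hj' : isJ (wim S.e ⟨_, hk⟩ ^ n) := by
      refine h'.1.2 n hn ⟨?_, fun he => ?_⟩
      · rw [← wim_pow, ← wim_pow, ← wim_one S.e]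
        refine congrArg _ (Subtype.ext ?_)
        simp only [SubmonoidClass.coe_pow, OneMemClass.coe_one]
        rw [conj_pow, conj_pow, e3]; group
      · rw [← wim_pow, ← wim_one S.e] at he
        have := congrArg Subtype.val (wim_inj S.e he)
        simp only [SubmonoidClass.coe_pow, OneMemClass.coe_one, conj_pow] at this
        exact e1 (conj_eq_one_iff.1 this)
    have hkn : x * d ^ n * x⁻¹ ∈ S.J := by
      have := (S.memJ (⟨_, hk⟩ ^ n)).2 (by rw [wim_pow]; exact hj')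
      simpa [conj_pow] using this
    exact conj_mem_H S.e S.hJ hC hdn e1 hkn

/-- A form on `H`. -/
noncomputable def form (i : Fin 9) : S.H → ℂ := fun h => Fm i (S.e h)

theorem isGeneralized_form (i : Fin 9) : IsGeneralizedCharacter S.H (S.form i) := by
  obtain ⟨p, q, hp, hq, hpq⟩ := isGeneralized_Fm i
  exact ⟨fun h => p (S.e h), fun h => q (S.e h),
    CfsgLib.CharGalois.isCharacter_comp hp S.e.toMonoidHom,
    CfsgLib.CharGalois.isCharacter_comp hq S.e.toMonoidHom, funext fun h => congrFun hpq (S.e h)⟩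

theorem vanish_form (i : Fin 9) : VanishOff S.H S.Dset (S.form i) := by
  intro h hh
  rw [S.mem_Dset_iff, Bool.not_eq_true] at hh
  show toC (ft i (cid (wim S.e h))) = 0
  rw [ft_zero i _ hh, map_zero]

theorem classInner_form [Fintype S.H] (i j : Fin 9) :
    classInner (S.form i) (S.form j) = ((Gram.gp i j + Gram.pp i * Gram.pp j : ℤ) : ℂ) ∧
      classInner (S.form i) 1 = ((Gram.pp i : ℤ) : ℂ) := by
  letI : Fintype M4 := Fintype.ofFinite _
  constructor
  · rw [← gram_Fm i j]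
    unfold classInner
    rw [Nat.card_congr S.e.toEquiv]
    congr 1
    exact Fintype.sum_equiv S.e.toEquiv _ _ fun h => rfl
  · rw [← princ_Fm i]
    unfold classInner
    rw [Nat.card_congr S.e.toEquiv]
    congr 1
    exact Fintype.sum_equiv S.e.toEquiv _ _ fun h => rfl

theorem exists_degree_three (hA : Subgroup.centralizer ({S.a} : Set G) ≤ S.H)
    (hB : Subgroup.centralizer ({S.b} : Set G) ≤ S.H) :
    ∃ χ : IrrCharacter G, (χ : G → ℂ) 1 = 3 := by
  classical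
  letI : Fintype G := Fintype.ofFinite G
  letI : Fintype S.H := Fintype.ofFinite _
  letI : Fintype M4 := Fintype.ofFinite _
  have hC := S.centralizer_le_of_cases hA hB
  have hsp := S.special hC
  choose m hm hexp hprinc using fun i => exists_coef (G := G) (S.isGeneralized_form i)
  let ι := {χ : IrrCharacter G // χ ≠ principalIrr G}
  let M : Fin 9 → ι → ℤ := fun i χ => m i χ.1
  have split : ∀ f : IrrCharacter G → ℂ,
      ∑ χ, f χ = f (principalIrr G) + ∑ χ : ι, f χ.1 := by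
    intro f
    rw [← Finset.add_sum_erase _ f (Finset.mem_univ (principalIrr G))]
    congr 1
    exact (Finset.sum_subtype _ (fun x => by simp) f)
  have hpp : ∀ i, m i (principalIrr G) = Gram.pp i := fun i => by
    have := hprinc i
    rw [(S.classInner_form i i).2] at this
    exact_mod_cast this
  have hgram : ∀ k l, ∑ i, M k i * M l i = Gram.gp k l := by
    intro k l
    have h1 := hsp.classInner_indFun (S.vanish_form k)
      (isClassFunction_of_isGeneralizedCharacter (S.isGeneralized_form l)) (S.vanish_form l)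
    rw [(S.classInner_form k l).1,
      classInner_eq_sum_mul (Induction.isClassFunction_indFun _ _)] at h1
    simp only [hm, map_intCast, ← Int.cast_mul] at h1
    rw [split, hpp, hpp, ← Int.cast_sum, ← Int.cast_add] at h1
    have h2 : Gram.pp k * Gram.pp l + ∑ χ : ι, m k χ.1 * m l χ.1 =
        Gram.gp k l + Gram.pp k * Gram.pp l := by exact_mod_cast h1
    linarith
  choose dn hdn hd using fun χ : ι => irr_exists_degree χ.1.2
  let d : ι → ℤ := fun χ => dn χ
  have hdne : ∀ χ, d χ ≠ 0 := fun χ => by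
    simp only [d]; exact_mod_cast (hdn χ).ne'
  have hone : ∀ i, indFun S.H (S.form i) 1 = 0 := fun i => indFun_eq_zero (S.vanish_form i) (by
    intro x
    rw [mul_one, inv_mul_cancel]
    intro h
    rw [show (1 : G) = ((1 : S.H) : G) from rfl, S.mem_Dset_iff, wim_one] at h
    exact absurd h (by decide +kernel))
  have hdeg : ∀ k, Gram.pp k + ∑ i, M k i * d i = 0 := by
    intro k
    have h := hexp k 1
    rw [hone, split, hpp] at h
    simp only [principalIrr_apply, mul_one] at h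
    have h' : ((Gram.pp k + ∑ i, M k i * d i : ℤ) : ℂ) = ((0 : ℤ) : ℂ) := by
      rw [Int.cast_zero, h]
      push_cast
      congr 1
      exact Finset.sum_congr rfl fun χ _ => by simp [M, d, hd]
    exact_mod_cast h'
  obtain ⟨c, e, he, hpat⟩ := Gram.pattern M hgram d hdne hdeg
  -- the two classes of involutions
  have mz : sg z0.left * sgn z0.right = 1 := base_mem _ (by simp)
  have mC : sg gC.left * sgn gC.right = 1 := base_mem _ (by simp)
  set s : G := ge S.e z0 with hs_def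
  set t : G := ge S.e gC with ht_def
  have hs2 : s * s = 1 := congrArg Subtype.val (wim_inj S.e (a := el S.e z0 * el S.e z0) (b := 1)
    (by rw [wim_mul, wim_el S.e mz, base_facts.2.2.2.2.1, wim_one]))
  have ht2 : t * t = 1 := congrArg Subtype.val (wim_inj S.e (a := el S.e gC * el S.e gC) (b := 1)
    (by rw [wim_mul, wim_el S.e mC, base_facts.2.2.2.2.2.2.1, wim_one]))
  have hs1 : s ≠ 1 := fun h => base_facts.2.2.2.2.2.1 (by
    rw [← wim_el S.e mz, show el S.e z0 = 1 from Subtype.ext h, wim_one])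
  have ht1 : t ≠ 1 := fun h => base_facts.2.2.2.2.2.2.2.2.2.2 (by
    rw [← wim_el S.e mC, show el S.e gC = 1 from Subtype.ext h, wim_one])
  have hinv : ∀ h : S.H, ∀ g : G, g * g = 1 → g ≠ 1 → IsConj g (h : G) →
      (cid (wim S.e h) = 4 ∨ cid (wim S.e h) = 6) ∧ (cid (wim S.e h) = 4 → (wim S.e h).right = 1) ∧
        (cid (wim S.e h) = 6 → (wim S.e h).right ≠ 1) ∧ wim S.e h * wim S.e h = 1 ∧
          wim S.e h ≠ 1 := by
    intro h g hg hg1 hconj
    obtain ⟨x, hx⟩ := isConj_iff.1 hconj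
    have h2 : (h : G) * h = 1 := by
      rw [← hx, show x * g * x⁻¹ * (x * g * x⁻¹) = x * (g * g) * x⁻¹ by group, hg]; group
    have w2 : wim S.e h * wim S.e h = 1 := by
      rw [← wim_mul, ← wim_one S.e]; exact congrArg _ (Subtype.ext h2)
    have w1 : wim S.e h ≠ 1 := fun hw => hg1 (by
      rw [← wim_one S.e] at hw
      have := congrArg Subtype.val (wim_inj S.e hw)
      rw [← hx] at this
      exact conj_eq_one_iff.1 this)
    have := List.all_eq_true.1 invol_classes _ (mem_el4.2 (wim_mem S.e h))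
    rw [decide_eq_true_eq] at this
    exact ⟨this.1.1 ⟨w2, w1⟩, this.2.1, this.2.2, w2, w1⟩
  have hvan : ∀ i, ∀ g : G, g * g = 1 → g ≠ 1 → indFun S.H (S.form i) g = 0 := by
    intro i g hg hg1
    refine indFun_eq_zero (S.vanish_form i) fun x hD => ?_
    obtain ⟨hH, hDc⟩ := hD
    obtain ⟨h46, -⟩ := hinv ⟨_, hH⟩ g hg hg1 (isConj_iff.2 ⟨x⁻¹, by simp⟩)
    rcases h46 with h | h <;> rw [h] at hDc <;> exact absurd hDc (by decide +kernel)
  have hcls : ∀ h : S.H, (IsConj s (h : G) ↔ cid (wim S.e h) = 4) ∧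
      (IsConj t (h : G) ↔ cid (wim S.e h) = 6) := by
    intro h
    have back : cid (wim S.e h) = 4 ∨ cid (wim S.e h) = 6 →
        ((wim S.e h).right = 1 → IsConj s (h : G)) ∧ ((wim S.e h).right ≠ 1 → IsConj t (h : G)) := by
      intro h46
      have h0 := List.all_eq_true.1 invol_classes _ (mem_el4.2 (wim_mem S.e h))
      rw [decide_eq_true_eq] at h0
      obtain ⟨w2, w1⟩ := h0.1.2 h46
      constructor <;> intro hr
      · obtain ⟨i, u, hu⟩ := z_class _ (wim_mem' S.e h) w1 w2 hr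
        refine isConj_iff.2 ⟨(el S.e (conjC u 0 0 i 0) : G), ?_⟩
        have := wim_inj S.e (a := el S.e (conjC u 0 0 i 0) * el S.e z0 * (el S.e (conjC u 0 0 i 0))⁻¹)
          (b := h) (by rw [wim_mul, wim_mul, wim_inv, wim_el S.e (conjC_mem _ _ _ _ _),
            wim_el S.e mz, hu])
        simpa [ge] using congrArg Subtype.val this
      · obtain ⟨i, a, b, u, hu⟩ := t_class _ (wim_mem' S.e h) w2 hr
        refine isConj_iff.2 ⟨(el S.e (conjC u a b i 0) : G), ?_⟩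
        have := wim_inj S.e (a := el S.e (conjC u a b i 0) * el S.e gC * (el S.e (conjC u a b i 0))⁻¹)
          (b := h) (by rw [wim_mul, wim_mul, wim_inv, wim_el S.e (conjC_mem _ _ _ _ _),
            wim_el S.e mC, hu])
        simpa [ge] using congrArg Subtype.val this
    have h0 := List.all_eq_true.1 invol_classes _ (mem_el4.2 (wim_mem S.e h))
    rw [decide_eq_true_eq] at h0
    refine ⟨⟨fun hc => ?_, fun hc => (back (Or.inl hc)).1 (h0.2.1 hc)⟩,
      ⟨fun hc => ?_, fun hc => (back (Or.inr hc)).2 (h0.2.2 hc)⟩⟩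
    · obtain ⟨h46, -, h6, -, -⟩ := hinv h s hs2 hs1 hc
      refine h46.resolve_right fun h6' => h6 h6' (right_of_isConj_z S.e S.hJ hC hc)
    · obtain ⟨h46, h4, -, -, -⟩ := hinv h t ht2 ht1 hc
      refine h46.resolve_left fun h4' => ?_
      exact not_isConj_z_c S.e S.hJ hC (hc.trans ((back h46).1 (h4 h4')).symm)
  have hcount : ∀ (i : Fin 9) (a b : G) (ka kb : Fin 14), a * a = 1 → b * b = 1 →
      (∀ h : S.H, IsConj a (h : G) ↔ cid (wim S.e h) = ka) →
      (∀ h : S.H, IsConj b (h : G) ↔ cid (wim S.e h) = kb) →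
      ((Gram.pp i : ℂ) + ∑ χ : ι, (M i χ : ℂ) *
          ((χ.1 : G → ℂ) a * (χ.1 : G → ℂ) b / (χ.1 : G → ℂ) 1)) * ((cls a).card * (cls b).card) =
        (S.H.index : ℂ) * toC (prodSum i ka kb) := by
    intro i a b ka kb ha hb hca hcb
    have h := hsp.sum_coef_involutions (S.vanish_form i) ha hb
    simp only [hm] at h
    rw [split, hpp] at h
    simp only [principalIrr_apply, mul_one, div_one] at h
    rw [h, ← sum_prod_Fm i ka kb]
    congr 1
    refine Finset.sum_bij' (fun p _ => S.e p) (fun p _ => S.e.symm p) ?_ ?_ ?_ ?_ ?_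
    · intro p hp
      simp only [Finset.mem_filter, Finset.mem_univ, true_and] at hp ⊢
      exact (hca p).1 hp
    · intro p hp
      simp only [Finset.mem_filter, Finset.mem_univ, true_and] at hp ⊢
      refine (hca _).2 ?_
      rwa [wim, MulEquiv.apply_symm_apply]
    · simp
    · simp
    intro p _
    refine Finset.sum_bij' (fun q _ => S.e q) (fun q _ => S.e.symm q) ?_ ?_ ?_ ?_ ?_
    · intro q hq
      simp only [Finset.mem_filter, Finset.mem_univ, true_and] at hq ⊢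
      exact (hcb q).1 hq
    · intro q hq
      simp only [Finset.mem_filter, Finset.mem_univ, true_and] at hq ⊢
      refine (hcb _).2 ?_
      rwa [wim, MulEquiv.apply_symm_apply]
    · simp
    · simp
    intro q _
    simp [form]
  choose zs hzs using fun χ : ι => exists_int_of_involution χ.1 hs2
  choose zt hzt using fun χ : ι => exists_int_of_involution χ.1 ht2
  let D : Fin 7 → ℚ := fun k => ((e k * d (c k) : ℤ) : ℚ)
  let U : Fin 7 → ℚ := fun k => ((e k * zs (c k) : ℤ) : ℚ)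
  let V : Fin 7 → ℚ := fun k => ((e k * zt (c k) : ℤ) : ℚ)
  have lin : ∀ (g : G) (z : ι → ℤ), (∀ χ : ι, (χ.1 : G → ℂ) g = (z χ : ℂ)) →
      (∀ i, indFun S.H (S.form i) g = 0) →
      let P : Fin 7 → ℚ := fun k => ((e k * z (c k) : ℤ) : ℚ)
      P 0 + P 1 - P 2 = 0 ∧ P 2 + P 3 - P 4 = 0 ∧ 1 - P 0 + P 4 + P 5 = 0 ∧
        1 + P 0 + P 4 + P 6 = 0 := by
    intro g z hz hg
    obtain ⟨p0, p1, p4, p5⟩ := hpat fun χ => (χ.1 : G → ℂ) g
    have key : ∀ i, (Gram.pp i : ℂ) + ∑ χ : ι, (M i χ : ℂ) * (χ.1 : G → ℂ) g = 0 := by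
      intro i
      have h := hexp i g
      rw [hg, split, hpp] at h
      simp only [principalIrr_apply, mul_one] at h
      exact h.symm
    have k0 := key 0; have k1 := key 1; have k4 := key 4; have k5 := key 5
    rw [p0, show Gram.pp 0 = 0 from rfl] at k0
    rw [p1, show Gram.pp 1 = 0 from rfl] at k1
    rw [p4, show Gram.pp 4 = 1 from rfl] at k4
    rw [p5, show Gram.pp 5 = 1 from rfl] at k5
    simp only [hz] at k0 k1 k4 k5
    intro P
    refine ⟨?_, ?_, ?_, ?_⟩ <;> simp only [P]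
    · have : ((e 0 * z (c 0) + e 1 * z (c 1) - e 2 * z (c 2) : ℤ) : ℂ) = ((0 : ℤ) : ℂ) := by
        push_cast; linear_combination k0
      exact_mod_cast this
    · have : ((e 2 * z (c 2) + e 3 * z (c 3) - e 4 * z (c 4) : ℤ) : ℂ) = ((0 : ℤ) : ℂ) := by
        push_cast; linear_combination k1
      exact_mod_cast this
    · have : ((1 - e 0 * z (c 0) + e 4 * z (c 4) + e 5 * z (c 5) : ℤ) : ℂ) = ((0 : ℤ) : ℂ) := by
        push_cast; linear_combination k4
      exact_mod_cast this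
    · have : ((1 + e 0 * z (c 0) + e 4 * z (c 4) + e 6 * z (c 6) : ℤ) : ℂ) = ((0 : ℤ) : ℂ) := by
        push_cast; linear_combination k5
      exact_mod_cast this
  have lD := lin 1 d (fun χ => by simp [d, hd χ]) hone
  have lU := lin s zs hzs (fun i => hvan i s hs2 hs1)
  have lV := lin t zt hzt (fun i => hvan i t ht2 ht1)
  have hce : ∀ k, ((e k * d (c k) : ℤ) : ℂ) ≠ 0 := fun k => by
    exact_mod_cast mul_ne_zero (left_ne_zero_of_mul_eq_one (he k)) (hdne _)
  have hnum : ((cls s).card : ℚ) ≠ 0 ∧ ((cls t).card : ℚ) ≠ 0 := by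
    constructor <;> exact_mod_cast (Finset.card_pos.2 ⟨_, mem_cls.2 (IsConj.refl _)⟩).ne'
  let Ns : ℚ := (cls s).card
  let Nt : ℚ := (cls t).card
  let I : ℚ := S.H.index
  have hI : I ≠ 0 := Nat.cast_ne_zero.2 (Subgroup.index_ne_zero_of_finite (H := S.H))
  have quad : ∀ (i : Fin 9) (a b : G) (ka kb : Fin 14) (za zb : ι → ℤ) (n : ℤ)
      (k1 k2 k3 : Fin 7) (σ1 σ2 σ3 : ℚ), a * a = 1 → b * b = 1 →
      (∀ h : S.H, IsConj a (h : G) ↔ cid (wim S.e h) = ka) →
      (∀ h : S.H, IsConj b (h : G) ↔ cid (wim S.e h) = kb) →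
      (∀ χ : ι, (χ.1 : G → ℂ) a = (za χ : ℂ)) → (∀ χ : ι, (χ.1 : G → ℂ) b = (zb χ : ℂ)) →
      (∀ g : ι → ℂ, ∑ χ, (M i χ : ℂ) * g χ =
        (σ1 : ℂ) * (e k1 * g (c k1)) + (σ2 : ℂ) * (e k2 * g (c k2)) + (σ3 : ℂ) * (e k3 * g (c k3))) →
      prodSum i ka kb = (n : ℤ√3) →
      (Gram.pp i : ℚ) + quad3 D (fun k => ((e k * za (c k) : ℤ) : ℚ))
        (fun k => ((e k * zb (c k) : ℤ) : ℚ)) k1 k2 k3 σ1 σ2 σ3 =
        I * n / (((cls a).card : ℚ) * (cls b).card) := by
    intro i a b ka kb za zb n k1 k2 k3 σ1 σ2 σ3 ha hb hca hcb hza hzb hsum hn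
    have h := hcount i a b ka kb ha hb hca hcb
    rw [hsum (fun χ => (χ.1 : G → ℂ) a * (χ.1 : G → ℂ) b / (χ.1 : G → ℂ) 1), hn, map_intCast] at h
    have term : ∀ k, (e k : ℂ) * (((c k).1 : G → ℂ) a * ((c k).1 : G → ℂ) b / ((c k).1 : G → ℂ) 1) =
        ((((e k * za (c k) : ℤ) : ℚ) * ((e k * zb (c k) : ℤ) : ℚ) / D k : ℚ) : ℂ) := by
      intro k
      simp only [D, d]
      push_cast
      rw [hza, hzb, hd]
      have h1 : (e k : ℂ) * e k = 1 := by exact_mod_cast he k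
      have h2 : (dn (c k) : ℂ) ≠ 0 := by exact_mod_cast (hdn _).ne'
      have h3 : (e k : ℂ) ≠ 0 := left_ne_zero_of_mul_eq_one h1
      field_simp
    simp only [term] at h
    have hna : ((cls a).card : ℚ) ≠ 0 := by
      exact_mod_cast (Finset.card_pos.2 ⟨_, mem_cls.2 (IsConj.refl _)⟩).ne'
    have hnb : ((cls b).card : ℚ) ≠ 0 := by
      exact_mod_cast (Finset.card_pos.2 ⟨_, mem_cls.2 (IsConj.refl _)⟩).ne'
    rw [eq_div_iff (mul_ne_zero hna hnb)]
    have h' : ((((Gram.pp i : ℚ) + quad3 D (fun k => ((e k * za (c k) : ℤ) : ℚ))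
        (fun k => ((e k * zb (c k) : ℤ) : ℚ)) k1 k2 k3 σ1 σ2 σ3) *
        (((cls a).card : ℚ) * (cls b).card) : ℚ) : ℂ) = ((I * n : ℚ) : ℂ) := by
      simp only [quad3, I]
      push_cast at h ⊢
      linear_combination h
    exact_mod_cast h'
  have sg0 : ∀ g : ι → ℂ, ∑ χ, (M 0 χ : ℂ) * g χ = ((1 : ℚ) : ℂ) * (e 0 * g (c 0)) +
      ((1 : ℚ) : ℂ) * (e 1 * g (c 1)) + ((-1 : ℚ) : ℂ) * (e 2 * g (c 2)) := fun g => by
    rw [(hpat g).1]; push_cast; ring
  have sg1 : ∀ g : ι → ℂ, ∑ χ, (M 1 χ : ℂ) * g χ = ((1 : ℚ) : ℂ) * (e 2 * g (c 2)) +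
      ((1 : ℚ) : ℂ) * (e 3 * g (c 3)) + ((-1 : ℚ) : ℂ) * (e 4 * g (c 4)) := fun g => by
    rw [(hpat g).2.1]; push_cast; ring
  have sg4 : ∀ g : ι → ℂ, ∑ χ, (M 4 χ : ℂ) * g χ = ((-1 : ℚ) : ℂ) * (e 0 * g (c 0)) +
      ((1 : ℚ) : ℂ) * (e 4 * g (c 4)) + ((1 : ℚ) : ℂ) * (e 5 * g (c 5)) := fun g => by
    rw [(hpat g).2.2.1]; push_cast; ring
  have sg5 : ∀ g : ι → ℂ, ∑ χ, (M 5 χ : ℂ) * g χ = ((1 : ℚ) : ℂ) * (e 0 * g (c 0)) +
      ((1 : ℚ) : ℂ) * (e 4 * g (c 4)) + ((1 : ℚ) : ℂ) * (e 6 * g (c 6)) := fun g => by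
    rw [(hpat g).2.2.2]; push_cast; ring
  have ss := fun i n k1 k2 k3 σ1 σ2 σ3 h1 h2 => quad i s s 4 4 zs zs n k1 k2 k3 σ1 σ2 σ3 hs2 hs2
    (fun h => (hcls h).1) (fun h => (hcls h).1) hzs hzs h1 h2
  have tt := fun i n k1 k2 k3 σ1 σ2 σ3 h1 h2 => quad i t t 6 6 zt zt n k1 k2 k3 σ1 σ2 σ3 ht2 ht2
    (fun h => (hcls h).2) (fun h => (hcls h).2) hzt hzt h1 h2
  have st := fun i n k1 k2 k3 σ1 σ2 σ3 h1 h2 => quad i s t 4 6 zs zt n k1 k2 k3 σ1 σ2 σ3 hs2 ht2
    (fun h => (hcls h).1) (fun h => (hcls h).2) hzs hzt h1 h2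
  have p0 : Gram.pp 0 = 0 ∧ Gram.pp 1 = 0 ∧ Gram.pp 4 = 1 ∧ Gram.pp 5 = 1 := by decide +kernel
  have a1 := ss 0 0 _ _ _ _ _ _ sg0 (by rw [prod_ss.1]; simp)
  have a2 := tt 0 1944 _ _ _ _ _ _ sg0 (by rw [prod_tt.1]; simp)
  have a3 := ss 1 1944 _ _ _ _ _ _ sg1 (by rw [prod_ss.2.1]; simp)
  have a4 := tt 1 0 _ _ _ _ _ _ sg1 (by rw [prod_tt.2.1]; simp)
  have a5 := ss 4 0 _ _ _ _ _ _ sg4 (by rw [prod_ss.2.2.1]; simp)
  have a6 := tt 4 1944 _ _ _ _ _ _ sg4 (by rw [prod_tt.2.2.1]; simp)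
  have a7 := st 4 1944 _ _ _ _ _ _ sg4 (by rw [prod_st.2.2.1]; simp)
  have a8 := ss 5 972 _ _ _ _ _ _ sg5 (by rw [prod_ss.2.2.2]; simp)
  have a9 := tt 5 2916 _ _ _ _ _ _ sg5 (by rw [prod_tt.2.2.2]; simp)
  have a10 := st 5 972 _ _ _ _ _ _ sg5 (by rw [prod_st.2.2.2]; simp)
  simp only [p0.1, p0.2.1, p0.2.2.1, p0.2.2.2, Int.cast_zero, Int.cast_one, zero_add,
    Int.cast_ofNat, mul_zero, zero_div] at a1 a2 a3 a4 a5 a6 a7 a8 a9 a10
  have h3 : (e 0 * d (c 0)).natAbs = 3 := deg_three (fun k => e k * d (c k)) U V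
    (fun k => mul_ne_zero (left_ne_zero_of_mul_eq_one (he k)) (hdne _))
    (I * 729 / (Ns * Ns)) (I * 2916 / (Nt * Nt)) (I * 1458 / (Ns * Nt))
    (by simp [hI, Ns, hnum.1]) (by simp [hI, Nt, hnum.2]) (by simp [hI, Ns, Nt, hnum.1, hnum.2])
    (by ring) D (fun k => rfl)
    (by rintro P (rfl | rfl | rfl); exacts [lD.1, lU.1, lV.1])
    (by rintro P (rfl | rfl | rfl); exacts [lD.2.1, lU.2.1, lV.2.1])
    (by rintro P (rfl | rfl | rfl); exacts [lD.2.2.1, lU.2.2.1, lV.2.2.1])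
    (by rintro P (rfl | rfl | rfl); exacts [lD.2.2.2, lU.2.2.2, lV.2.2.2])
    a1 (by rw [a2]; ring) (by rw [a3]; ring) a4
    a5 (by rw [a6]; ring) (by rw [a7]; ring) (by rw [a8]; ring) (by rw [a9])
    (by rw [a10]; ring)
  refine ⟨(c 0).1, ?_⟩
  have h1 : dn (c 0) = 3 := by
    rw [Int.natAbs_mul, show (e 0).natAbs = 1 from ?_, one_mul] at h3
    · simpa [d] using h3
    rcases mul_self_eq_one_iff.1 (he 0) with h | h <;> rw [h] <;> rfl
  rw [hd, h1]; norm_num

end Setup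

end CfsgLib.AltNine
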