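import Cfsg.Agent.Lib.Recognition.AltNine.Points

/-!
# Finite facts for the two four-groups
-/

set_option autoImplicit false
set_option maxRecDepth 10000

namespace CfsgLib.AltNine

open Equiv Subgroup CfsgLib.ThreeCubed CfsgLib.ThreeCubedWreath

/-- `(2 3)(4 5)`. -/
def u6 : Perm (Fin 6) := swap 2 3 * swap 4 5
/-- `(2 4)(3 5)`. -/
def v6 : Perm (Fin 6) := swap 2 4 * swap 3 5
/-- `(0 1)(2 3)`. -/
def v6' : Perm (Fin 6) := swap 0 1 * swap 2 3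
/-- `(0 2 4)(1 3 5)`. -/
def g6 : Perm (Fin 6) := swap 0 2 * swap 2 4 * (swap 1 3 * swap 3 5)

theorem sign6 : Perm.sign u6 = 1 ∧ Perm.sign v6 = 1 ∧ Perm.sign v6' = 1 ∧ Perm.sign g6 = 1 := by
  decide +kernel

/-- `(2 3)(4 5)` in `A₆`. -/
def aU : alternatingGroup (Fin 6) := ⟨u6, Perm.mem_alternatingGroup.2 sign6.1⟩
/-- `(2 4)(3 5)` in `A₆`. -/
def aV : alternatingGroup (Fin 6) := ⟨v6, Perm.mem_alternatingGroup.2 sign6.2.1⟩
/-- `(0 1)(2 3)` in `A₆`. -/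
def aV' : alternatingGroup (Fin 6) := ⟨v6', Perm.mem_alternatingGroup.2 sign6.2.2.1⟩
/-- `(0 2 4)(1 3 5)` in `A₆`. -/
def aG : alternatingGroup (Fin 6) := ⟨g6, Perm.mem_alternatingGroup.2 sign6.2.2.2⟩

/-- The block transposition pair `(0 1)(6 7)`. -/
def sW : W := SemidirectProduct.inl g5
/-- `(0 1)(4 5)`. -/
def xW : W := SemidirectProduct.inl (.sr 1, .sr 0, 1)

theorem cent_V : ∀ π : Perm (Fin 6), π * u6 = u6 * π → π * v6 = v6 * π → Perm.sign π = 1 →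
    π = 1 ∨ π = u6 ∨ π = v6 ∨ π = u6 * v6 := by decide +kernel

theorem cent_V' : ∀ π : Perm (Fin 6), π * u6 = u6 * π → π * v6' = v6' * π → Perm.sign π = 1 →
    π = 1 ∨ π = u6 ∨ π = v6' ∨ π = u6 * v6' := by decide +kernel

theorem cent_u : ∀ π : Perm (Fin 6), π * u6 = u6 * π → Perm.sign π = 1 →
    (π * π = 1 ∨ π * π = u6) ∧ π * π * (π * π) = 1 ∧ swap 0 1 * π * swap 0 1 = π ∧
    (π = 1 ∨ π = u6 ∨ π = v6 ∨ π = u6 * v6 ∨ π = v6' ∨ π = u6 * v6' ∨ π * π ≠ 1) := by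
  decide +kernel

theorem cent_u_center : ∀ π : Perm (Fin 6), π * u6 = u6 * π → π * v6 = v6 * π →
    π * v6' = v6' * π → Perm.sign π = 1 → π = 1 ∨ π = u6 := by decide +kernel

theorem four_facts : u6 * v6 = v6 * u6 ∧ u6 * v6' = v6' * u6 ∧ u6 * u6 = 1 ∧ v6 * v6 = 1 ∧
    v6' * v6' = 1 ∧ u6 ≠ 1 ∧ v6 ≠ 1 ∧ v6 ≠ u6 ∧ v6' ≠ u6 ∧
    v6' * v6 * v6' = u6 * v6 ∧ v6 * v6' * (v6 * v6') = u6 ∧
    swap 0 1 * u6 * swap 0 1 = u6 ∧ swap 0 1 * v6 * swap 0 1 = v6 ∧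
    swap 0 1 * v6' * swap 0 1 = v6' ∧
    u6 * swap 0 1 * g6 * (u6 * swap 0 1)⁻¹ = g6 ∧
    p1 * u6 * p1⁻¹ = v6 ∧ p1 * v6 * p1⁻¹ = u6 * v6 ∧
    g6 * u6 * g6⁻¹ = u6 * v6' ∧ g6 * v6' * g6⁻¹ = u6 ∧ g6 * g6 * g6 = 1 ∧
    u6 * v6' = swap 0 1 * swap 4 5 ∧ p1 * p1 * p1 = 1 := by decide +kernel

theorem four_commute : ∀ a ∈ [u6, v6, u6 * v6], a * p1 ≠ p1 * a := by decide +kernel

theorem four'_commute : ∀ a ∈ [u6, v6', u6 * v6'], a * g6 ≠ g6 * a ∧ a ≠ 1 := by decide +kernel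

theorem g6_conj : ∃ σ : Perm (Fin 6), σ * (p0 * p1) * σ⁻¹ = g6 ∧ Perm.sign σ = 1 := by
  decide +kernel

theorem tau_conj : ∀ a ∈ ([v6, u6 * v6, v6', u6 * v6', swap 0 1 * swap 3 4] : List (Perm (Fin 6))),
    ∃ σ : Perm (Fin 6), σ * u6 * σ⁻¹ = a ∧ Perm.sign σ = 1 := by decide +kernel

theorem sigma_conj : ∀ a ∈ [v6, u6 * v6], ∃ σ : Perm (Fin 6), σ * u6 * σ⁻¹ = a ∧
    swap 0 1 * σ * swap 0 1 = σ ∧ Perm.sign σ = 1 := by decide +kernel

theorem tau_conj' : ∀ a ∈ [v6', u6 * v6'], ∃ σ : Perm (Fin 6), σ * a * σ⁻¹ = swap 0 1 * swap 3 4 ∧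
    swap 0 1 * σ * swap 0 1 = σ ∧ Perm.sign σ = 1 := by decide +kernel

theorem W_facts : sg sW.left * sgn sW.right = 1 ∧ sg xW.left * sgn xW.right = 1 ∧
    sW * sW = 1 ∧ sW * av 2 * sW⁻¹ = (av 2)⁻¹ ∧ sW * av 1 = av 1 * sW ∧
    (∀ i, psi sW (emb 2 i) = emb 2 (swap 0 1 i)) ∧
    (∀ i, psi sW (emb 1 i) = emb 1 ((swap 0 1 * swap 3 4 : Perm (Fin 6)) i)) ∧
    psi xW = e9 2 (u6 * v6') ∧ (∀ i, psi xW (emb 1 i) = emb 1 (swap 3 4 i)) ∧
    psi (SemidirectProduct.inl g4) = e9 2 (swap 0 1 * swap 3 4) ∧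
    psi (SemidirectProduct.inl g5) = e9 1 (swap 0 1 * swap 3 4) := by decide +kernel

theorem g4_conj : (el4.any fun w => w * SemidirectProduct.inl g4 * w⁻¹ == sW) = true ∧
    (el4.any fun w => w * SemidirectProduct.inl g4 * w⁻¹ == SemidirectProduct.inl g4 * sW) = true := by
  decide +kernel

/-- The elements of `J` acting on the first four-group. -/
def xJ (i j : Fin 3) : W := av 1 ^ i.val * av 2 ^ j.val
/-- The elements of `J` conjugate to those acting on the second four-group. -/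
def xJ' (i j : Fin 3) : W := (av 0 * av 1) ^ j.val * av 2 ^ i.val

theorem xJ_class : ∀ i j : Fin 3, i ≠ 0 → j ≠ 0 → ∃ p : Fin 2, ∃ a b c : Fin 2, ∃ k : Fin 3,
    conjC 0 a b k c * jrep p.succ * (conjC 0 a b k c)⁻¹ = xJ i j := by decide +kernel

theorem xJ'_class : ∀ i j : Fin 3, j ≠ 0 → ∃ p : Fin 2, ∃ a b c : Fin 2, ∃ k : Fin 3,
    conjC 0 a b k c * jrep p.succ * (conjC 0 a b k c)⁻¹ = xJ' i j := by decide +kernel

theorem xJ_cent : ((List.finRange 3).all fun i => (List.finRange 3).all fun j =>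
    i == 0 || j == 0 || el4.all fun w => if w * xJ i j == xJ i j * w then
      w ^ 54 == 1 && (w * w != 1 || w == 1 || w * av 2 * w⁻¹ == av 1 ||
        w * av 2 * w⁻¹ == (av 1)⁻¹) else true) = true := by decide +kernel

theorem xJ'_cent : ((List.finRange 3).all fun i => (List.finRange 3).all fun j =>
    j == 0 || el4.all fun w => if w * xJ' i j == xJ' i j * w then
      (if i == 0 then w ^ 54 == 1 else w ^ 81 == 1) else true) = true := by decide +kernel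

theorem xJ'_invol : ((List.finRange 3).all fun j =>
    j == 0 || (((el4.filter fun w => w * w == 1).filter fun w =>
      w != 1 && w * xJ' 0 j == xJ' 0 j * w).all fun w =>
        ((el4.filter fun w' => w' * w' == 1).filter fun w' =>
          w' != 1 && w' * xJ' 0 j == xJ' 0 j * w').all fun w' =>
            w * w' != w' * w || w == w')) = true := by decide +kernel

theorem b_not_a : (el4.all fun w =>
    w * (av 0 * av 1) * w⁻¹ != av 2 && w * (av 0 * av 1) * w⁻¹ != (av 2)⁻¹) = true := by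
  decide +kernel

/-- The non-trivial elements of the fours `{0,1,2,x}` of `A₆`. -/
def fours : List (Perm (Fin 6)) :=
  [swap 0 1 * swap 2 3, swap 0 2 * swap 1 3, swap 0 3 * swap 1 2,
    swap 0 1 * swap 2 4, swap 0 2 * swap 1 4, swap 0 4 * swap 1 2,
    swap 0 1 * swap 2 5, swap 0 2 * swap 1 5, swap 0 5 * swap 1 2]

/-- The condition on elements of a group on which `(0 1 2)` acts without fixed points. -/
def fpfCond (w : Perm (Fin 6)) : Prop := (w * p0) ^ 3 = 1 ∧ w ^ 40 = 1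

instance : DecidablePred fpfCond := fun _ => inferInstanceAs (Decidable (_ ∧ _))

theorem fours_of_cond : ∀ w : Perm (Fin 6), fpfCond w → fpfCond (w * (p0 * w * p0⁻¹)) →
    Perm.sign w = 1 → w = 1 ∨ w ∈ fours := by decide +kernel

theorem fours_mul : ∀ a ∈ fours, ∀ b ∈ fours, (a * b = 1 ∨ a * b ∈ fours) →
    b = a ∨ b = p0 * a * p0⁻¹ ∨ b = p0⁻¹ * a * p0 := by decide +kernel

theorem fours_sq : ∀ a ∈ fours, a * a = 1 := by decide +kernel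

theorem fours_cases : ∀ a ∈ fours,
    (a * swap 3 4 = swap 3 4 * a ∧ a * p0 * a⁻¹ ≠ p0 ∧ a * p0 * a⁻¹ ≠ p0⁻¹) ∨
    ∃ i : Fin 3, p0 ^ i.val * a * (p0 ^ i.val)⁻¹ = swap 0 1 * swap 2 3 ∨
      p0 ^ i.val * a * (p0 ^ i.val)⁻¹ = swap 0 1 * swap 2 4 := by decide +kernel

theorem word340 : p0 * (swap 0 1 * swap 2 4) * (swap 0 1 * swap 2 3) * p0⁻¹ = swap 3 4 * swap 4 0 ∧
    (swap 0 1 * swap 3 4) * (swap 0 1 * swap 2 3) * (swap 0 1 * swap 3 4)⁻¹ =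
      (swap 0 1 * swap 2 4 : Perm (Fin 6)) := by decide +kernel

end CfsgLib.AltNine
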