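import Cfsg.Agent.Lib.Recognition.AltNine.Coord
import Cfsg.Agent.Lib.Recognition.AltNine.FoursModel

/-!
# Elements and centralizers used for the two four-groups
-/

set_option autoImplicit false
set_option maxRecDepth 10000
set_option linter.style.haveILetI false

namespace CfsgLib.AltNine

open Cfsg Equiv Subgroup CfsgLib.ThreeCubed CfsgLib.ThreeCubedWreath

universe u

attribute [local irreducible] el4 M4set

theorem sW_mem : sW ∈ M4 := mem_M4_iff.2 W_facts.1

theorem xW_mem : xW ∈ M4 := mem_M4_iff.2 W_facts.2.1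

theorem xJ_mem (i j : Fin 3) : xJ i j ∈ M4 :=
  mul_mem (pow_mem (av_mem 1) _) (pow_mem (av_mem 2) _)

theorem xJ'_mem (i j : Fin 3) : xJ' i j ∈ M4 :=
  mul_mem (pow_mem (mul_mem (av_mem 0) (av_mem 1)) _) (pow_mem (av_mem 2) _)

/-- An element of order prime to three is a power of its cube. -/
theorem exists_pow_cube {G : Type*} [Group G] [Finite G] {y : G} (h : (orderOf y).Coprime 3) :
    ∃ m : ℕ, (y ^ 3) ^ m = y :=
  exists_pow_eq_self_of_coprime h.symm

/-- The elements of a group generated by two commuting elements of order three. -/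
theorem mem_pair_three {G : Type*} [Group G] {a c : G} (ha : a ^ 3 = 1) (hc : c ^ 3 = 1)
    (hac : Commute a c) {b : G} (hb : b ∈ closure ({a, c} : Set G)) :
    ∃ i j : Fin 3, b = a ^ i.val * c ^ j.val := by
  have red : ∀ z : G, z ^ 3 = 1 → ∀ n : ℤ, ∃ i : Fin 3, z ^ n = z ^ i.val := fun z hz n =>
    ⟨⟨(n % 3).toNat, by omega⟩, by
      conv_lhs => rw [show n = (((n % 3).toNat : ℕ) : ℤ) + 3 * (n / 3) by omega]
      rw [zpow_add, zpow_mul, zpow_natCast]
      simp [hz, zpow_ofNat]⟩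
  obtain ⟨i, j, rfl⟩ : ∃ i j : ℤ, b = a ^ i * c ^ j := by
    induction hb using closure_induction with
    | mem x hx =>
      rcases hx with rfl | rfl
      · exact ⟨1, 0, by simp⟩
      · exact ⟨0, 1, by simp⟩
    | one => exact ⟨0, 0, by simp⟩
    | mul x y _ _ hx hy =>
      obtain ⟨i, j, rfl⟩ := hx
      obtain ⟨k, l, rfl⟩ := hy
      refine ⟨i + k, j + l, ?_⟩
      rw [zpow_add, zpow_add, mul_assoc, ← mul_assoc (c ^ j), (hac.symm.zpow_zpow j k).eq]
      group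
    | inv x _ hx =>
      obtain ⟨i, j, rfl⟩ := hx
      refine ⟨-i, -j, ?_⟩
      rw [mul_inv_rev, ← zpow_neg, ← zpow_neg, (hac.symm.zpow_zpow (-j) (-i)).eq]
  obtain ⟨i', hi⟩ := red a ha i
  obtain ⟨j', hj⟩ := red c hc j
  exact ⟨i', j', by rw [hi, hj]⟩

namespace Coord

variable {G : Type u} [Group G] {S : Setup G} (C : Coord S)

/-- The cycle of a block. -/
noncomputable abbrev A (_ : Coord S) (k : Fin 3) : G := ge S.e (av k)
/-- `(2 3)(4 5)`. -/
abbrev u : G := C.φ 2 aU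
/-- `(2 4)(3 5)`. -/
abbrev v : G := C.φ 2 aV
/-- `(0 1)(2 3)`. -/
abbrev v' : G := C.φ 2 aV'
/-- `(0 2 4)(1 3 5)`. -/
abbrev g : G := C.φ 2 aG
/-- `(0 1)(6 7)`. -/
noncomputable abbrev s (_ : Coord S) : G := ge S.e sW

theorem phi_commute (k : Fin 3) {π ρ : alternatingGroup (Fin 6)} :
    Commute (C.φ k π) (C.φ k ρ) ↔ (π : Perm (Fin 6)) * ρ = ρ * π := by
  constructor
  · intro h
    have := C.inj k (show C.φ k (π * ρ) = C.φ k (ρ * π) by rw [map_mul, map_mul]; exact h.eq)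
    exact congrArg Subtype.val this
  · intro h
    exact (show Commute π ρ from Subtype.ext h).map (C.φ k)

theorem A_cube (k : Fin 3) : C.A k ^ 3 = 1 := by
  rw [← S.ge_pow (av_mem k), show av k ^ 3 = 1 by revert k; decide +kernel, S.ge_one]

theorem A_ne_one (k : Fin 3) : C.A k ≠ 1 := fun h => by
  have hav : ∀ j : Fin 3, av j ≠ 1 := by decide +kernel
  exact hav k (S.ge_inj (av_mem k) (one_mem _) (h.trans S.ge_one.symm))

theorem A_comm (k l : Fin 3) : Commute (C.A k) (C.A l) :=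
  S.ge_comm (av_mem k) (av_mem l) (by revert k l; decide +kernel)

theorem phi1_p0 : C.φ 1 aP0 = C.A 2 := C.agree 1 _ (av_mem 2) aP0 (psi_facts.2.2.2.2 1).1

theorem phi2_p1 : C.φ 2 aP1 = C.A 1 := C.agree 2 _ (av_mem 1) aP1 (psi_facts.2.2.2.2 2).2

theorem phi2_p0 : C.φ 2 aP0 = C.A 0 := C.agree 2 _ (av_mem 0) aP0 (psi_facts.2.2.2.2 2).1

/-- An element of order prime to three centralizing a block cycle lies in the `A₆`. -/
theorem mem_range_of_coprime [Finite G] (k : Fin 3) {y : G} (hy : Commute y (C.A k))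
    (ho : (orderOf y).Coprime 3) : ∃ π, C.φ k π = y := by
  obtain ⟨i, π, rfl⟩ := C.decomp k y hy
  obtain ⟨m, hm⟩ := exists_pow_cube ho
  refine ⟨(π ^ 3) ^ m, ?_⟩
  conv_rhs => rw [← hm]
  rw [((C.comm k π).pow_left _).mul_pow, ← pow_mul (C.A k), mul_comm i.val, pow_mul, C.A_cube,
    one_pow, one_mul, map_pow, map_pow]

/-- The centralizers in `C(a)` of elements of the `A₆`. -/
theorem decomp_commute (k : Fin 3) {y : G} (hy : Commute y (C.A k))
    {ρ : alternatingGroup (Fin 6)} (h : Commute y (C.φ k ρ)) :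
    ∃ i : Fin 3, ∃ π : alternatingGroup (Fin 6), y = C.A k ^ i.val * C.φ k π ∧
      (π : Perm (Fin 6)) * ρ = ρ * π := by
  obtain ⟨i, π, rfl⟩ := C.decomp k y hy
  refine ⟨i, π, rfl, (C.phi_commute k).1 ?_⟩
  have h1 : Commute ((C.A k ^ i.val)⁻¹) (C.φ k ρ) := ((C.comm k ρ).pow_left _).inv_left
  simpa using h1.mul_left h

theorem s_mul_self : C.s * C.s = 1 := by
  rw [← S.ge_mul sW_mem sW_mem, W_facts.2.2.1, S.ge_one]

theorem s_conj_A2 : C.s * C.A 2 * C.s⁻¹ = (C.A 2)⁻¹ := by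
  rw [← S.ge_conj sW_mem (av_mem 2), W_facts.2.2.2.1, S.ge_inv (av_mem 2)]

theorem s_comm_A1 : Commute C.s (C.A 1) :=
  S.ge_comm sW_mem (av_mem 1) W_facts.2.2.2.2.1

theorem s_conj (π : alternatingGroup (Fin 6)) :
    C.s * C.φ 2 π * C.s⁻¹ = C.φ 2 (MulAut.conjNormal (swap (0 : Fin 6) 1) π) :=
  C.equiv 2 2 sW sW_mem _ W_facts.2.2.2.2.2.1 π

theorem s_commute {π : alternatingGroup (Fin 6)}
    (h : swap (0 : Fin 6) 1 * (π : Perm (Fin 6)) * swap (0 : Fin 6) 1 = π) : Commute C.s (C.φ 2 π) := by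
  have h1 := C.s_conj π
  rw [show MulAut.conjNormal (swap (0 : Fin 6) 1) π = π from Subtype.ext (by
    rw [MulAut.conjNormal_apply, swap_inv]; exact h)] at h1
  exact mul_inv_eq_iff_eq_mul.1 h1

/-- `φ k` of a product of two commuting elements, as permutations. -/
theorem phi_mul_eq (k : Fin 3) {π ρ τ : alternatingGroup (Fin 6)}
    (h : (π : Perm (Fin 6)) * ρ = τ) : C.φ k π * C.φ k ρ = C.φ k τ := by
  rw [← map_mul]
  exact congrArg (C.φ k) (Subtype.ext h)

/-- An element of `H` centralizing an element of `J`. -/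
theorem exists_of_commute {x : W} (hx : x ∈ M4) (hH : centralizer ({ge S.e x} : Set G) ≤ S.H)
    {y : G} (hy : Commute y (ge S.e x)) : ∃ w ∈ M4, y = ge S.e w ∧ w * x = x * w := by
  obtain ⟨w, hw, rfl⟩ := S.exists_ge (hH (mem_centralizer_singleton_iff.2 hy.eq))
  refine ⟨w, hw, rfl, S.ge_inj (mul_mem hw hx) (mul_mem hx hw) ?_⟩
  rw [S.ge_mul hw hx, S.ge_mul hx hw]
  exact hy.eq

theorem centralizer_J_le [Finite G] (hB : centralizer ({S.b} : Set G) ≤ S.H) {x : W}
    (hp : ∃ p : Fin 2, ∃ a b c : Fin 2, ∃ k : Fin 3,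
      conjC 0 a b k c * jrep p.succ * (conjC 0 a b k c)⁻¹ = x) :
    centralizer ({ge S.e x} : Set G) ≤ S.H := by
  obtain ⟨p, a, b, c, k, rfl⟩ := hp
  have hm : conjC 0 a b k c ∈ M4 := conjC_mem' _ _ _ _ _
  have hp : centralizer ({ge S.e (jrep p.succ)} : Set G) ≤ S.H := by
    obtain rfl | rfl : p = 0 ∨ p = 1 := by omega
    · exact hB
    · exact S.centralizer_c_le
  intro y hy
  rw [mem_centralizer_singleton_iff, S.ge_conj hm (isJ_iff.1 (jrep_mem p.succ).1).1] at hy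
  set m := ge S.e (conjC 0 a b k c)
  set z := ge S.e (jrep p.succ)
  have h1 : m⁻¹ * y * m ∈ S.H := hp (mem_centralizer_singleton_iff.2 (by
    calc m⁻¹ * y * m * z = m⁻¹ * (y * (m * z * m⁻¹)) * m := by group
      _ = m⁻¹ * (m * z * m⁻¹ * y) * m := by rw [hy]
      _ = z * (m⁻¹ * y * m) := by group))
  rw [show y = m * (m⁻¹ * y * m) * m⁻¹ by group]
  exact mul_mem (mul_mem (S.ge_mem _) h1) (inv_mem (S.ge_mem _))

end Coord

end CfsgLib.AltNine
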