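import Cfsg.Agent.Lib.Recognition.AltNine.FourSub

/-!
# Two classes of involutions, and the centralizer of the first four-group is large
-/

set_option autoImplicit false
set_option maxRecDepth 10000
set_option linter.style.haveILetI false

namespace CfsgLib.AltNine

open Cfsg Equiv Subgroup CfsgLib.ThreeCubed CfsgLib.ThreeCubedWreath
open scoped Pointwise

universe u

attribute [local irreducible] el4 M4set

theorem isJ_facts : isJ (av 0 * av 1) ∧ (∀ k : Fin 3, isJ (av 2 ^ k.val)) := by decide +kernel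

theorem d8_facts : aV * aV' * (aV * aV') = aU ∧ aV' * aV * aV'⁻¹ = aU * aV ∧
    (∀ i j k i' j' k' : Fin 2, aU ^ i.val * aV ^ j.val * aV' ^ k.val =
      aU ^ i'.val * aV ^ j'.val * aV' ^ k'.val → i = i' ∧ j = j' ∧ k = k') := by decide +kernel

namespace Coord

variable {G : Type u} [Group G] [Finite G] {S : Setup G} (C : Coord S)

theorem isConj_u_of_mem {π : alternatingGroup (Fin 6)}
    (h : (π : Perm (Fin 6)) ∈ ([v6, u6 * v6, v6', u6 * v6', swap 0 1 * swap 3 4] : List (Perm (Fin 6)))) :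
    IsConj C.u (C.φ 2 π) := by
  obtain ⟨σ, hσ, hs⟩ := tau_conj _ h
  refine isConj_iff.2 ⟨C.φ 2 ⟨σ, Perm.mem_alternatingGroup.2 hs⟩, ?_⟩
  rw [← map_inv, ← map_mul, ← map_mul]
  exact congrArg (C.φ 2) (Subtype.ext hσ)

theorem inl_g4 : ∃ π : alternatingGroup (Fin 6), (π : Perm (Fin 6)) = swap 0 1 * swap 3 4 ∧
    C.φ 2 π = ge S.e (SemidirectProduct.inl g4) :=
  ⟨⟨swap 0 1 * swap 3 4, Perm.mem_alternatingGroup.2 (by decide +kernel)⟩, rfl,
    C.agree 2 _ (mem_M4_iff.2 (by decide +kernel)) _ W_facts.2.2.2.2.2.2.2.2.2.1⟩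

theorem isConj_u_s : IsConj C.u C.s := by
  obtain ⟨π, hπ, e⟩ := C.inl_g4
  refine (C.isConj_u_of_mem (π := π) (by rw [hπ]; simp)).trans ?_
  obtain ⟨w, hw, hw'⟩ := List.any_eq_true.1 g4_conj.1
  have hw := mem_el4.1 hw
  refine isConj_iff.2 ⟨ge S.e w, ?_⟩
  rw [e, ← S.ge_conj hw (mem_M4_iff.2 (by decide +kernel)), beq_iff_eq.1 hw']

/-- The involutions `φ₂(d)·(0 1)(6 7)` with two transpositions. -/
theorem isConj_u_mul_s {π : alternatingGroup (Fin 6)}
    (h : (π : Perm (Fin 6)) = v6' ∨ (π : Perm (Fin 6)) = u6 * v6') :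
    IsConj C.u (C.φ 2 π * C.s) := by
  obtain ⟨ρ, hρ, e⟩ := C.inl_g4
  obtain ⟨σ, hσ, hσc, hs⟩ := tau_conj' _ (by simpa using h)
  set P := C.φ 2 ⟨σ, Perm.mem_alternatingGroup.2 hs⟩
  have h4 : (SemidirectProduct.inl g4 : W) ∈ M4 := mem_M4_iff.2 (by decide +kernel)
  have hP : P * (C.φ 2 π * C.s) * P⁻¹ = ge S.e (SemidirectProduct.inl g4 * sW) := by
    have hc : Commute C.s P := C.s_commute hσc
    have e2 : P * C.φ 2 π * P⁻¹ = C.φ 2 ρ := by
      rw [← map_inv, ← map_mul, ← map_mul]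
      exact congrArg (C.φ 2) (Subtype.ext (hσ.trans hρ.symm))
    rw [S.ge_mul h4 sW_mem, ← e, ← e2, mul_assoc P (C.φ 2 π) P⁻¹]
    rw [mul_assoc P, mul_assoc P, mul_assoc (C.φ 2 π) P⁻¹, mul_assoc (C.φ 2 π) C.s P⁻¹,
      hc.inv_right.eq]
  obtain ⟨w, hw, hw'⟩ := List.any_eq_true.1 g4_conj.2
  have hw := mem_el4.1 hw
  have h1 : IsConj C.u (ge S.e (SemidirectProduct.inl g4)) :=
    e ▸ C.isConj_u_of_mem (π := ρ) (by rw [hρ]; simp)
  refine (h1.trans (isConj_iff.2 ⟨ge S.e w, ?_⟩)).trans (isConj_iff.2 ⟨P, hP⟩).symm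
  rw [← S.ge_conj hw h4, beq_iff_eq.1 hw']

theorem isConj_sigma {π : alternatingGroup (Fin 6)}
    (h : (π : Perm (Fin 6)) = v6 ∨ (π : Perm (Fin 6)) = u6 * v6) :
    IsConj (C.u * C.s) (C.φ 2 π * C.s) := by
  obtain ⟨σ, hσ, hσc, hs⟩ := sigma_conj _ (by simpa using h)
  set P := C.φ 2 ⟨σ, Perm.mem_alternatingGroup.2 hs⟩
  refine isConj_iff.2 ⟨P, ?_⟩
  have hc : Commute C.s P := C.s_commute hσc
  have e2 : P * C.u * P⁻¹ = C.φ 2 π := by
    rw [← map_inv, ← map_mul, ← map_mul]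
    exact congrArg (C.φ 2) (Subtype.ext hσ)
  rw [← e2]
  calc P * (C.u * C.s) * P⁻¹ = P * C.u * (C.s * P⁻¹) := by group
    _ = _ := by rw [hc.inv_right.eq, ← mul_assoc]

theorem s_ne_phi (π : alternatingGroup (Fin 6)) : C.s ≠ C.φ 2 π := fun h => C.A_ne_one 2 (by
  have h2 := C.s_conj_A2
  rw [h, (C.comm 2 π).symm.eq, mul_inv_cancel_right] at h2
  have h3 := C.A_cube 2
  rwa [pow_succ, pow_two, show C.A 2 * C.A 2 = 1 from mul_eq_one_iff_eq_inv.2 h2,
    one_mul] at h3)

/-- The two classes of involutions. -/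
theorem not_isConj_sigma (hB : centralizer ({S.b} : Set G) ≤ S.H) :
    ¬ IsConj C.u (C.u * C.s) := by
  haveI : Fact (Nat.Prime 3) := ⟨Nat.prime_three⟩
  intro hconj
  obtain ⟨h, hh⟩ := isConj_iff.1 hconj.symm
  set X := centralizer ({C.u} : Set G) with hX
  have memX : ∀ {y : G}, y ∈ X ↔ Commute y C.u := fun {y} => mem_centralizer_singleton_iff
  obtain ⟨-, -, u2, -⟩ := four_facts
  -- every element of order three of `C(u)` is conjugate to a power of `(6 7 8)`
  have hd : IsPGroup 3 ((zpowers (C.A 2)).subgroupOf X) := by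
    refine IsPGroup.of_injective ?_ (subgroupOfEquivOfLe ?_).toMonoidHom (MulEquiv.injective _)
    · refine IsPGroup.of_card (n := 1) ?_
      rw [Nat.card_zpowers, pow_one]
      exact orderOf_eq_prime (C.A_cube 2) (C.A_ne_one 2)
    · exact zpowers_le.2 (memX.2 (C.comm 2 _))
  obtain ⟨P, hP⟩ := hd.exists_le_sylow
  have hpow : ∀ y : G, Commute y C.u → Commute y (C.A 2) → (∃ k, y ^ 3 ^ k = 1) →
      y ∈ zpowers (C.A 2) := by
    intro y hu hc hp
    obtain ⟨i, π, rfl, hπ⟩ := C.decomp_commute 2 hc hu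
    obtain ⟨k, hk⟩ := hp
    obtain ⟨-, h4, -⟩ := cent_u _ hπ (Perm.mem_alternatingGroup.1 π.2)
    have e4 : (C.A 2 ^ i.val * C.φ 2 π) ^ 4 = C.A 2 ^ (i.val * 4) := by
      rw [((C.comm 2 π).pow_left _).mul_pow, ← pow_mul, ← map_pow, show π ^ 4 = 1 from Subtype.ext (by
        rw [SubgroupClass.coe_pow, show (4 : ℕ) = 2 + 2 from rfl, pow_add, pow_two]; exact h4),
        map_one, mul_one]
    obtain ⟨m, hm⟩ := exists_pow_eq_self_of_coprime (x := C.A 2 ^ i.val * C.φ 2 π) (n := 4)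
      ((Nat.Coprime.pow_right k (by norm_num : (4 : ℕ).Coprime 3)).coprime_dvd_right
        (orderOf_dvd_of_pow_eq_one hk))
    rw [← hm, e4, ← pow_mul]
    exact pow_mem (mem_zpowers _) _
  have hPle : ∀ y ∈ (P : Subgroup X), ((y : X) : G) ∈ zpowers (C.A 2) := by
    set dX : X := ⟨C.A 2, memX.2 (C.comm 2 _)⟩
    have hdP : dX ∈ (P : Subgroup X) := hP (show C.A 2 ∈ zpowers (C.A 2) from mem_zpowers _)
    haveI : Nontrivial (P : Subgroup X) := ⟨⟨⟨dX, hdP⟩, 1, fun e => C.A_ne_one 2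
      (congrArg (fun z : (P : Subgroup X) => ((z : X) : G)) e)⟩⟩
    haveI : Nontrivial (Subgroup.center (P : Subgroup X)) := P.isPGroup'.center_nontrivial
    obtain ⟨⟨z, hz⟩, hz1⟩ := exists_ne (1 : Subgroup.center (P : Subgroup X))
    have hzc : ∀ y : (P : Subgroup X), Commute ((y : X) : G) ((z : X) : G) := fun y =>
      congrArg (fun t : (P : Subgroup X) => ((t : X) : G)) (mem_center_iff.1 hz y)
    have hpe : ∀ y : (P : Subgroup X), ∃ k, ((y : X) : G) ^ 3 ^ k = 1 := fun y => by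
      obtain ⟨k, hk⟩ := P.isPGroup' y
      exact ⟨k, congrArg (fun t : (P : Subgroup X) => ((t : X) : G)) hk⟩
    have hzA : ((z : X) : G) ∈ zpowers (C.A 2) :=
      hpow _ (memX.1 (z : X).2) (hzc ⟨dX, hdP⟩).symm (hpe z)
    have hzne : ((z : X) : G) ≠ 1 := fun e => hz1 (Subtype.ext (Subtype.ext (Subtype.ext e)))
    have hAz : C.A 2 ∈ zpowers ((z : X) : G) := by
      have hle : zpowers ((z : X) : G) ≤ zpowers (C.A 2) := zpowers_le.2 hzA
      have ho : orderOf (C.A 2) = 3 := orderOf_eq_prime (C.A_cube 2) (C.A_ne_one 2)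
      have hd : Nat.card (zpowers ((z : X) : G)) ∣ 3 := by
        have := card_dvd_of_le hle
        rwa [Nat.card_zpowers (C.A 2), ho] at this
      rcases (Nat.dvd_prime Nat.prime_three).1 hd with h1 | h1
      · exact absurd (Subgroup.card_eq_one.1 h1) (fun e => hzne
          (mem_bot.1 (e ▸ mem_zpowers _)))
      · rw [Subgroup.eq_of_le_of_card_ge hle (by rw [h1, Nat.card_zpowers, ho])]
        exact mem_zpowers _
    intro y hy
    obtain ⟨n, hn⟩ := hAz
    exact hpow _ (memX.1 y.2) (by rw [← hn]; exact (hzc ⟨y, hy⟩).zpow_right n) (hpe ⟨y, hy⟩)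
  -- `(0 2 4)(1 3 5)` centralizes `u·s`
  have hg3 : C.g ^ 3 = 1 := by
    rw [← map_pow, show aG ^ 3 = 1 by decide +kernel, map_one]
  have hgs : Commute (C.u * C.s) C.g := by
    obtain ⟨-, -, -, -, -, -, -, -, -, -, -, -, -, -, hug, -⟩ := four_facts
    have hs := C.s_conj aG
    have h1 : C.u * C.s * C.g * (C.u * C.s)⁻¹ = C.g := by
      rw [show C.u * C.s * C.g * (C.u * C.s)⁻¹ = C.u * (C.s * C.g * C.s⁻¹) * C.u⁻¹ by group, hs,
        ← map_inv, ← map_mul, ← map_mul]
      refine congrArg (C.φ 2) (Subtype.ext ?_)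
      rw [Subgroup.coe_mul, Subgroup.coe_mul, MulAut.conjNormal_apply, Subgroup.coe_inv]
      show u6 * (swap 0 1 * g6 * (swap 0 1)⁻¹) * u6⁻¹ = g6
      conv_rhs => rw [← hug]
      group
    exact mul_inv_eq_iff_eq_mul.1 h1
  have hgX : h * C.g * h⁻¹ ∈ X := memX.2 (by
    have h1 := hgs.symm.map (MulAut.conj h).toMonoidHom
    simp only [MulEquiv.coe_toMonoidHom, MulAut.conj_apply] at h1
    rwa [hh] at h1)
  set gX : X := ⟨_, hgX⟩
  have hgX3 : gX ^ 3 = 1 := Subtype.ext (by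
    show (h * C.g * h⁻¹) ^ 3 = 1
    rw [conj_pow, hg3, mul_one, mul_inv_cancel])
  have hgp : IsPGroup 3 (zpowers gX) := by
    intro y
    obtain ⟨n, hn⟩ := y.2
    refine ⟨1, Subtype.ext ?_⟩
    rw [pow_one, SubgroupClass.coe_pow, ← hn, ← zpow_natCast (gX ^ n), ← zpow_mul, mul_comm,
      zpow_mul, zpow_natCast, hgX3, one_zpow]
    rfl
  obtain ⟨Q, hQ⟩ := hgp.exists_le_sylow
  obtain ⟨y, hy⟩ := MulAction.exists_smul_eq X Q P
  have hmem : ((y * gX * y⁻¹ : X) : G) ∈ zpowers (C.A 2) := hPle _ (by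
    rw [← hy, Sylow.coe_subgroup_smul]
    exact ⟨gX, hQ (mem_zpowers _), rfl⟩)
  obtain ⟨k, hk⟩ : ∃ k : Fin 3, ((y * gX * y⁻¹ : X) : G) = C.A 2 ^ k.val := by
    obtain ⟨i, j, e⟩ := mem_pair_three (C.A_cube 2) (C.A_cube 2) (Commute.refl _)
      (show ((y * gX * y⁻¹ : X) : G) ∈ closure ({C.A 2, C.A 2} : Set G) from
        zpowers_le.2 (subset_closure (Set.mem_insert _ _)) hmem)
    refine ⟨⟨(i.val + j.val) % 3, Nat.mod_lt _ (by norm_num)⟩, ?_⟩
    rw [e, ← pow_add]
    exact pow_eq_pow_mod _ (C.A_cube 2)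
  obtain ⟨σ, hσ, hσs⟩ := g6_conj
  set R := C.φ 2 ⟨σ, Perm.mem_alternatingGroup.2 hσs⟩
  have hRg : R * (C.A 0 * C.A 1) * R⁻¹ = C.g := by
    rw [← C.phi2_p0, ← C.phi2_p1, ← map_mul, ← map_inv, ← map_mul, ← map_mul]
    exact congrArg (C.φ 2) (Subtype.ext hσ)
  have hab : av 0 * av 1 ∈ M4 := mul_mem (av_mem 0) (av_mem 1)
  have hjJ : ge S.e (av 0 * av 1) ∈ S.J :=
    (S.memJ _).2 (by rw [wim_el S.e (mem_M4_iff.1 hab)]; exact isJ_facts.1)
  have hkJ : ge S.e (av 2 ^ k.val) ∈ S.J :=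
    (S.memJ _).2 (by rw [wim_el S.e (mem_M4_iff.1 (pow_mem (av_mem 2) _))]; exact isJ_facts.2 k)
  have heq : (y : G) * h * R * ge S.e (av 0 * av 1) * ((y : G) * h * R)⁻¹ =
      ge S.e (av 2 ^ k.val) := by
    rw [S.ge_pow (av_mem 2), S.ge_mul (av_mem 0) (av_mem 1), ← hk]
    show _ = (y : G) * (h * C.g * h⁻¹) * (y : G)⁻¹
    rw [← hRg]
    group
  obtain ⟨w₀, hw₀, hw₁⟩ := S.fusion hjJ (heq ▸ hkJ)
  obtain ⟨w, hw, rfl⟩ := S.exists_ge hw₀
  rw [heq, ← S.ge_conj hw hab] at hw₁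
  have hw2 := S.ge_inj (mul_mem (mul_mem hw hab) (inv_mem hw)) (pow_mem (av_mem 2) _) hw₁
  have hne := List.all_eq_true.1 b_not_a w (mem_el4.2 hw)
  simp only [Bool.and_eq_true, bne_iff_ne] at hne
  obtain hk0 | hk1 | hk2 : k.val = 0 ∨ k.val = 1 ∨ k.val = 2 := by omega
  · rw [hk0, pow_zero, mul_inv_eq_one, mul_eq_left] at hw2
    exact absurd hw2 (by decide +kernel)
  · exact hne.1 (by rw [hw2, hk1, pow_one])
  · exact hne.2 (by rw [hw2, hk2]; decide +kernel)

/-- The centralizer of the first four-group meets `L₁` in more than `⟨(3 4 5)⟩`. -/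
theorem exists_fixed (hB : centralizer ({S.b} : Set G) ≤ S.H) :
    ∃ π : alternatingGroup (Fin 6), (π : Perm (Fin 6)) ∈ fours ∧ C.φ 1 π ∈ C.CV := by
  by_contra hno
  push_neg at hno
  haveI : Fact (Nat.Prime 2) := ⟨Nat.prime_two⟩
  have h24 : Nat.card C.CV ≤ 24 := by
    have h := card_le_of_invariant C.CV C.V (C.A 2) (C.A 1) 4 C.V_le_CV
      (IsPGroup.of_card (n := 2) C.card_V) (fun z hz x hx => C.commute_V hz hx) C.A2_mem_CV
      (C.A_cube 2) (C.A_ne_one 2) (fun x hx hc => C.cent_V_A2 hx hc) (C.A_cube 1) C.A1_normalizes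
      (C.A_comm 1 2) (fun Y h1 h2 h3 h4 h5 => by
        obtain ⟨hle, hW⟩ := C.invariant_sub hB Y h1 h2 h3 h4 h5
        have hWbot : Y ⊓ centralizer ({C.A 1} : Set G) = ⊥ := by
          refine eq_bot_iff.2 fun y hy => ?_
          obtain ⟨π, rfl, h | h⟩ := hW y hy
          · rw [show π = 1 from Subtype.ext h, map_one]; exact one_mem _
          · exact absurd (h1 hy.1) (hno π h)
        rw [hWbot, sup_bot_eq] at hle
        have hd := card_dvd_of_le hle
        rw [C.card_V] at hd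
        exact ⟨Nat.le_of_dvd (by norm_num) hd, fun h7 => absurd (h7.trans hd) (by norm_num)⟩)
    rw [C.card_V] at h
    rcases h with h | ⟨h, -⟩ <;> omega
  obtain ⟨hvv, hv'v, hd8⟩ := d8_facts
  obtain ⟨huv, huv', u2, v2, v'2, une, vne, -⟩ := four_facts
  obtain ⟨hsu, hsv', hsv⟩ := C.s_commute_V'
  -- the subgroup `D₈ × ⟨s⟩`
  set D := (centralizer ({aU} : Set (alternatingGroup (Fin 6)))).map (C.φ 2) with hD
  have hDmem : ∀ π : alternatingGroup (Fin 6), π * aU = aU * π → C.φ 2 π ∈ D := fun π h =>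
    ⟨π, mem_centralizer_singleton_iff.2 h, rfl⟩
  have hsD : ∀ z ∈ D, Commute C.s z := by
    rintro _ ⟨π, hπ, rfl⟩
    exact C.s_commute (cent_u _ (congrArg Subtype.val (mem_centralizer_singleton_iff.1 hπ))
      (Perm.mem_alternatingGroup.1 π.2)).2.2.1
  set T0 := D ⊔ zpowers C.s with hT0
  have hTel : ∀ y ∈ T0, ∃ π : alternatingGroup (Fin 6), ∃ j : Fin 2,
      π * aU = aU * π ∧ y = C.φ 2 π * C.s ^ j.val := by
    intro y hy
    have hn : D ≤ normalizer (zpowers C.s : Set G) := by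
      intro z hz
      refine mem_normalizer_iff.2 fun x => ?_
      have key : ∀ x ∈ zpowers C.s, z * x * z⁻¹ = x := by
        rintro x ⟨n, rfl⟩
        show z * C.s ^ n * z⁻¹ = C.s ^ n
        rw [((hsD z hz).zpow_left n).symm.eq, mul_inv_cancel_right]
      refine ⟨fun hx => (key x hx).symm ▸ hx, fun hx => ?_⟩
      obtain ⟨n, hn⟩ := hx
      change C.s ^ n = z * x * z⁻¹ at hn
      refine ⟨n, ?_⟩
      show C.s ^ n = x
      calc C.s ^ n = z⁻¹ * (C.s ^ n * z) := by rw [((hsD z hz).zpow_left n).eq, inv_mul_cancel_left]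
        _ = x := by rw [hn]; group
    rw [hT0, ← SetLike.mem_coe, coe_mul_of_left_le_normalizer_right _ _ hn] at hy
    obtain ⟨_, ⟨π, hπ, rfl⟩, _, ⟨n, rfl⟩, rfl⟩ := hy
    have hπ' := mem_centralizer_singleton_iff.1 hπ
    rcases Int.even_or_odd n with ⟨m, rfl⟩ | ⟨m, rfl⟩
    · refine ⟨π, 0, hπ', ?_⟩
      show _ * C.s ^ (m + m) = _
      rw [zpow_add, ← (Commute.refl C.s).mul_zpow, C.s_mul_self, one_zpow]; simp
    · refine ⟨π, 1, hπ', ?_⟩
      show _ * C.s ^ (2 * m + 1) = _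
      rw [zpow_add, zpow_mul, show C.s ^ (2 : ℤ) = 1 by rw [zpow_two, C.s_mul_self], one_zpow]
      simp
  have hsT : C.s ∈ T0 := mem_sup_right (mem_zpowers _)
  have huT : C.u ∈ T0 := mem_sup_left (hDmem _ rfl)
  have hvT : C.v ∈ T0 := mem_sup_left (hDmem _ (Subtype.ext huv.symm))
  have hv'T : C.v' ∈ T0 := mem_sup_left (hDmem _ (Subtype.ext huv'.symm))
  have hTu : ∀ y ∈ T0, Commute y C.u := by
    intro y hy
    obtain ⟨π, j, hπ, rfl⟩ := hTel y hy
    exact ((show Commute π aU from hπ).map (C.φ 2)).mul_left (hsu.pow_left _)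
  have hTs : ∀ y ∈ T0, Commute y C.s := by
    intro y hy
    obtain ⟨π, j, hπ, rfl⟩ := hTel y hy
    exact (hsD _ (hDmem π hπ)).symm.mul_left ((Commute.refl C.s).pow_left _)
  have hsq : ∀ y ∈ T0, y * y = 1 ∨ y * y = C.u := by
    intro y hy
    obtain ⟨π, j, hπ, rfl⟩ := hTel y hy
    have hc : Commute (C.φ 2 π) (C.s ^ j.val) := ((hsD _ (hDmem π hπ)).pow_left _).symm
    rw [← pow_two, hc.mul_pow, pow_two, pow_two, ← pow_add,
      show C.s ^ (j.val + j.val) = 1 by rw [← two_mul, pow_mul, pow_two, C.s_mul_self, one_pow],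
      mul_one, ← map_mul]
    rcases (cent_u _ (congrArg Subtype.val hπ) (Perm.mem_alternatingGroup.1 π.2)).1 with e | e
    · exact Or.inl (by rw [show π * π = 1 from Subtype.ext e, map_one])
    · exact Or.inr (by rw [show π * π = aU from Subtype.ext e])
  have hT2 : IsPGroup 2 T0 := fun y => ⟨2, Subtype.ext (by
    have hy2 := hsq y y.2
    rw [SubgroupClass.coe_pow, show 2 ^ 2 = 2 * 2 from rfl, pow_mul, pow_two, pow_two]
    rcases hy2 with e | e <;> rw [e]
    · simp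
    · rw [← map_mul, show aU * aU = 1 from Subtype.ext u2, map_one]; rfl)⟩
  have hT16 : 16 ≤ Nat.card T0 := by
    let f : Fin 2 × Fin 2 × Fin 2 × Fin 2 → T0 := fun t =>
      ⟨C.φ 2 (aU ^ t.1.val * aV ^ t.2.1.val * aV' ^ t.2.2.1.val) * C.s ^ t.2.2.2.val, by
        rw [map_mul, map_mul, map_pow, map_pow, map_pow]
        exact mul_mem (mul_mem (mul_mem (pow_mem huT _) (pow_mem hvT _)) (pow_mem hv'T _))
          (pow_mem hsT _)⟩
    have := Nat.card_le_card_of_injective f (by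
      rintro ⟨i, j, k, l⟩ ⟨i', j', k', l'⟩ h
      simp only [f, Subtype.mk.injEq] at h
      set π := aU ^ i.val * aV ^ j.val * aV' ^ k.val
      set π' := aU ^ i'.val * aV ^ j'.val * aV' ^ k'.val
      obtain hl | hl : l = 0 ∨ l = 1 := by omega
      all_goals obtain hl' | hl' : l' = 0 ∨ l' = 1 := by omega
      · subst hl; subst hl'
        obtain ⟨rfl, rfl, rfl⟩ := hd8 i j k i' j' k' (C.inj 2 (show C.φ 2 π = C.φ 2 π' by simpa using h))
        rfl
      · subst hl; subst hl'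
        exact absurd (by rw [map_mul, map_inv, eq_inv_mul_iff_mul_eq]; simpa using h.symm)
          (C.s_ne_phi (π'⁻¹ * π))
      · subst hl; subst hl'
        exact absurd (by rw [map_mul, map_inv, eq_inv_mul_iff_mul_eq]; simpa using h)
          (C.s_ne_phi (π⁻¹ * π'))
      · subst hl; subst hl'
        obtain ⟨rfl, rfl, rfl⟩ := hd8 i j k i' j' k' (C.inj 2 (show C.φ 2 π = C.φ 2 π' by simpa using h))
        rfl)
    simpa using this
  have hun : ∀ n : G, (∀ x ∈ T0, n * x * n⁻¹ ∈ T0) → n * C.u * n⁻¹ = C.u := by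
    intro n hn
    have e : C.v * C.v' * (C.v * C.v') = C.u := by rw [← map_mul, ← map_mul, hvv]
    have h := hsq _ (hn _ (mul_mem hvT hv'T))
    rw [show n * (C.v * C.v') * n⁻¹ * (n * (C.v * C.v') * n⁻¹) =
      n * (C.v * C.v' * (C.v * C.v')) * n⁻¹ by group, e] at h
    refine h.resolve_left fun h1 => ?_
    rw [mul_inv_eq_one, mul_eq_left] at h1
    exact une (congrArg Subtype.val (C.inj 2 (h1.trans (map_one _).symm) : aU = 1))
  -- it is not a Sylow subgroup
  obtain ⟨P, hTP⟩ := hT2.exists_le_sylow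
  have hne : T0 ≠ (P : Subgroup G) := by
    intro hTeq
    obtain ⟨h, hh⟩ := isConj_iff.1 C.isConj_u_s.symm
    have hsc : C.s ∈ centralizer ((P : Subgroup G) : Set G) := mem_centralizer_iff.2 fun y hy =>
      (hTs y (hTeq ▸ hy)).eq
    have huc : C.u ∈ centralizer ((P : Subgroup G) : Set G) := mem_centralizer_iff.2 fun y hy =>
      (hTu y (hTeq ▸ hy)).eq
    have hh' : (h⁻¹)⁻¹ * C.s * h⁻¹ = C.u := by simpa using hh
    obtain ⟨n, hn, e⟩ := Sylow.conj_eq_normalizer_conj_of_mem_centralizer P C.s h⁻¹ hsc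
      (by rw [hh']; exact huc)
    rw [hh'] at e
    have hfix := hun n fun x hx => by
      rw [hTeq] at hx ⊢
      exact (mem_normalizer_iff.1 hn x).1 hx
    refine C.s_ne_phi aU ?_
    rw [e] at hfix
    calc C.s = n * (n⁻¹ * C.s * n) * n⁻¹ := by group
      _ = n⁻¹ * C.s * n := hfix
      _ = C.u := e.symm
  haveI : Group.IsNilpotent (P : Subgroup G) := P.isPGroup'.isNilpotent
  obtain ⟨t, htN, htT⟩ := SetLike.exists_of_lt (Group.normalizerCondition_of_isNilpotent
    (T0.subgroupOf (P : Subgroup G))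
    (lt_top_iff_ne_top.2 fun h => hne (le_antisymm hTP (subgroupOf_eq_top.1 h))))
  have htn : ∀ x ∈ T0, (t : G) * x * (t : G)⁻¹ ∈ T0 := fun x hx =>
    (mem_normalizer_iff.1 htN ⟨x, hTP hx⟩).1 hx
  have htu := hun t htn
  have hcen : ∀ x, (∀ y ∈ T0, Commute x y) → ∀ y ∈ T0, Commute ((t : G) * x * (t : G)⁻¹) y := by
    intro x hx y hy
    have hy' : (t : G)⁻¹ * y * t ∈ T0 := by
      have h := (mem_normalizer_iff.1 (inv_mem htN) ⟨y, hTP hy⟩).1 hy
      simpa [mem_subgroupOf] using h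
    have h := (hx _ hy').map (MulAut.conj (t : G)).toMonoidHom
    simpa [mul_assoc] using h
  have hnot := C.not_isConj_sigma hB
  -- it fixes `s`
  have hts : (t : G) * C.s * (t : G)⁻¹ = C.s := by
    have hc := hcen C.s fun y hy => (hTs y hy).symm
    obtain ⟨π, j, hπ, e⟩ := hTel _ (htn _ hsT)
    have hπc : ∀ {ρ : alternatingGroup (Fin 6)}, C.φ 2 ρ ∈ T0 → (π : Perm (Fin 6)) * ρ = ρ * π := by
      intro ρ hρ
      refine (C.phi_commute 2).1 ?_
      have h1 := hc _ hρ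
      rw [e] at h1
      have h2 : Commute (C.s ^ j.val) (C.φ 2 ρ) := ((hTs _ hρ).symm.pow_left _)
      have h3 := h1.mul_left h2.inv_left
      simpa using h3
    rcases cent_u_center _ (congrArg Subtype.val hπ) (hπc hvT) (hπc hv'T)
      (Perm.mem_alternatingGroup.1 π.2) with h1 | h1
    · rw [show π = 1 from Subtype.ext h1, map_one, one_mul] at e
      obtain rfl | rfl : j = 0 ∨ j = 1 := by omega
      · exfalso
        rw [Fin.val_zero, pow_zero, mul_inv_eq_one, mul_eq_left] at e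
        exact C.s_ne_phi 1 (e.trans (map_one _).symm)
      · simpa using e
    · rw [show π = aU from Subtype.ext h1] at e
      exfalso
      obtain rfl | rfl : j = 0 ∨ j = 1 := by omega
      · rw [Fin.val_zero, pow_zero, mul_one] at e
        refine C.s_ne_phi aU ?_
        have h2 := e.trans htu.symm
        simpa using h2
      · refine hnot (C.isConj_u_s.trans (isConj_iff.2 ⟨t, ?_⟩))
        simpa using e
  -- it normalizes the four-group
  have hv_u : IsConj C.u C.v := C.isConj_u_of_mem (π := aV) (by simp [aV])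
  have htv : (t : G) * C.v * (t : G)⁻¹ = C.v ∨ (t : G) * C.v * (t : G)⁻¹ = C.u * C.v := by
    obtain ⟨π, j, hπ, e⟩ := hTel _ (htn _ hvT)
    have hv2 : C.v * C.v = 1 := by rw [← map_mul, show aV * aV = 1 from Subtype.ext v2, map_one]
    have he2 : C.φ 2 π * C.s ^ j.val * (C.φ 2 π * C.s ^ j.val) = 1 := by
      rw [← e, show (t : G) * C.v * (t : G)⁻¹ * ((t : G) * C.v * (t : G)⁻¹) =
        (t : G) * (C.v * C.v) * (t : G)⁻¹ by group, hv2, mul_one, mul_inv_cancel]
    have hπ2 : (π : Perm (Fin 6)) * π = 1 := by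
      have hc : Commute (C.φ 2 π) (C.s ^ j.val) := ((hsD _ (hDmem π hπ)).pow_left _).symm
      rw [← pow_two, hc.mul_pow, pow_two, pow_two, ← pow_add,
        show C.s ^ (j.val + j.val) = 1 by rw [← two_mul, pow_mul, pow_two, C.s_mul_self, one_pow],
        mul_one, ← map_mul] at he2
      exact congrArg Subtype.val (C.inj 2 (he2.trans (map_one _).symm))
    have htvs : (t : G) * (C.v * C.s) * (t : G)⁻¹ = C.φ 2 π * C.s ^ j.val * C.s := by
      rw [show (t : G) * (C.v * C.s) * (t : G)⁻¹ =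
        (t : G) * C.v * (t : G)⁻¹ * ((t : G) * C.s * (t : G)⁻¹) by group, e, hts]
    have hsig : IsConj (C.u * C.s) ((t : G) * (C.v * C.s) * (t : G)⁻¹) :=
      (C.isConj_sigma (π := aV) (Or.inl rfl)).trans (isConj_iff.2 ⟨t, rfl⟩)
    have htau : IsConj C.u (C.φ 2 π * C.s ^ j.val) := hv_u.trans (isConj_iff.2 ⟨t, e⟩)
    rcases (cent_u _ (congrArg Subtype.val hπ) (Perm.mem_alternatingGroup.1 π.2)).2.2.2 with
      h1 | h1 | h1 | h1 | h1 | h1 | h1
    · -- trivial
      rw [show π = 1 from Subtype.ext h1, map_one, one_mul] at e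
      exfalso
      obtain rfl | rfl : j = 0 ∨ j = 1 := by omega
      · rw [Fin.val_zero, pow_zero, mul_inv_eq_one, mul_eq_left] at e
        exact vne (congrArg Subtype.val (C.inj 2 (e.trans (map_one _).symm) : aV = 1))
      · refine C.s_ne_phi aV ?_
        have h2 := e.trans (by simpa using hts.symm)
        simpa using h2.symm
    · rw [show π = aU from Subtype.ext h1] at e htau
      exfalso
      obtain rfl | rfl : j = 0 ∨ j = 1 := by omega
      · rw [Fin.val_zero, pow_zero, mul_one] at e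
        have h2 : C.v = C.u := by simpa using e.trans htu.symm
        exact absurd (C.inj 2 h2) (by decide +kernel)
      · exact hnot (by simpa using htau)
    · rw [show π = aV from Subtype.ext h1] at e htau
      obtain rfl | rfl : j = 0 ∨ j = 1 := by omega
      · exact Or.inl (by simpa using e)
      · exact absurd ((by simpa using htau : IsConj C.u (C.φ 2 aV * C.s)).trans
          (C.isConj_sigma (π := aV) (Or.inl rfl)).symm) hnot
    · rw [show π = aU * aV from Subtype.ext h1] at e htau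
      obtain rfl | rfl : j = 0 ∨ j = 1 := by omega
      · exact Or.inr (by simpa using e)
      · exact absurd ((by simpa using htau : IsConj C.u (C.φ 2 (aU * aV) * C.s)).trans
          (C.isConj_sigma (π := aU * aV) (Or.inr rfl)).symm) hnot
    all_goals first
      | exact absurd hπ2 h1
      | skip
    all_goals exfalso
    all_goals obtain rfl | rfl : j = 0 ∨ j = 1 := by omega
    all_goals simp only [Fin.val_zero, Fin.val_one, pow_zero, pow_one, mul_one] at htvs
    all_goals rw [htvs] at hsig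
    · exact hnot ((C.isConj_u_mul_s (π := π) (Or.inl h1)).trans hsig.symm)
    · rw [mul_assoc, C.s_mul_self, mul_one] at hsig
      exact hnot ((C.isConj_u_of_mem (π := π) (by simp [h1])).trans hsig.symm)
    · exact hnot ((C.isConj_u_mul_s (π := π) (Or.inr h1)).trans hsig.symm)
    · rw [mul_assoc, C.s_mul_self, mul_one] at hsig
      exact hnot ((C.isConj_u_of_mem (π := π) (by simp [h1])).trans hsig.symm)
  -- a group of order at most 48 with elements of order 32 and 3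
  let R : Subgroup G :=
    { carrier := {r | Commute r C.u ∧ (r * C.v * r⁻¹ = C.v ∨ r * C.v * r⁻¹ = C.u * C.v)}
      one_mem' := ⟨Commute.one_left _, Or.inl (by simp)⟩
      mul_mem' := fun {a b} ha hb => ⟨ha.1.mul_left hb.1, by
        have e : a * b * C.v * (a * b)⁻¹ = a * (b * C.v * b⁻¹) * a⁻¹ := by group
        rcases hb.2 with h | h <;> rw [e, h]
        · exact ha.2
        · have e2 : a * (C.u * C.v) * a⁻¹ = C.u * (a * C.v * a⁻¹) := by
            rw [← mul_assoc a, ha.1.eq]; group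
          rw [e2]
          rcases ha.2 with h' | h' <;> rw [h']
          · exact Or.inr rfl
          · rw [← mul_assoc, ← map_mul, show aU * aU = 1 from Subtype.ext u2, map_one, one_mul]
            exact Or.inl rfl⟩
      inv_mem' := fun {a} ha => ⟨ha.1.inv_left, by
        rcases ha.2 with h | h
        · left; nth_rewrite 1 [← h]; group
        · right
          have h2 : C.v = C.u * (a⁻¹ * C.v * a) := by
            calc C.v = a⁻¹ * (a * C.v * a⁻¹) * a := by group
              _ = a⁻¹ * (C.u * C.v) * a := by rw [h]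
              _ = _ := by rw [← mul_assoc a⁻¹, ha.1.inv_left.eq]; group
          rw [inv_inv]
          calc a⁻¹ * C.v * a = C.u * (C.u * (a⁻¹ * C.v * a)) := by
                rw [← mul_assoc, ← map_mul, show aU * aU = 1 from Subtype.ext u2, map_one, one_mul]
            _ = C.u * C.v := by rw [← h2]⟩ }
  have hv'v' : C.v' * C.v * C.v'⁻¹ = C.u * C.v := by
    rw [← map_inv, ← map_mul, ← map_mul, ← map_mul, hv'v]
  have hv'u : Commute C.v' C.u := (show Commute aV' aU from Subtype.ext huv'.symm).map _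
  have hT0R : T0 ≤ R := by
    intro y hy
    obtain ⟨π, j, hπ, rfl⟩ := hTel y hy
    refine R.mul_mem ?_ (R.pow_mem (show C.s ∈ R from ⟨hsu, Or.inl (by
      rw [hsv.eq, mul_inv_cancel_right])⟩) _)
    refine ⟨(show Commute π aU from hπ).map _, ?_⟩
    rw [← map_inv, ← map_mul, ← map_mul, ← map_mul]
    have h8 : ∀ π : alternatingGroup (Fin 6), π * aU = aU * π →
        π * aV * π⁻¹ = aV ∨ π * aV * π⁻¹ = aU * aV := by decide +kernel
    exact (h8 π hπ).imp (congrArg _) (congrArg _)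
  have hR48 : Nat.card R ≤ 2 * Nat.card C.CV := by
    have hsplit : ∀ r : R, ∃ i : Fin 2, C.v' ^ i.val * (r : G) ∈ C.CV := by
      intro r
      rcases r.2.2 with h | h
      · exact ⟨0, by rw [Fin.val_zero, pow_zero, one_mul]
                     exact C.mem_CV.2 ⟨r.2.1, mul_inv_eq_iff_eq_mul.1 h⟩⟩
      · refine ⟨1, C.mem_CV.2 ⟨by simpa using hv'u.mul_left r.2.1, mul_inv_eq_iff_eq_mul.1 ?_⟩⟩
        rw [Fin.val_one, pow_one, show C.v' * (r : G) * C.v * (C.v' * (r : G))⁻¹ =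
          C.v' * ((r : G) * C.v * (r : G)⁻¹) * C.v'⁻¹ by group, h, ← mul_assoc, hv'u.eq, mul_assoc,
          mul_assoc, ← mul_assoc C.v', hv'v', ← mul_assoc, ← map_mul,
          show aU * aU = 1 from Subtype.ext u2, map_one, one_mul]
    choose i hi using hsplit
    have := Nat.card_le_card_of_injective (fun r => (i r, (⟨_, hi r⟩ : C.CV))) fun r r' e => by
      simp only [Prod.mk.injEq, Subtype.mk.injEq] at e
      exact Subtype.ext (by have h := e.2; rwa [e.1, mul_right_inj] at h)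
    simpa [Nat.card_prod] using this
  have htR : (t : G) ∈ R := ⟨mul_inv_eq_iff_eq_mul.1 htu, htv⟩
  set T1 := T0 ⊔ zpowers (t : G)
  have hT1R : T1 ≤ R := sup_le hT0R (zpowers_le.2 htR)
  have hT1P : T1 ≤ (P : Subgroup G) := sup_le hTP (zpowers_le.2 t.2)
  have h3 : 3 ∣ Nat.card R := by
    rw [← orderOf_eq_prime (C.A_cube 2) (C.A_ne_one 2)]
    exact R.orderOf_dvd_natCard ⟨C.comm 2 _, Or.inl (by
      rw [(C.comm 2 _).eq, mul_inv_cancel_right])⟩
  obtain ⟨m, hm⟩ := IsPGroup.iff_card.1 (P.isPGroup'.to_le hT1P)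
  have hlt : Nat.card T0 < Nat.card T1 := by
    by_contra hcon
    have heq := Subgroup.eq_of_le_of_card_ge le_sup_left (not_lt.1 hcon)
    exact htT (mem_subgroupOf.2 (heq.symm.le (mem_sup_right (mem_zpowers _))))
  have hm5 : 5 ≤ m := by
    by_contra hlt5
    have : 2 ^ m ≤ 2 ^ 4 := Nat.pow_le_pow_right (by norm_num) (by omega)
    omega
  have h32 : 32 ∣ Nat.card R :=
    (pow_dvd_pow 2 hm5).trans (hm ▸ card_dvd_of_le hT1R)
  have h96 : 96 ∣ Nat.card R := Nat.Coprime.mul_dvd_of_dvd_of_dvd (by norm_num : (32 : ℕ).Coprime 3) h32 h3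
  have := Nat.le_of_dvd Nat.card_pos h96
  omega

end Coord

end CfsgLib.AltNine
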