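import Cfsg.Agent.S3331
import Cfsg.Agent.Lib.Suborbit3.Three
import Cfsg.Agent.Lib.Solvable.CoprimeGeneration
import Mathlib.GroupTheory.Sylow

/-!
# Centralizers of four-groups with a self-centralizing element of order three

`X` contains a central `2`-subgroup `V` modulo which `d` is self-centralizing; a further element
`g` of order three commutes with `d` and normalizes `X`. A bound on the subgroups of order prime to
three normalized by `⟨d, g⟩` bounds `X`.
-/

set_option autoImplicit false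
set_option linter.style.haveILetI false
set_option linter.unusedSectionVars false
set_option maxRecDepth 10000

namespace CfsgLib.AltNine

open Subgroup Equiv

theorem perm3_no_normal : ∀ m c : Perm (Fin 3), c * c * c = 1 → c ≠ 1 → m ≠ 1 →
    m * m * m = 1 ∨ (m * c * m⁻¹ * c⁻¹) * (m * c * m⁻¹ * c⁻¹) * (m * c * m⁻¹ * c⁻¹) = 1 ∧
      m * c * m⁻¹ * c⁻¹ ≠ 1 := by decide +kernel

/-- A normal subgroup of order prime to three of `S₃` is trivial. -/
theorem perm3_normal_bot {M : Subgroup (Perm (Fin 3))} (hM : M.Normal)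
    (hc : (Nat.card M).Coprime 3) : M = ⊥ := by
  rw [eq_bot_iff]
  intro m hm
  rw [mem_bot]
  by_contra hm1
  have hno : ∀ x ∈ M, x * x * x = 1 → x = 1 := by
    intro x hx h3
    apply orderOf_eq_one_iff.1
    refine Nat.eq_one_of_dvd_coprimes hc (M.orderOf_dvd_natCard hx) ?_
    exact orderOf_dvd_of_pow_eq_one (by rw [pow_succ, pow_two, h3])
  set c : Perm (Fin 3) := swap 0 1 * swap 1 2 with hcdef
  rcases perm3_no_normal m c (by decide +kernel) (by decide +kernel) hm1 with h | ⟨h, h'⟩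
  · exact hm1 (hno m hm h)
  · refine h' (hno _ ?_ h)
    rw [show m * c * m⁻¹ * c⁻¹ = m * (c * m⁻¹ * c⁻¹) by group]
    exact mul_mem hm (hM.conj_mem _ (inv_mem hm) c)

/-- A Klein four-group of `A₅`. -/
def k5 : List (alternatingGroup (Fin 5)) :=
  [1, ⟨swap 0 1 * swap 2 3, Perm.mem_alternatingGroup.2 (by decide +kernel)⟩,
    ⟨swap 0 2 * swap 1 3, Perm.mem_alternatingGroup.2 (by decide +kernel)⟩,
    ⟨swap 0 3 * swap 1 2, Perm.mem_alternatingGroup.2 (by decide +kernel)⟩]

theorem k5_mul : ∀ x ∈ k5, ∀ y ∈ k5, x * y ∈ k5 := by decide +kernel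

theorem k5_inv : ∀ x ∈ k5, x⁻¹ ∈ k5 := by decide +kernel

theorem k5_one : (1 : alternatingGroup (Fin 5)) ∈ k5 := by decide +kernel

theorem k5_nodup : k5.Nodup := by decide +kernel

/-- `(0 1 2)` in `A₅`. -/
def t5 : alternatingGroup (Fin 5) :=
  ⟨swap 0 1 * swap 1 2, Perm.mem_alternatingGroup.2 (by decide +kernel)⟩

theorem t5_facts : (∀ x ∈ k5, t5 * x * t5⁻¹ ∈ k5 ∧ t5⁻¹ * x * t5 ∈ k5) ∧ t5 ^ 3 = 1 ∧ t5 ≠ 1 := by
  decide +kernel

/-- The Klein four-group as a subgroup. -/
def K5 : Subgroup (alternatingGroup (Fin 5)) where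
  carrier := {x | x ∈ k5}
  mul_mem' hx hy := k5_mul _ hx _ hy
  inv_mem' hx := k5_inv _ hx
  one_mem' := k5_one

theorem card_K5 : Nat.card K5 = 4 := by
  show Nat.card {x // x ∈ k5} = 4
  rw [Nat.subtype_card k5.toFinset (fun x => List.mem_toFinset),
    List.toFinset_card_of_nodup k5_nodup]
  rfl

/-- A group with a surjection onto `A₅` with kernel a `2`-group has a Sylow `2`-subgroup whose
number of conjugates is prime to three. -/
theorem exists_sylow_two_a5 {X : Type*} [Group X] [Finite X]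
    (f : X →* alternatingGroup (Fin 5)) (hf : Function.Surjective f)
    (hker : IsPGroup 2 f.ker) :
    ∃ P : Sylow 2 X, Nat.card X = 15 * Nat.card P ∧ Nat.card P = 4 * Nat.card f.ker ∧
      ¬ 3 ∣ Nat.card (Sylow 2 X) := by
  haveI : Fact (Nat.Prime 2) := ⟨Nat.prime_two⟩
  set P0 := K5.comap f with hP0
  have hidx : P0.index = 15 := by
    rw [hP0, index_comap_of_surjective _ hf]
    have h := K5.card_mul_index
    rw [card_K5, CfsgLib.Suborbit3.card_a5] at h
    omega
  have hcard : Nat.card P0 = 4 * Nat.card f.ker := by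
    have h := P0.card_mul_index
    have h' := f.ker.card_mul_index
    rw [Subgroup.index_ker f, MonoidHom.range_eq_top.2 hf, card_top,
      CfsgLib.Suborbit3.card_a5] at h'
    rw [hidx] at h
    omega
  have hP0p : IsPGroup 2 P0 := by
    obtain ⟨k, hk⟩ := IsPGroup.iff_card.1 hker
    exact IsPGroup.of_card (n := k + 2) (by rw [hcard, hk, pow_add]; ring)
  let P : Sylow 2 X := hP0p.toSylow (by rw [hidx]; norm_num)
  refine ⟨P, ?_, hcard, ?_⟩
  · rw [show Nat.card P = Nat.card P0 from rfl, ← hidx, mul_comm]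
    exact P0.card_mul_index.symm
  · rw [P.card_eq_index_normalizer]
    obtain ⟨x, hx⟩ := hf t5
    have hxN : x ∈ normalizer ((P : Subgroup X) : Set X) := by
      refine mem_normalizer_iff.2 fun y => ?_
      show y ∈ P0 ↔ x * y * x⁻¹ ∈ P0
      simp only [hP0, mem_comap, map_mul, map_inv, hx]
      refine ⟨fun h => (t5_facts.1 _ h).1, fun h => ?_⟩
      have := (t5_facts.1 _ h).2
      rw [show t5⁻¹ * (t5 * f y * t5⁻¹) * t5 = f y by group] at this
      exact this
    intro h3
    have hx3 : 3 ∣ Nat.card (normalizer ((P : Subgroup X) : Set X)) := by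
      have ho : orderOf t5 = 3 := orderOf_eq_prime t5_facts.2.1 t5_facts.2.2
      rw [← ho, ← hx]
      exact (orderOf_map_dvd f x).trans (Subgroup.orderOf_dvd_natCard _ hxN)
    have h9 : 9 ∣ Nat.card X := by
      rw [← (normalizer ((P : Subgroup X) : Set X)).card_mul_index]
      exact Nat.mul_dvd_mul hx3 h3
    obtain ⟨k, hk⟩ := IsPGroup.iff_card.1 hP0p
    rw [← P0.card_mul_index, hidx, hk] at h9
    have : 3 ∣ 2 ^ k * 5 := Nat.dvd_of_mul_dvd_mul_right (by norm_num : 0 < 3)
      (show 3 * 3 ∣ 2 ^ k * 5 * 3 by rw [mul_assoc]; exact h9)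
    rcases Nat.prime_three.dvd_mul.1 this with h | h
    · have := Nat.prime_three.dvd_of_dvd_pow h; omega
    · omega

theorem sylow_seven_count {n k : ℕ} (hdvd : n ∣ 2 ^ k * 3) (hmod : n % 7 = 1) : ¬ 3 ∣ n := by
  rintro ⟨m, rfl⟩
  have hm : m ∣ 2 ^ k := Nat.dvd_of_mul_dvd_mul_right (by norm_num : 0 < 3) (by rwa [mul_comm m 3])
  obtain ⟨i, -, rfl⟩ := (Nat.dvd_prime_pow Nat.prime_two).1 hm
  have : ∀ i, 2 ^ i % 7 = 1 ∨ 2 ^ i % 7 = 2 ∨ 2 ^ i % 7 = 4 := by
    intro i
    induction i with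
    | zero => exact Or.inl rfl
    | succ i ih => rw [pow_succ, Nat.mul_mod]; rcases ih with h | h | h <;> rw [h] <;> simp
  rcases this i with h | h | h <;> rw [Nat.mul_mod, h] at hmod <;> omega

variable {G : Type*} [Group G] [Finite G]

/-- A subgroup of order prime to three normalized by two commuting elements of order three which
acts with a fixed Sylow subgroup. -/
theorem exists_invariant_sylow {p : ℕ} [Fact p.Prime] {X E : Subgroup G} (hE : IsPGroup 3 E)
    (hEX : E ≤ normalizer (X : Set G)) (h : ¬ 3 ∣ Nat.card (Sylow p X)) (P₀ : Sylow p X) :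
    ∃ Y : Subgroup G, Y ≤ X ∧ E ≤ normalizer (Y : Set G) ∧ IsPGroup p Y ∧
      Nat.card Y = Nat.card P₀ := by
  haveI : Fact (Nat.Prime 3) := ⟨Nat.prime_three⟩
  let ε : E →* MulAut X := X.normalizerMonoidHom.comp (inclusion hEX)
  let _ := MulDistribMulAction.compHom X ε
  obtain ⟨P, hP⟩ := hE.nonempty_fixed_point_of_prime_not_dvd_card (Sylow p X) h
  refine ⟨(P : Subgroup X).map X.subtype, map_subtype_le _, ?_, P.isPGroup'.map _, ?_⟩
  · intro e he
    have key : ∀ e' : E, ∀ y ∈ (P : Subgroup X).map X.subtype,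
        (e' : G) * y * (e' : G)⁻¹ ∈ (P : Subgroup X).map X.subtype := by
      rintro e' _ ⟨y, hy, rfl⟩
      refine ⟨ε e' y, ?_, rfl⟩
      have h1 : (e' • P : Sylow p X) = P := hP e'
      rw [← h1]
      exact ⟨y, hy, rfl⟩
    refine mem_normalizer_iff.2 fun y => ⟨key ⟨e, he⟩ y, fun hy => ?_⟩
    have := key ⟨e⁻¹, inv_mem he⟩ _ hy
    simpa [mul_assoc] using this
  · rw [card_map_of_injective X.subtype_injective, Sylow.card_eq_multiplicity P,
      Sylow.card_eq_multiplicity P₀]

/-- The dichotomy. -/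
theorem card_le_of_invariant (X V : Subgroup G) (d g : G) (B : ℕ) (hVX : V ≤ X)
    (hV : IsPGroup 2 V) (hVc : ∀ v ∈ V, ∀ x ∈ X, Commute v x) (hdX : d ∈ X)
    (hd : d ^ 3 = 1) (hd1 : d ≠ 1)
    (hCd : ∀ x ∈ X, Commute x d → ∃ i : Fin 3, ∃ v ∈ V, x = v * d ^ i.val)
    (hg : g ^ 3 = 1) (hgX : g ∈ normalizer (X : Set G)) (hgd : Commute g d)
    (hY : ∀ Y : Subgroup G, Y ≤ X → d ∈ normalizer (Y : Set G) → g ∈ normalizer (Y : Set G) →
      Group.IsSolvable Y → (Nat.card Y).Coprime 3 → Nat.card Y ≤ B ∧ ¬ 7 ∣ Nat.card Y) :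
    Nat.card X ≤ 6 * B ∨ 4 * Nat.card V ≤ B ∧ Nat.card X ≤ 15 * B := by
  haveI : Fact (Nat.Prime 2) := ⟨Nat.prime_two⟩
  haveI : Fact (Nat.Prime 3) := ⟨Nat.prime_three⟩
  haveI : Fact (Nat.Prime 7) := ⟨by norm_num⟩
  set V' : Subgroup X := V.subgroupOf X with hV'
  haveI hV'n : V'.Normal := ⟨fun v hv x => by
    rw [hV', mem_subgroupOf] at hv ⊢
    rw [Subgroup.coe_mul, Subgroup.coe_mul, Subgroup.coe_inv, ← (hVc _ hv _ x.2).eq,
      mul_inv_cancel_right]
    exact hv⟩
  set q := QuotientGroup.mk' V' with hq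
  have hqs : Function.Surjective q := QuotientGroup.mk'_surjective V'
  have hcardV' : Nat.card V' = Nat.card V := Nat.card_congr (subgroupOfEquivOfLe hVX).toEquiv
  obtain ⟨k, hk⟩ := IsPGroup.iff_card.1 hV
  set dX : X := ⟨d, hdX⟩
  have hno3 : ∀ v ∈ V, v ^ 3 = 1 → v = 1 := by
    intro v hv h
    apply orderOf_eq_one_iff.1
    refine Nat.eq_one_of_dvd_coprimes (Nat.Coprime.pow_left k (by norm_num : (2 : ℕ).Coprime 3))
      (hk ▸ V.orderOf_dvd_natCard hv) (orderOf_dvd_of_pow_eq_one h)
  have hqd : orderOf (q dX) = 3 := by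
    refine orderOf_eq_prime (by rw [← map_pow, show dX ^ 3 = 1 from Subtype.ext hd, map_one]) ?_
    intro h
    rw [hq, QuotientGroup.mk'_apply, QuotientGroup.eq_one_iff] at h
    exact hd1 (hno3 d h hd)
  have hcent : centralizer ((zpowers (q dX) : Subgroup _) : Set (X ⧸ V')) = zpowers (q dX) := by
    refine le_antisymm (fun y hy => ?_) (fun y hy => ?_)
    · obtain ⟨x, rfl⟩ := hqs y
      have h1 := mem_centralizer_iff.1 hy (q dX) (mem_zpowers _)
      rw [← map_mul, ← map_mul, hq, QuotientGroup.mk'_apply, QuotientGroup.mk'_apply,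
        QuotientGroup.eq] at h1
      obtain ⟨w, hw, e⟩ : ∃ w ∈ V, (x : G) * d = d * x * w := ⟨_, h1, by simp [dX]; group⟩
      have hwc : ∀ z ∈ X, Commute w z := hVc w hw
      have e2 : (x : G) * d * (x : G)⁻¹ = d * w := by
        rw [e, show d * (x : G) * w = d * ((x : G) * w) by group, ← (hwc x x.2).eq]; group
      have hw1 : w = 1 := hno3 w hw (by
        have h3 : (d * w) ^ 3 = 1 := by
          rw [← e2, conj_pow, hd, mul_one, mul_inv_cancel]
        rwa [(hwc d hdX).symm.mul_pow, hd, one_mul] at h3)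
      rw [hw1, mul_one] at e
      obtain ⟨i, v, hv, hx⟩ := hCd x x.2 e
      refine ⟨(i.val : ℤ), ?_⟩
      show q dX ^ (i.val : ℤ) = q x
      rw [zpow_natCast, ← map_pow, hq, QuotientGroup.mk'_apply, QuotientGroup.mk'_apply,
        QuotientGroup.eq]
      show (((dX ^ i.val)⁻¹ * x : X) : G) ∈ V
      simp only [Subgroup.coe_mul, Subgroup.coe_inv, SubgroupClass.coe_pow, dX]
      rw [hx, (hVc v hv _ (pow_mem hdX _)).eq, inv_mul_cancel_left]
      exact hv
    · refine mem_centralizer_iff.2 fun z hz => ?_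
      obtain ⟨i, rfl⟩ := hy
      obtain ⟨j, rfl⟩ := hz
      exact ((Commute.refl (q dX)).zpow_zpow j i).eq
  have hEp : IsPGroup 3 (zpowers d ⊔ zpowers g : Subgroup G) := by
    have hp : ∀ z : G, z ^ 3 = 1 → IsPGroup 3 (zpowers z) := fun z hz y => ⟨1, by
      obtain ⟨n, hn⟩ := y.2
      refine Subtype.ext ?_
      rw [pow_one, SubgroupClass.coe_pow, ← hn, ← zpow_natCast (z ^ n), ← zpow_mul, mul_comm,
        zpow_mul, zpow_natCast, hz, one_zpow]
      rfl⟩
    refine (hp d hd).to_sup_of_normal_right' (hp g hg) (zpowers_le.2 ?_)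
    refine mem_normalizer_iff.2 fun y => ?_
    have hc : ∀ z ∈ zpowers g, d * z * d⁻¹ = z := fun z ⟨n, hn⟩ => by
      rw [← hn, (hgd.zpow_left n).symm.eq, mul_inv_cancel_right]
    refine ⟨fun hy => by rwa [hc y hy], fun hy => ?_⟩
    have h1 := hc _ hy
    have h2 : d * y * d⁻¹ = y := by
      calc d * y * d⁻¹ = d⁻¹ * (d * (d * y * d⁻¹) * d⁻¹) * d := by group
        _ = d⁻¹ * (d * y * d⁻¹) * d := by rw [h1]
        _ = y := by group
    rwa [h2] at hy
  have hEN : zpowers d ⊔ zpowers g ≤ normalizer (X : Set G) :=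
    sup_le (zpowers_le.2 (le_normalizer hdX)) (zpowers_le.2 hgX)
  have hmemd : d ∈ zpowers d ⊔ zpowers g := mem_sup_left (mem_zpowers d)
  have hmemg : g ∈ zpowers d ⊔ zpowers g := mem_sup_right (mem_zpowers g)
  rcases Cfsg.Agent.S3331.result (zpowers (q dX)) ((Nat.card_zpowers _).trans hqd) hcent with
    ⟨N, hN, hnil, hcop, hQ⟩ | ⟨N, hN, -, hN2, ⟨e⟩⟩ | ⟨⟨e⟩⟩
  · haveI := hN
    haveI := hnil
    left
    set M : Subgroup X := N.comap q with hM
    haveI hMn : M.Normal := hN.comap q
    have hMcard : Nat.card M = Nat.card V * Nat.card N := by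
      rw [hM, hq, CfsgLib.PCore.card_comap_mk', hcardV']
    have hMcop : (Nat.card M).Coprime 3 := by
      rw [hMcard, hk]
      exact Nat.Coprime.mul_left (Nat.Coprime.pow_left k (by norm_num)) hcop
    have hmax : ∀ M' : Subgroup X, M'.Normal → (Nat.card M').Coprime 3 → M' ≤ M := by
      intro M' hM'n hM'c
      set π := (QuotientGroup.mk' N).comp q with hπ
      have hπs : Function.Surjective π := (QuotientGroup.mk'_surjective N).comp hqs
      have hkerπ : π.ker = M := by rw [hπ, ← MonoidHom.comap_ker, QuotientGroup.ker_mk']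
      rw [← hkerπ, ← Subgroup.map_eq_bot_iff]
      have hmc : (Nat.card (M'.map π)).Coprime 3 :=
        hM'c.coprime_dvd_left (Subgroup.card_map_dvd _ _)
      rcases hQ with h | ⟨⟨e⟩⟩
      · refine Subgroup.card_eq_one.1 (Nat.eq_one_of_dvd_coprimes hmc dvd_rfl ?_)
        rw [← h]; exact card_subgroup_dvd_card _
      · have h1 := perm3_normal_bot (M := (M'.map π).map e.toMonoidHom)
          ((hM'n.map π hπs).map _ e.surjective)
          (by rwa [card_map_of_injective e.injective])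
        exact (Subgroup.map_eq_bot_iff_of_injective _ e.injective).1 h1
    set Y : Subgroup G := M.map X.subtype with hYdef
    have hYcard : Nat.card Y = Nat.card M := card_map_of_injective X.subtype_injective
    have hinv : ∀ h ∈ normalizer (X : Set G), ∀ y ∈ Y, h * y * h⁻¹ ∈ Y := by
      rintro h hh _ ⟨y, hy, rfl⟩
      have hα := hmax (M.map (X.normalizerMonoidHom ⟨h, hh⟩).toMonoidHom)
        (hMn.map _ (X.normalizerMonoidHom ⟨h, hh⟩).surjective)
        (by rwa [card_map_of_injective (f := (X.normalizerMonoidHom ⟨h, hh⟩).toMonoidHom) (MulEquiv.injective _)])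
      exact ⟨_, hα ⟨y, hy, rfl⟩, rfl⟩
    have hYN : ∀ h ∈ normalizer (X : Set G), h ∈ normalizer (Y : Set G) := fun h hh =>
      mem_normalizer_iff.2 fun y => ⟨hinv h hh y, fun hy => by
        have := hinv _ (inv_mem hh) _ hy
        simpa [mul_assoc] using this⟩
    haveI hMsol : Group.IsSolvable M := by
      haveI : Group.IsNilpotent M := by
        refine Subgroup.isNilpotent_of_ker_le_center
          ((q.comp M.subtype).codRestrict N fun x => x.2) ?_
        intro x hx
        rw [mem_center_iff]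
        intro y
        have hxV : ((x : X) : G) ∈ V :=
          (QuotientGroup.eq_one_iff (x : X)).1 (congrArg Subtype.val hx)
        exact Subtype.ext (Subtype.ext (hVc _ hxV _ (y : X).2).eq.symm)
      infer_instance
    have hYsol : Group.IsSolvable Y := Group.isSolvable_of_isSolvable_injective
      (f := (M.equivMapOfInjective X.subtype X.subtype_injective).symm.toMonoidHom)
      (M.equivMapOfInjective X.subtype X.subtype_injective).symm.injective
    obtain ⟨hB, -⟩ := hY Y (map_subtype_le _) (hYN d (le_normalizer hdX)) (hYN g hgX) hYsol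
      (by rwa [hYcard])
    rw [hYcard, hMcard] at hB
    have hQc : Nat.card ((X ⧸ V') ⧸ N) ≤ 6 := by
      rcases hQ with h | ⟨⟨e⟩⟩
      · omega
      · rw [Nat.card_congr e.toEquiv, Nat.card_perm, Nat.card_fin]; exact le_of_eq rfl
    calc Nat.card X = Nat.card ((X ⧸ V') ⧸ N) * Nat.card N * Nat.card V' := by
          rw [card_eq_card_quotient_mul_card_subgroup V',
            card_eq_card_quotient_mul_card_subgroup N]
      _ ≤ 6 * (Nat.card V * Nat.card N) := by
          rw [hcardV', mul_assoc, mul_comm (Nat.card N)]; exact Nat.mul_le_mul_right _ hQc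
      _ ≤ 6 * B := Nat.mul_le_mul_left _ hB
  · haveI := hN
    right
    set f : X →* alternatingGroup (Fin 5) := e.toMonoidHom.comp ((QuotientGroup.mk' N).comp q)
    have hfs : Function.Surjective f :=
      e.surjective.comp ((QuotientGroup.mk'_surjective N).comp hqs)
    have hker : IsPGroup 2 f.ker := by
      intro x
      have hx : q (x : X) ∈ N := (QuotientGroup.eq_one_iff _).1
        ((map_eq_one_iff e e.injective).1 x.2)
      have h2 : (((x : X) ^ 2 : X) : G) ∈ V := by
        have := hN2 _ hx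
        rw [← map_pow] at this
        exact (QuotientGroup.eq_one_iff (N := V') ((x : X) ^ 2)).1 this
      obtain ⟨j, hj⟩ := hV ⟨_, h2⟩
      refine ⟨j + 1, Subtype.ext (Subtype.ext ?_)⟩
      have h3 := congrArg Subtype.val hj
      simp only [SubgroupClass.coe_pow, OneMemClass.coe_one] at h3 ⊢
      rwa [pow_succ', pow_mul]
    obtain ⟨P₀, hcX, hcP, hn⟩ := exists_sylow_two_a5 f hfs hker
    obtain ⟨Y, hYX, hEY, hYp, hYc⟩ := exists_invariant_sylow hEp hEN hn P₀
    haveI : Group.IsNilpotent Y := hYp.isNilpotent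
    obtain ⟨hB, -⟩ := hY Y hYX (hEY hmemd) (hEY hmemg) inferInstance (by
      obtain ⟨j, hj⟩ := IsPGroup.iff_card.1 hYp
      rw [hj]; exact Nat.Coprime.pow_left j (by norm_num))
    rw [hYc] at hB
    refine ⟨le_trans ?_ hB, by rw [hcX]; exact Nat.mul_le_mul_left _ hB⟩
    rw [hcP, ← hcardV']
    refine Nat.mul_le_mul_left _ (card_le_of_le fun x hx => ?_)
    show e ((QuotientGroup.mk' N) (q x)) = 1
    rw [show q x = 1 from (QuotientGroup.eq_one_iff x).2 hx, map_one, map_one]
  · exfalso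
    have hQ : Nat.card (X ⧸ V') = 168 :=
      (Nat.card_congr e.toEquiv).trans CfsgLib.Suborbit3.card_psl_seven
    have hcX : Nat.card X = 168 * 2 ^ k := by
      rw [card_eq_card_quotient_mul_card_subgroup V', hQ, hcardV', hk]
    obtain ⟨P₀⟩ : Nonempty (Sylow 7 X) := inferInstance
    have h7 : 7 ∣ Nat.card P₀ := P₀.dvd_card_of_dvd_card (by rw [hcX]; omega)
    have hn : ¬ 3 ∣ Nat.card (Sylow 7 X) := by
      refine sylow_seven_count (k := k + 3) ?_ (card_sylow_modEq_one 7 X)
      have h1 := P₀.card_dvd_index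
      have h2 : (P₀ : Subgroup X).index ∣ 2 ^ (k + 3) * 3 := by
        have h := (P₀ : Subgroup X).card_mul_index
        obtain ⟨r, hr⟩ := h7
        rw [show Nat.card (P₀ : Subgroup X) = 7 * r from hr, hcX] at h
        refine ⟨r, ?_⟩
        rw [pow_add]
        linarith [h]
      exact h1.trans h2
    obtain ⟨Y, hYX, hEY, hYp, hYc⟩ := exists_invariant_sylow hEp hEN hn P₀
    haveI : Group.IsNilpotent Y := hYp.isNilpotent
    obtain ⟨-, hB⟩ := hY Y hYX (hEY hmemd) (hEY hmemg) inferInstance (by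
      obtain ⟨j, hj⟩ := IsPGroup.iff_card.1 hYp
      rw [hj]; exact Nat.Coprime.pow_left j (by norm_num))
    exact hB (hYc ▸ h7)

end CfsgLib.AltNine
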