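import Cfsg.Agent.Lib.Recognition.AltNine.FourBasic
import Cfsg.Agent.Lib.Recognition.AltNine.LocalThree

/-!
# The centralizer of the four-group `⟨(2 3)(4 5), (0 1)(2 3)⟩`
-/

set_option autoImplicit false
set_option maxRecDepth 10000
set_option linter.style.haveILetI false

namespace CfsgLib.AltNine

open Cfsg Equiv Subgroup CfsgLib.ThreeCubed CfsgLib.ThreeCubedWreath

universe u

attribute [local irreducible] el4 M4set

/-- `⟨(2 3)(4 5), (0 1)(2 3)⟩` in `A₆`. -/
def four6' : List (alternatingGroup (Fin 6)) := [1, aU, aV', aU * aV']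

theorem four6'_mul : ∀ x ∈ four6', ∀ y ∈ four6', x * y ∈ four6' := by decide +kernel

theorem four6'_inv : ∀ x ∈ four6', x⁻¹ ∈ four6' ∧ x * x = 1 := by decide +kernel

theorem four6'_nodup : four6'.Nodup := by decide +kernel

/-- The four-group as a subgroup of `A₆`. -/
def F6' : Subgroup (alternatingGroup (Fin 6)) where
  carrier := {x | x ∈ four6'}
  mul_mem' hx hy := four6'_mul _ hx _ hy
  inv_mem' hx := (four6'_inv _ hx).1
  one_mem' := List.mem_cons_self

theorem card_F6' : Nat.card F6' = 4 := by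
  show Nat.card {x // x ∈ four6'} = 4
  rw [Nat.subtype_card four6'.toFinset (fun x => List.mem_toFinset),
    List.toFinset_card_of_nodup four6'_nodup]
  rfl

namespace Coord

variable {G : Type u} [Group G] [Finite G] {S : Setup G} (C : Coord S)

theorem cent_V'_A2 {y : G} (hu : Commute y C.u) (hv : Commute y C.v') (hy : Commute y (C.A 2)) :
    ∃ i : Fin 3, ∃ π ∈ F6', y = C.φ 2 π * C.A 2 ^ i.val := by
  obtain ⟨i, π, rfl, h1⟩ := C.decomp_commute 2 hy hu
  have h2 : (π : Perm (Fin 6)) * v6' = v6' * π := by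
    refine (C.phi_commute 2 (π := π) (ρ := aV')).1 ?_
    have h3 : Commute ((C.A 2 ^ i.val)⁻¹) C.v' := ((C.comm 2 aV').pow_left _).inv_left
    simpa using h3.mul_left hv
  refine ⟨i, π, ?_, ((C.comm 2 π).pow_left _).eq⟩
  show π ∈ four6'
  simp only [four6', List.mem_cons, List.not_mem_nil, or_false]
  exact (cent_V' _ h1 h2 (Perm.mem_alternatingGroup.1 π.2)).imp Subtype.ext
    (Or.imp Subtype.ext (Or.imp Subtype.ext Subtype.ext))

theorem s_commute_V' : Commute C.s C.u ∧ Commute C.s C.v' ∧ Commute C.s C.v := by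
  obtain ⟨-, -, -, -, -, -, -, -, -, -, -, su, sv, sv', -⟩ := four_facts
  exact ⟨C.s_commute (π := aU) su, C.s_commute (π := aV') sv', C.s_commute (π := aV) sv⟩

/-- The centralizer of the second four-group normalizes `⟨(6 7 8)⟩` and has order at most 24. -/
theorem centralizer_V' (hB : centralizer ({S.b} : Set G) ≤ S.H) :
    Nat.card (centralizer ({C.u, C.v'} : Set G)) ≤ 24 ∧
    ∀ y : G, Commute y C.u → Commute y C.v' →
      y * C.A 2 * y⁻¹ = C.A 2 ∨ y * C.A 2 * y⁻¹ = (C.A 2)⁻¹ := by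
  set X := centralizer ({C.u, C.v'} : Set G) with hX
  have memX : ∀ {y : G}, y ∈ X ↔ Commute y C.u ∧ Commute y C.v' := fun {y} =>
    ⟨fun h => ⟨(mem_centralizer_iff.1 h _ (by simp)).symm, (mem_centralizer_iff.1 h _ (by simp)).symm⟩,
      fun h => mem_centralizer_iff.2 fun z hz => by
        rcases hz with rfl | rfl
        · exact h.1.eq.symm
        · exact h.2.eq.symm⟩
  set V := F6'.map (C.φ 2) with hVdef
  have hVcard : Nat.card V = 4 := by rw [card_map_of_injective (C.inj 2), card_F6']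
  have hVX : V ≤ X := by
    rintro _ ⟨π, hπ, rfl⟩
    have hcomm : ∀ x ∈ four6', ∀ y ∈ four6', x * y = y * x := by decide +kernel
    exact memX.2 ⟨(show Commute π aU from hcomm _ hπ _ (by simp [four6'])).map _,
      (show Commute π aV' from hcomm _ hπ _ (by simp [four6'])).map _⟩
  have hVp : IsPGroup 2 V := IsPGroup.of_card (n := 2) hVcard
  have hVc : ∀ z ∈ V, ∀ x ∈ X, Commute z x := by
    rintro _ ⟨π, hπ, rfl⟩ x hx
    obtain ⟨h1, h2⟩ := memX.1 hx
    change π ∈ four6' at hπ
    simp only [four6', List.mem_cons, List.not_mem_nil, or_false] at hπ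
    rcases hπ with rfl | rfl | rfl | rfl
    · rw [map_one]; exact Commute.one_left x
    · exact h1.symm
    · exact h2.symm
    · rw [map_mul]; exact h1.symm.mul_left h2.symm
  have hdX : C.A 2 ∈ X := memX.2 ⟨C.comm 2 _, C.comm 2 _⟩
  have hCd : ∀ x ∈ X, Commute x (C.A 2) → ∃ i : Fin 3, ∃ z ∈ V, x = z * C.A 2 ^ i.val := by
    intro x hx hc
    obtain ⟨i, π, hπ, e⟩ := C.cent_V'_A2 (memX.1 hx).1 (memX.1 hx).2 hc
    exact ⟨i, C.φ 2 π, ⟨π, hπ, rfl⟩, e⟩
  obtain ⟨-, -, -, -, -, -, -, -, -, -, -, -, -, -, -, -, -, gu, gv, g3, -⟩ := four_facts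
  have hg : C.g ^ 3 = 1 := by
    rw [← map_pow, show aG ^ 3 = 1 from Subtype.ext (by
      rw [SubgroupClass.coe_pow, pow_succ, pow_two]; exact g3), map_one]
  have hgu : C.g * C.u * C.g⁻¹ = C.φ 2 (aU * aV') := by
    rw [← map_mul, ← map_inv, ← map_mul]
    exact congrArg (C.φ 2) (Subtype.ext gu)
  have hgv : C.g * C.v' * C.g⁻¹ = C.u := by
    rw [← map_mul, ← map_inv, ← map_mul]
    exact congrArg (C.φ 2) (Subtype.ext gv)
  have hgX : C.g ∈ normalizer (X : Set G) := by
    have key : ∀ x ∈ X, C.g⁻¹ * x * C.g ∈ X := by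
      intro x hx
      obtain ⟨h1, h2⟩ := memX.1 hx
      have m1 := (show Commute x (C.g * C.u * C.g⁻¹) from hgu ▸ (by
        rw [map_mul]; exact h1.mul_right h2)).map (MulAut.conj C.g⁻¹).toMonoidHom
      have m2 := (show Commute x (C.g * C.v' * C.g⁻¹) from hgv ▸ h1).map
        (MulAut.conj C.g⁻¹).toMonoidHom
      exact memX.2 ⟨by simpa [mul_assoc] using m1, by simpa [mul_assoc] using m2⟩
    have h2 : C.g⁻¹ ∈ normalizer (X : Set G) := by
      refine mem_normalizer_iff.2 fun x => ⟨fun hx => by simpa using key x hx, fun hx => ?_⟩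
      have h3 := key _ (key _ hx)
      rw [show C.g⁻¹ * (C.g⁻¹ * (C.g⁻¹ * x * C.g⁻¹⁻¹) * C.g) * C.g = (C.g * C.g * C.g)⁻¹ * x * (C.g * C.g * C.g) by
        group, ← pow_two, ← pow_succ, hg] at h3
      simpa using h3
    simpa using inv_mem h2
  have hAg : Commute C.g (C.A 2) := (C.comm 2 aG).symm
  -- invariant subgroups lie in the four-group
  have hsmall : ∀ Y : Subgroup G, Y ≤ X → C.A 2 ∈ normalizer (Y : Set G) →
      C.g ∈ normalizer (Y : Set G) → Group.IsSolvable Y → (Nat.card Y).Coprime 3 → Y ≤ V := by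
    intro Y hYX hdY hgY hsol hcop
    have hnm : C.g ∉ zpowers (C.A 2) := by
      rintro ⟨n, hn⟩
      obtain ⟨i, hi⟩ : ∃ i : Fin 3, C.A 2 ^ n = C.A 2 ^ i.val := by
        obtain ⟨i, j, h⟩ := mem_pair_three (C.A_cube 2) (C.A_cube 2) (Commute.refl _)
          (zpow_mem (subset_closure (Set.mem_insert (C.A 2) _)) n)
        refine ⟨⟨(i.val + j.val) % 3, Nat.mod_lt _ (by norm_num)⟩, ?_⟩
        rw [h, ← pow_add]
        exact pow_eq_pow_mod _ (C.A_cube 2)
      have hne : C.g ≠ 1 := fun e => absurd ((C.inj 2) (e.trans (map_one _).symm)) (by decide +kernel)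
      have h0 := C.disjoint 2 i aG (hi.symm.trans hn)
      refine hne (hn.symm.trans ?_)
      show C.A 2 ^ n = 1
      rw [hi, h0]
      simp
    haveI : Fact (Nat.Prime 3) := ⟨Nat.prime_three⟩
    refine CfsgLib.CoprimeGeneration.le_of_pair (q := 3) (C.A_cube 2) hg hAg.symm.eq hnm
      (C.A_ne_one 2) V Y hsol hcop.symm hdY hgY ?_
    intro b hb hb1 y hy
    obtain ⟨i, j, rfl⟩ := mem_pair_three (C.A_cube 2) hg hAg.symm hb
    obtain ⟨hyY, hyc⟩ := mem_inf.1 hy
    have hyc : Commute y (C.A 2 ^ i.val * C.g ^ j.val) := mem_centralizer_singleton_iff.1 hyc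
    have hyo : (orderOf y).Coprime 3 := hcop.coprime_dvd_left (Y.orderOf_dvd_natCard hyY)
    have hyX := memX.1 (hYX hyY)
    have toV : Commute y (C.A 2) → y ∈ V := by
      intro hc
      obtain ⟨m, hm⟩ := exists_pow_cube hyo
      obtain ⟨k, π, hπ, rfl⟩ := C.cent_V'_A2 hyX.1 hyX.2 hc
      rw [← hm, ((C.comm 2 π).symm.pow_right _).mul_pow, ← pow_mul (C.A 2), mul_comm k.val,
        pow_mul, C.A_cube, one_pow, mul_one, ← map_pow, ← map_pow]
      exact ⟨_, pow_mem (pow_mem hπ 3) m, rfl⟩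
    rcases eq_or_ne j 0 with rfl | hj
    · rw [Fin.val_zero, pow_zero, mul_one] at hyc hb1
      obtain h | h | h : i.val = 0 ∨ i.val = 1 ∨ i.val = 2 := by omega
      · exact absurd (by rw [h, pow_zero]) hb1
      · exact toV (by simpa [h] using hyc)
      · refine toV ?_
        have h2 := hyc.pow_right 2
        rwa [h, ← pow_mul, show 2 * 2 = 3 + 1 from rfl, pow_succ, C.A_cube, one_mul] at h2
    -- conjugate to an element of `J`
    obtain ⟨σ, hσ, hσs⟩ := g6_conj
    set P := C.φ 2 ⟨σ, Perm.mem_alternatingGroup.2 hσs⟩ with hP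
    have hPg : P * (C.A 0 * C.A 1) * P⁻¹ = C.g := by
      rw [← C.phi2_p0, ← C.phi2_p1, hP, ← map_mul, ← map_inv, ← map_mul, ← map_mul]
      exact congrArg (C.φ 2) (Subtype.ext hσ)
    have hPA : P * C.A 2 * P⁻¹ = C.A 2 := by
      rw [hP, (C.comm 2 _).symm.eq, mul_inv_cancel_right]
    have hb2 : C.A 2 ^ i.val * C.g ^ j.val = P * ge S.e (xJ' i j) * P⁻¹ := by
      rw [xJ', S.ge_mul (pow_mem (mul_mem (av_mem 0) (av_mem 1)) _) (pow_mem (av_mem 2) _),
        S.ge_pow (mul_mem (av_mem 0) (av_mem 1)), S.ge_pow (av_mem 2),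
        S.ge_mul (av_mem 0) (av_mem 1), ← (hAg.symm.pow_pow i.val j.val).symm.eq, ← hPg, conj_pow]
      conv_lhs => rw [← hPA, conj_pow]
      group
    have hy' : Commute (P⁻¹ * y * P) (ge S.e (xJ' i j)) := by
      have h2 := hyc.map (MulAut.conj P⁻¹).toMonoidHom
      rw [hb2] at h2
      simpa [mul_assoc] using h2
    obtain ⟨w, hw, e, hwx⟩ := exists_of_commute (xJ'_mem i j)
      (centralizer_J_le hB (xJ'_class i j hj)) hy'
    have hall := List.all_eq_true.1 (List.all_eq_true.1 xJ'_cent i (List.mem_finRange _)) j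
      (List.mem_finRange _)
    rw [Bool.or_eq_true, beq_iff_eq] at hall
    have hall := List.all_eq_true.1 (hall.resolve_left hj) w (mem_el4.2 hw)
    rw [if_pos (beq_iff_eq.2 hwx)] at hall
    have ey : y = P * ge S.e w * P⁻¹ := by rw [← e]; group
    have hord : ∀ n : ℕ, w ^ n = 1 → y ^ n = 1 := fun n hn => by
      rw [ey, conj_pow, ← S.ge_pow hw, hn, S.ge_one, mul_one, mul_inv_cancel]
    rcases eq_or_ne i 0 with rfl | hi
    · rw [if_pos (beq_iff_eq.2 rfl), beq_iff_eq] at hall
      have h54 := hord 54 hall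
      have hy2 : y * y = 1 := by
        rw [← pow_two]
        obtain ⟨m, hm⟩ := exists_pow_eq_self_of_coprime (x := y) (n := 27)
          (show (27 : ℕ).Coprime (orderOf y) from
            (Nat.Coprime.pow_left 3 hyo.symm : ((3 : ℕ) ^ 3).Coprime (orderOf y)))
        rw [← hm, ← pow_mul, ← pow_mul, mul_comm m, ← mul_assoc, show 27 * 2 = 54 from rfl, pow_mul,
          h54, one_pow]
      by_cases hy1 : y = 1
      · rw [hy1]; exact one_mem _
      refine toV ?_
      -- the involution centralizing `g` is unique, hence fixed by `(6 7 8)`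
      set y' := C.A 2 * y * (C.A 2)⁻¹ with hy'def
      have hy'Y : y' ∈ Y := (mem_normalizer_iff.1 hdY y).1 hyY
      have hy'c : Commute (P⁻¹ * y' * P) (ge S.e (xJ' 0 j)) := by
        have h3 := hyc.map (MulAut.conj (C.A 2)).toMonoidHom
        simp only [MulEquiv.coe_toMonoidHom, MulAut.conj_apply] at h3
        rw [Fin.val_zero, pow_zero, one_mul, (hAg.symm.pow_right j.val).eq,
          mul_inv_cancel_right] at h3
        have hb2' := hb2
        rw [Fin.val_zero, pow_zero, one_mul] at hb2'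
        rw [hb2'] at h3
        have h4 := h3.map (MulAut.conj P⁻¹).toMonoidHom
        simpa [hy'def, mul_assoc] using h4
      obtain ⟨w', hw', e', hwx'⟩ := exists_of_commute (xJ'_mem 0 j)
        (centralizer_J_le hB (xJ'_class 0 j hj)) hy'c
      have ey' : y' = P * ge S.e w' * P⁻¹ := by rw [← e']; group
      have hy'2 : y' * y' = 1 := by
        rw [hy'def, show C.A 2 * y * (C.A 2)⁻¹ * (C.A 2 * y * (C.A 2)⁻¹) =
          C.A 2 * (y * y) * (C.A 2)⁻¹ by group, hy2, mul_one, mul_inv_cancel]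
      have sq : ∀ {z : W}, z ∈ M4 → P * ge S.e z * P⁻¹ * (P * ge S.e z * P⁻¹) = 1 → z * z = 1 := by
        intro z hz h
        refine S.ge_inj (mul_mem hz hz) (one_mem _) ?_
        rw [S.ge_mul hz hz, S.ge_one]
        calc ge S.e z * ge S.e z =
            P⁻¹ * (P * ge S.e z * P⁻¹ * (P * ge S.e z * P⁻¹)) * P := by group
          _ = 1 := by rw [h, mul_one, inv_mul_cancel]
      have ne : ∀ {z : W}, P * ge S.e z * P⁻¹ ≠ 1 → z ≠ 1 := fun h h' => h (by
        rw [h', S.ge_one, mul_one, mul_inv_cancel])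
      have hy'1 : y' ≠ 1 := fun h => hy1 (by simpa [hy'def] using h)
      have hcyy : y * y' = y' * y := by
        have hys : ∀ z ∈ Y, Commute z (C.g ^ j.val) → z * z = 1 := by
          intro z hz hzc
          obtain ⟨m, hm⟩ := exists_pow_eq_self_of_coprime (x := z) (n := 27)
            (show (27 : ℕ).Coprime (orderOf z) from (Nat.Coprime.pow_left 3
              (hcop.coprime_dvd_left (Y.orderOf_dvd_natCard hz)).symm :
                ((3 : ℕ) ^ 3).Coprime (orderOf z)))
          have hb2' := hb2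
          rw [Fin.val_zero, pow_zero, one_mul] at hb2'
          have hzc' : Commute (P⁻¹ * z * P) (ge S.e (xJ' 0 j)) := by
            have h4 := (hb2' ▸ hzc).map (MulAut.conj P⁻¹).toMonoidHom
            simpa [mul_assoc] using h4
          obtain ⟨t, ht, et, htx⟩ := exists_of_commute (xJ'_mem 0 j)
            (centralizer_J_le hB (xJ'_class 0 j hj)) hzc'
          have hall := List.all_eq_true.1 (List.all_eq_true.1 xJ'_cent 0 (List.mem_finRange _)) j
            (List.mem_finRange _)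
          rw [Bool.or_eq_true, beq_iff_eq] at hall
          have hall := List.all_eq_true.1 (hall.resolve_left hj) t (mem_el4.2 ht)
          rw [if_pos (beq_iff_eq.2 htx), if_pos (beq_iff_eq.2 rfl), beq_iff_eq] at hall
          have h54' : z ^ 54 = 1 := by
            rw [show z = P * ge S.e t * P⁻¹ by rw [← et]; group, conj_pow, ← S.ge_pow ht, hall,
              S.ge_one, mul_one, mul_inv_cancel]
          rw [← pow_two, ← hm, ← pow_mul, ← pow_mul, mul_comm m, ← mul_assoc,
            show 27 * 2 = 54 from rfl, pow_mul, h54', one_pow]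
        rw [Fin.val_zero, pow_zero, one_mul] at hyc
        have hy'g : Commute y' (C.g ^ j.val) := by
          have h3 := hyc.map (MulAut.conj (C.A 2)).toMonoidHom
          simp only [MulEquiv.coe_toMonoidHom, MulAut.conj_apply] at h3
          rwa [(hAg.symm.pow_right j.val).eq, mul_inv_cancel_right] at h3
        have h := hys _ (mul_mem hyY hy'Y) (hyc.mul_left hy'g)
        calc y * y' = y * (y * y' * (y * y')) * y' := by rw [h, mul_one]
          _ = y * y * (y' * y) * (y' * y') := by group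
          _ = y' * y := by rw [hy2, hy'2, one_mul, mul_one]
      have hall2 := List.all_eq_true.1 xJ'_invol j (List.mem_finRange _)
      rw [Bool.or_eq_true, beq_iff_eq] at hall2
      have hall2 := List.all_eq_true.1 (List.all_eq_true.1 (hall2.resolve_left hj) w
        (List.mem_filter.2 ⟨List.mem_filter.2 ⟨mem_el4.2 hw, beq_iff_eq.2 (sq hw (ey ▸ hy2))⟩,
          by simp [ne (ey ▸ hy1), hwx]⟩)) w'
        (List.mem_filter.2 ⟨List.mem_filter.2 ⟨mem_el4.2 hw', beq_iff_eq.2 (sq hw' (ey' ▸ hy'2))⟩,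
          by simp [ne (ey' ▸ hy'1), hwx']⟩)
      rw [Bool.or_eq_true, bne_iff_ne, beq_iff_eq] at hall2
      rcases hall2 with h | h
      · refine absurd (S.ge_inj (mul_mem hw hw') (mul_mem hw' hw) ?_) h
        rw [S.ge_mul hw hw', S.ge_mul hw' hw, ← e, ← e',
          show P⁻¹ * y * P * (P⁻¹ * y' * P) = P⁻¹ * (y * y') * P by group, hcyy]
        group
      · have hyy : y' = y := by rw [ey, ey', h]
        have : C.A 2 * y = y * C.A 2 := by
          rw [hy'def] at hyy
          exact mul_inv_eq_iff_eq_mul.1 hyy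
        exact this.symm
    · rw [if_neg (by simp [hi]), beq_iff_eq] at hall
      have h81 := hord 81 hall
      have : y = 1 := by
        apply orderOf_eq_one_iff.1
        exact Nat.eq_one_of_dvd_coprimes (hyo.pow_right 4 : (orderOf y).Coprime (3 ^ 4)) dvd_rfl
          (orderOf_dvd_of_pow_eq_one h81)
      rw [this]; exact one_mem _
  have hdich := card_le_of_invariant X V (C.A 2) C.g 4 hVX hVp hVc hdX (C.A_cube 2) (C.A_ne_one 2)
    hCd hg hgX hAg (by
      intro Y h1 h2 h3 h4 h5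
      have h := (card_dvd_of_le (hsmall Y h1 h2 h3 h4 h5))
      rw [hVcard] at h
      exact ⟨Nat.le_of_dvd (by norm_num) h, fun h7 => absurd (h7.trans h) (by norm_num)⟩)
  rw [hVcard] at hdich
  have h24 : Nat.card X ≤ 24 := by rcases hdich with h | ⟨h, -⟩ <;> omega
  refine ⟨h24, fun y hyu hyv => ?_⟩
  -- the twenty-four elements
  obtain ⟨hsu, hsv, -⟩ := C.s_commute_V'
  have hsX : C.s ∈ X := memX.2 ⟨hsu, hsv⟩
  let f : V × Fin 3 × Fin 2 → X := fun t =>
    ⟨(t.1 : G) * C.A 2 ^ t.2.1.val * C.s ^ t.2.2.val,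
      mul_mem (mul_mem (hVX t.1.2) (pow_mem hdX _)) (pow_mem hsX _)⟩
  have hnc : ∀ (z : G), Commute z (C.A 2) → z * C.s ≠ 1 ∧ z ≠ C.s := by
    intro z hz
    have hne : C.A 2 ≠ (C.A 2)⁻¹ := fun h => C.A_ne_one 2 (by
      have h3 := C.A_cube 2
      rwa [pow_succ, pow_two, show C.A 2 * C.A 2 = 1 by nth_rewrite 2 [h]; rw [mul_inv_cancel],
        one_mul] at h3)
    have key : z ≠ C.s := fun h => hne (by
      have := C.s_conj_A2
      rw [← h, hz.eq, mul_inv_cancel_right] at this
      exact this)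
    refine ⟨fun h => ?_, key⟩
    have : z⁻¹ = C.s := inv_eq_of_mul_eq_one_right h
    exact hne (by
      have h5 := C.s_conj_A2
      rw [← this, hz.inv_left.eq, mul_inv_cancel_right] at h5
      exact h5)
  have hVA : ∀ z ∈ V, Commute z (C.A 2) := fun z hz => hVc z hz _ hdX
  have hfinj : Function.Injective f := by
    rintro ⟨⟨z, hz⟩, i, a⟩ ⟨⟨z', hz'⟩, k, b⟩ h
    simp only [f, Subtype.mk.injEq] at h
    have hc1 : Commute (z * C.A 2 ^ i.val) (C.A 2) := (hVA z hz).mul_left (Commute.pow_self _ _)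
    have hc2 : Commute (z' * C.A 2 ^ k.val) (C.A 2) := (hVA z' hz').mul_left (Commute.pow_self _ _)
    have hab : a = b := by
      obtain ha | ha : a.val = 0 ∨ a.val = 1 := by omega
      all_goals obtain hb | hb : b.val = 0 ∨ b.val = 1 := by omega
      all_goals first
        | exact Fin.ext (ha.trans hb.symm)
        | exfalso
      · rw [ha, hb, pow_zero, mul_one, pow_one] at h
        exact (hnc _ (hc2.inv_left.mul_left hc1)).2 (inv_mul_eq_iff_eq_mul.2 h)
      · rw [ha, hb, pow_zero, mul_one, pow_one] at h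
        exact (hnc _ (hc1.inv_left.mul_left hc2)).2 (inv_mul_eq_iff_eq_mul.2 h.symm)
    subst hab
    rw [mul_left_inj] at h
    obtain ⟨π, hπ, rfl⟩ := hz
    obtain ⟨π', hπ', rfl⟩ := hz'
    have hik : i = k := by
      have e : C.A 2 ^ ((i.val + (3 - k.val)) % 3) = C.φ 2 (π⁻¹ * π') := by
        rw [← pow_eq_pow_mod _ (C.A_cube 2), pow_add, map_mul, map_inv, eq_inv_mul_iff_mul_eq]
        rw [← mul_assoc, h, mul_assoc, ← pow_add, Nat.add_sub_cancel' (by omega), C.A_cube,
          mul_one]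
      have := congrArg Fin.val (C.disjoint 2 ⟨_, Nat.mod_lt _ (by norm_num)⟩ _ e)
      simp only [Fin.val_zero] at this
      ext; omega
    subst hik
    rw [mul_left_inj] at h
    simp [h]
  have hcard : Nat.card (V × Fin 3 × Fin 2) = 24 := by
    rw [Nat.card_prod, Nat.card_prod, hVcard, Nat.card_fin, Nat.card_fin]
  have hbij := (Nat.bijective_iff_injective_and_card f).2 ⟨hfinj,
    le_antisymm (Nat.card_le_card_of_injective f hfinj) (by omega)⟩
  obtain ⟨⟨⟨z, hz⟩, i, a⟩, hf⟩ := hbij.2 ⟨y, memX.2 ⟨hyu, hyv⟩⟩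
  rw [show y = z * C.A 2 ^ i.val * C.s ^ a.val from (congrArg Subtype.val hf).symm]
  have hc1 : Commute (z * C.A 2 ^ i.val) (C.A 2) := (hVA z hz).mul_left (Commute.pow_self _ _)
  obtain ha | ha : a.val = 0 ∨ a.val = 1 := by omega
  · left; rw [ha, pow_zero, mul_one, hc1.eq, mul_inv_cancel_right]
  · right
    rw [ha, pow_one, show z * C.A 2 ^ i.val * C.s * C.A 2 * (z * C.A 2 ^ i.val * C.s)⁻¹ =
      z * C.A 2 ^ i.val * (C.s * C.A 2 * C.s⁻¹) * (z * C.A 2 ^ i.val)⁻¹ by group, C.s_conj_A2,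
      hc1.inv_right.eq, mul_inv_cancel_right]

end Coord

end CfsgLib.AltNine
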