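import Cfsg.Agent.Lib.Recognition.AltNine.FourPrime

/-!
# Invariant subgroups of the centralizer of the four-group `⟨(2 3)(4 5), (2 4)(3 5)⟩`
-/

set_option autoImplicit false
set_option maxRecDepth 10000
set_option linter.style.haveILetI false

namespace CfsgLib.AltNine

open Cfsg Equiv Subgroup CfsgLib.ThreeCubed CfsgLib.ThreeCubedWreath

universe u

attribute [local irreducible] el4 M4set

/-- `⟨(2 3)(4 5), (2 4)(3 5)⟩` in `A₆`. -/
def four6 : List (alternatingGroup (Fin 6)) := [1, aU, aV, aU * aV]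

theorem four6_mul : ∀ x ∈ four6, ∀ y ∈ four6, x * y ∈ four6 := by decide +kernel

theorem four6_inv : ∀ x ∈ four6, x⁻¹ ∈ four6 ∧ x * x = 1 := by decide +kernel

theorem four6_nodup : four6.Nodup := by decide +kernel

theorem four6_comm : ∀ x ∈ four6, ∀ y ∈ four6, x * y = y * x := by decide +kernel

/-- The four-group as a subgroup of `A₆`. -/
def F6 : Subgroup (alternatingGroup (Fin 6)) where
  carrier := {x | x ∈ four6}
  mul_mem' hx hy := four6_mul _ hx _ hy
  inv_mem' hx := (four6_inv _ hx).1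
  one_mem' := List.mem_cons_self

theorem card_F6 : Nat.card F6 = 4 := by
  show Nat.card {x // x ∈ four6} = 4
  rw [Nat.subtype_card four6.toFinset (fun x => List.mem_toFinset),
    List.toFinset_card_of_nodup four6_nodup]
  rfl

theorem commutes_four6 : ∀ π ∈ four6, π * aP1 = aP1 * π → π = 1 := by decide +kernel

namespace Coord

variable {G : Type u} [Group G] {S : Setup G} (C : Coord S)

/-- The first four-group. -/
def V : Subgroup G := F6.map (C.φ 2)

/-- Its centralizer. -/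
def CV : Subgroup G := centralizer ({C.u, C.v} : Set G)

theorem mem_CV {y : G} : y ∈ C.CV ↔ Commute y C.u ∧ Commute y C.v :=
  ⟨fun h => ⟨(mem_centralizer_iff.1 h _ (by simp)).symm, (mem_centralizer_iff.1 h _ (by simp)).symm⟩,
    fun h => mem_centralizer_iff.2 fun z hz => by
      rcases hz with rfl | rfl
      · exact h.1.eq.symm
      · exact h.2.eq.symm⟩

theorem card_V : Nat.card C.V = 4 := by
  rw [V, card_map_of_injective (C.inj 2), card_F6]

theorem V_le_CV : C.V ≤ C.CV := by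
  rintro _ ⟨π, hπ, rfl⟩
  exact C.mem_CV.2 ⟨(show Commute π aU from four6_comm _ hπ _ (by simp [four6])).map _,
    (show Commute π aV from four6_comm _ hπ _ (by simp [four6])).map _⟩

theorem commute_V {z x : G} (hz : z ∈ C.V) (hx : x ∈ C.CV) : Commute z x := by
  obtain ⟨π, hπ, rfl⟩ := hz
  obtain ⟨h1, h2⟩ := C.mem_CV.1 hx
  change π ∈ four6 at hπ
  simp only [four6, List.mem_cons, List.not_mem_nil, or_false] at hπ
  rcases hπ with rfl | rfl | rfl | rfl
  · rw [map_one]; exact Commute.one_left x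
  · exact h1.symm
  · exact h2.symm
  · rw [map_mul]; exact h1.symm.mul_left h2.symm

theorem A2_mem_CV : C.A 2 ∈ C.CV := C.mem_CV.2 ⟨C.comm 2 _, C.comm 2 _⟩

theorem cent_V_A2 {y : G} (hy : y ∈ C.CV) (hc : Commute y (C.A 2)) :
    ∃ i : Fin 3, ∃ z ∈ C.V, y = z * C.A 2 ^ i.val := by
  obtain ⟨hu, hv⟩ := C.mem_CV.1 hy
  obtain ⟨i, π, rfl, h1⟩ := C.decomp_commute 2 hc hu
  have h2 : (π : Perm (Fin 6)) * v6 = v6 * π := by
    refine (C.phi_commute 2 (π := π) (ρ := aV)).1 ?_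
    have h3 : Commute ((C.A 2 ^ i.val)⁻¹) C.v := ((C.comm 2 aV).pow_left _).inv_left
    simpa using h3.mul_left hv
  refine ⟨i, C.φ 2 π, ⟨π, ?_, rfl⟩, ((C.comm 2 π).pow_left _).eq⟩
  show π ∈ four6
  simp only [four6, List.mem_cons, List.not_mem_nil, or_false]
  exact (cent_V _ h1 h2 (Perm.mem_alternatingGroup.1 π.2)).imp Subtype.ext
    (Or.imp Subtype.ext (Or.imp Subtype.ext Subtype.ext))

theorem A1_normalizes : C.A 1 ∈ normalizer (C.CV : Set G) := by
  obtain ⟨-, -, -, -, -, -, -, -, -, -, -, -, -, -, -, pu, pv, -⟩ := four_facts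
  have e1 : C.A 1 * C.u * (C.A 1)⁻¹ = C.v := by
    rw [← C.phi2_p1, ← map_inv, ← map_mul, ← map_mul]
    exact congrArg (C.φ 2) (Subtype.ext pu)
  have e2 : C.A 1 * C.v * (C.A 1)⁻¹ = C.φ 2 (aU * aV) := by
    rw [← C.phi2_p1, ← map_inv, ← map_mul, ← map_mul]
    exact congrArg (C.φ 2) (Subtype.ext pv)
  have key : ∀ x ∈ C.CV, (C.A 1)⁻¹ * x * C.A 1 ∈ C.CV := by
    intro x hx
    obtain ⟨h1, h2⟩ := C.mem_CV.1 hx
    have m1 := (show Commute x (C.A 1 * C.u * (C.A 1)⁻¹) from e1 ▸ h2).map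
      (MulAut.conj (C.A 1)⁻¹).toMonoidHom
    have m2 := (show Commute x (C.A 1 * C.v * (C.A 1)⁻¹) from e2 ▸ (by
      rw [map_mul]; exact h1.mul_right h2)).map (MulAut.conj (C.A 1)⁻¹).toMonoidHom
    exact C.mem_CV.2 ⟨by simpa [mul_assoc] using m1, by simpa [mul_assoc] using m2⟩
  have h2 : (C.A 1)⁻¹ ∈ normalizer (C.CV : Set G) := by
    refine mem_normalizer_iff.2 fun x => ⟨fun hx => by simpa using key x hx, fun hx => ?_⟩
    have h3 := key _ (key _ hx)
    rw [show (C.A 1)⁻¹ * ((C.A 1)⁻¹ * ((C.A 1)⁻¹ * x * (C.A 1)⁻¹⁻¹) * C.A 1) * C.A 1 =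
        (C.A 1 * C.A 1 * C.A 1)⁻¹ * x * (C.A 1 * C.A 1 * C.A 1) by group,
      ← pow_two, ← pow_succ, C.A_cube] at h3
    simpa using h3
  simpa using inv_mem h2

/-- No element of an invariant subgroup centralizes `(3 4 5)(6 7 8)` or `(3 4 5)(6 8 7)`. -/
theorem fixed_J_eq_one [Finite G] (hB : centralizer ({S.b} : Set G) ≤ S.H) {i j : Fin 3}
    (hi : i ≠ 0) (hj : j ≠ 0) {y : G} (ho : (orderOf y).Coprime 3) (hu : Commute y C.u)
    (hc : Commute y (C.A 1 ^ i.val * C.A 2 ^ j.val)) : y = 1 := by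
  have hx : C.A 1 ^ i.val * C.A 2 ^ j.val = ge S.e (xJ i j) := by
    rw [xJ, S.ge_mul (pow_mem (av_mem 1) _) (pow_mem (av_mem 2) _), S.ge_pow (av_mem 1),
      S.ge_pow (av_mem 2)]
  rw [hx] at hc
  obtain ⟨w, hw, rfl, hwx⟩ := exists_of_commute (xJ_mem i j)
    (centralizer_J_le hB (xJ_class i j hi hj)) hc
  have hall := List.all_eq_true.1 (List.all_eq_true.1 xJ_cent i (List.mem_finRange _)) j
    (List.mem_finRange _)
  rw [Bool.or_eq_true, Bool.or_eq_true, beq_iff_eq, beq_iff_eq] at hall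
  have hall := List.all_eq_true.1 (hall.resolve_left (not_or.2 ⟨hi, hj⟩)) w (mem_el4.2 hw)
  rw [if_pos (beq_iff_eq.2 hwx)] at hall
  simp only [Bool.and_eq_true, Bool.or_eq_true, beq_iff_eq, bne_iff_ne] at hall
  obtain ⟨h54, h2⟩ := hall
  have h2' : ge S.e w * ge S.e w = 1 := by
    rw [← pow_two]
    obtain ⟨m, hm⟩ := exists_pow_eq_self_of_coprime (x := ge S.e w) (n := 27)
      (show (27 : ℕ).Coprime (orderOf (ge S.e w)) from
        (Nat.Coprime.pow_left 3 ho.symm : ((3 : ℕ) ^ 3).Coprime (orderOf (ge S.e w))))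
    rw [← hm, ← pow_mul, ← pow_mul, mul_comm m, ← mul_assoc, show 27 * 2 = 54 from rfl, pow_mul,
      ← S.ge_pow hw, h54, S.ge_one, one_pow]
  have hww : w * w = 1 := S.ge_inj (mul_mem hw hw) (one_mem _) (by rw [S.ge_mul hw hw, h2', S.ge_one])
  rcases h2 with ((h | h) | h) | h
  · exact absurd hww h
  · rw [h, S.ge_one]
  all_goals exfalso
  all_goals
    have hwA : Commute C.u (C.A 1) := by
      have h3 := (show Commute C.u (C.A 2) from (C.comm 2 aU).symm).map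
        (MulAut.conj (ge S.e w)).toMonoidHom
      simp only [MulEquiv.coe_toMonoidHom, MulAut.conj_apply] at h3
      rw [hu.eq, mul_inv_cancel_right, ← S.ge_conj hw (av_mem 2), h] at h3
      first
        | exact h3
        | (rw [S.ge_inv (av_mem 1)] at h3; exact Commute.inv_right_iff.1 h3)
    rw [← C.phi2_p1] at hwA
    exact four_commute u6 (by simp) ((C.phi_commute 2).1 hwA)

/-- An invariant subgroup lies in the product of the four-group and a subgroup of `L₁`. -/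
theorem invariant_sub [Finite G] (hB : centralizer ({S.b} : Set G) ≤ S.H) (Y : Subgroup G)
    (hY : Y ≤ C.CV) (h2 : C.A 2 ∈ normalizer (Y : Set G)) (h1 : C.A 1 ∈ normalizer (Y : Set G))
    (hsol : Group.IsSolvable Y) (hcop : (Nat.card Y).Coprime 3) :
    Y ≤ C.V ⊔ (Y ⊓ centralizer ({C.A 1} : Set G)) ∧
    ∀ y ∈ Y ⊓ centralizer ({C.A 1} : Set G), ∃ π : alternatingGroup (Fin 6), C.φ 1 π = y ∧
      ((π : Perm (Fin 6)) = 1 ∨ (π : Perm (Fin 6)) ∈ fours) := by
  set W := Y ⊓ centralizer ({C.A 1} : Set G) with hW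
  have ho : ∀ {y : G}, y ∈ Y → (orderOf y).Coprime 3 := fun hy =>
    hcop.coprime_dvd_left (Y.orderOf_dvd_natCard hy)
  have toV : ∀ {y : G}, y ∈ Y → Commute y (C.A 2) → y ∈ C.V := by
    intro y hy hc
    obtain ⟨m, hm⟩ := exists_pow_cube (ho hy)
    obtain ⟨k, z, hz, rfl⟩ := C.cent_V_A2 (hY hy) hc
    rw [← hm, ((C.commute_V hz C.A2_mem_CV).pow_right _).mul_pow, ← pow_mul (C.A 2),
      mul_comm k.val, pow_mul, C.A_cube, one_pow, mul_one]
    exact pow_mem (pow_mem hz 3) m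
  refine ⟨?_, ?_⟩
  · haveI : Fact (Nat.Prime 3) := ⟨Nat.prime_three⟩
    have hnm : C.A 1 ∉ zpowers (C.A 2) := by
      rintro ⟨n, hn⟩
      have hc : Commute C.u (C.A 1) := hn ▸ ((C.comm 2 aU).symm.zpow_right n)
      rw [← C.phi2_p1] at hc
      exact four_commute u6 (by simp) ((C.phi_commute 2).1 hc)
    refine CfsgLib.CoprimeGeneration.le_of_pair (q := 3) (C.A_cube 2) (C.A_cube 1)
      (C.A_comm 2 1).eq hnm (C.A_ne_one 2) _ Y hsol hcop.symm h2 h1 ?_
    intro b hb hb1 y hy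
    obtain ⟨i, j, rfl⟩ := mem_pair_three (C.A_cube 2) (C.A_cube 1) (C.A_comm 2 1) hb
    obtain ⟨hyY, hyc⟩ := mem_inf.1 hy
    have hyc : Commute y (C.A 2 ^ i.val * C.A 1 ^ j.val) := mem_centralizer_singleton_iff.1 hyc
    have hsq : ∀ {z : G} {k : Fin 3}, k ≠ 0 → z ^ 3 = 1 → Commute y (z ^ k.val) → Commute y z := by
      intro z k hk hz h
      obtain h' | h' : k.val = 1 ∨ k.val = 2 := by
        have := Fin.val_ne_of_ne hk
        simp only [Fin.val_zero] at this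
        omega
      · simpa [h'] using h
      · have h2 := h.pow_right 2
        rwa [h', ← pow_mul, show 2 * 2 = 3 + 1 from rfl, pow_succ, hz, one_mul] at h2
    rcases eq_or_ne j 0 with rfl | hj
    · rw [Fin.val_zero, pow_zero, mul_one] at hyc hb1
      have hi : i ≠ 0 := fun e => hb1 (by rw [e]; simp)
      exact mem_sup_left (toV hyY (hsq hi (C.A_cube 2) hyc))
    rcases eq_or_ne i 0 with rfl | hi
    · rw [Fin.val_zero, pow_zero, one_mul] at hyc
      exact mem_sup_right ⟨hyY, mem_centralizer_singleton_iff.2 (hsq hj (C.A_cube 1) hyc).eq⟩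
    rw [((C.A_comm 2 1).pow_pow i.val j.val).eq] at hyc
    rw [C.fixed_J_eq_one hB hj hi (ho hyY) (C.mem_CV.1 (hY hyY)).1 hyc]
    exact one_mem _
  · have hWn : ∀ z ∈ W, C.A 2 * z * (C.A 2)⁻¹ ∈ W := by
      intro z hz
      obtain ⟨hzY, hzc⟩ := mem_inf.1 hz
      refine ⟨(mem_normalizer_iff.1 h2 z).1 hzY, mem_centralizer_singleton_iff.2 ?_⟩
      have h3 := (show Commute z (C.A 1) from mem_centralizer_singleton_iff.1 hzc).map
        (MulAut.conj (C.A 2)).toMonoidHom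
      simp only [MulEquiv.coe_toMonoidHom, MulAut.conj_apply, (C.A_comm 2 1).eq,
        mul_inv_cancel_right] at h3
      exact h3.eq
    have hfix : ∀ z ∈ W, C.A 2 * z * (C.A 2)⁻¹ = z → z = 1 := by
      intro z hz e
      obtain ⟨hzY, hzc⟩ := mem_inf.1 hz
      have hc : Commute z (C.A 2) := (mul_inv_eq_iff_eq_mul.1 e).symm
      obtain ⟨π, hπ, rfl⟩ := toV hzY hc
      have h1 : Commute (C.φ 2 π) (C.φ 2 aP1) := by
        rw [C.phi2_p1]; exact mem_centralizer_singleton_iff.1 hzc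
      rw [commutes_four6 π hπ (Subtype.ext ((C.phi_commute 2).1 h1)), map_one]
    let f : W → W := fun z =>
      ⟨(z : G)⁻¹ * (C.A 2 * z * (C.A 2)⁻¹), mul_mem (inv_mem z.2) (hWn z z.2)⟩
    have hf : Function.Surjective f := by
      refine Finite.surjective_of_injective fun x x' h => ?_
      have h' : (x : G)⁻¹ * (C.A 2 * x * (C.A 2)⁻¹) = (x' : G)⁻¹ * (C.A 2 * x' * (C.A 2)⁻¹) :=
        congrArg Subtype.val h
      have := hfix _ (mul_mem x'.2 (inv_mem x.2)) ?_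
      · exact Subtype.ext (mul_inv_eq_one.1 this).symm
      · calc C.A 2 * ((x' : G) * (x : G)⁻¹) * (C.A 2)⁻¹
            = (x' : G) * ((x' : G)⁻¹ * (C.A 2 * x' * (C.A 2)⁻¹)) *
              ((x : G)⁻¹ * (C.A 2 * x * (C.A 2)⁻¹))⁻¹ * (x : G)⁻¹ := by group
          _ = (x' : G) * (x : G)⁻¹ := by rw [h', mul_inv_cancel_right]
    have hcond : ∀ z ∈ W, ∃ π : alternatingGroup (Fin 6), C.φ 1 π = z ∧ fpfCond π := by
      intro z hz
      obtain ⟨hzY, hzc⟩ := mem_inf.1 hz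
      obtain ⟨π, hπ⟩ := C.mem_range_of_coprime 1 (mem_centralizer_singleton_iff.1 hzc) (ho hzY)
      refine ⟨π, hπ, ?_, ?_⟩
      · have h3 : (z * C.A 2) ^ 3 = 1 := by
          obtain ⟨x, hx⟩ := hf ⟨z, hz⟩
          rw [show z = (x : G)⁻¹ * (C.A 2 * x * (C.A 2)⁻¹) from (congrArg Subtype.val hx).symm,
            show (x : G)⁻¹ * (C.A 2 * x * (C.A 2)⁻¹) * C.A 2 = (x : G)⁻¹ * C.A 2 * (x : G)⁻¹⁻¹ by
              group,
            conj_pow, C.A_cube, mul_one, mul_inv_cancel]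
        rw [← hπ, ← C.phi1_p0, ← map_mul, ← map_pow] at h3
        exact congrArg Subtype.val ((C.inj 1) (h3.trans (map_one _).symm))
      · have h4 : π ^ 40 = 1 := by
          refine orderOf_dvd_iff_pow_eq_one.1 ?_
          have hd : orderOf π ∣ 360 := by
            refine (orderOf_dvd_natCard π).trans (dvd_of_eq ?_)
            rw [nat_card_alternatingGroup, Nat.card_fin]
            rfl
          have hc3 : (orderOf π).Coprime (3 ^ 2) := by
            refine Nat.Coprime.pow_right 2 ?_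
            rw [← orderOf_injective (C.φ 1) (C.inj 1) π, hπ]
            exact ho hzY
          exact hc3.dvd_of_dvd_mul_right (by simpa using hd)
        exact congrArg Subtype.val h4
    intro z hz
    obtain ⟨π, hπ, hc⟩ := hcond z hz
    obtain ⟨ρ, hρ, hc'⟩ := hcond _ (mul_mem hz (hWn z hz))
    have hρ' : ρ = π * (aP0 * π * aP0⁻¹) := C.inj 1 (by
      rw [hρ, map_mul, map_mul, map_mul, map_inv, C.phi1_p0, hπ])
    refine ⟨π, hπ, fours_of_cond _ hc ?_ (Perm.mem_alternatingGroup.1 π.2)⟩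
    rw [hρ'] at hc'
    exact hc'

/-- An invariant subgroup has order at most 16 and exponent two. -/
theorem invariant_bound [Finite G] (hB : centralizer ({S.b} : Set G) ≤ S.H) (Y : Subgroup G)
    (hY : Y ≤ C.CV) (h2 : C.A 2 ∈ normalizer (Y : Set G)) (h1 : C.A 1 ∈ normalizer (Y : Set G))
    (hsol : Group.IsSolvable Y) (hcop : (Nat.card Y).Coprime 3) :
    Nat.card Y ≤ 16 ∧ ¬ 7 ∣ Nat.card Y := by
  obtain ⟨hle, hW⟩ := C.invariant_sub hB Y hY h2 h1 hsol hcop
  set W := Y ⊓ centralizer ({C.A 1} : Set G)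
  have hVW : C.V ≤ normalizer (W : Set G) := by
    intro z hz
    refine mem_normalizer_iff.2 fun y => ?_
    have key : ∀ y ∈ W, z * y * z⁻¹ = y := fun y hy => by
      rw [(C.commute_V hz (hY hy.1)).eq, mul_inv_cancel_right]
    refine ⟨fun hy => (key y hy).symm ▸ hy, fun hy => ?_⟩
    have h3 : z⁻¹ * (z * y * z⁻¹) * z = z * y * z⁻¹ := by
      rw [mul_assoc, ← (C.commute_V hz (hY hy.1)).eq, inv_mul_cancel_left]
    rw [show z⁻¹ * (z * y * z⁻¹) * z = y by group] at h3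
    rwa [h3]
  have hel : ∀ y ∈ Y, ∃ z ∈ C.V, ∃ w ∈ W, y = z * w := by
    intro y hy
    have h := hle hy
    rw [← SetLike.mem_coe, coe_mul_of_left_le_normalizer_right _ _ hVW] at h
    obtain ⟨z, hz, w, hw, rfl⟩ := h
    exact ⟨z, hz, w, hw, rfl⟩
  have hV2 : ∀ z ∈ C.V, z * z = 1 := by
    rintro _ ⟨π, hπ, rfl⟩
    rw [← map_mul, (four6_inv π hπ).2, map_one]
  have hW2 : ∀ w ∈ W, w * w = 1 := by
    intro w hw
    obtain ⟨π, rfl, h | h⟩ := hW w hw
    · rw [show π = 1 from Subtype.ext h, map_one, one_mul]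
    · rw [← map_mul, show π * π = 1 from Subtype.ext (fours_sq _ h), map_one]
  refine ⟨?_, ?_⟩
  · have hW4 : Nat.card W ≤ 4 := by
      by_cases hbot : ∀ w ∈ W, w = 1
      · rw [show W = ⊥ from eq_bot_iff.2 fun w hw => mem_bot.2 (hbot w hw), card_bot]
        norm_num
      push_neg at hbot
      obtain ⟨a, ha, ha1⟩ := hbot
      obtain ⟨π, rfl, hπ⟩ := hW a ha
      have hπ : (π : Perm (Fin 6)) ∈ fours := hπ.resolve_left fun h => ha1 (by
        rw [show π = 1 from Subtype.ext h, map_one])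
      let r : Fin 4 → G :=
        ![1, C.φ 1 π, C.φ 1 (aP0 * π * aP0⁻¹), C.φ 1 (aP0⁻¹ * π * aP0)]
      have hsub : ∀ w : W, ∃ k, r k = (w : G) := by
        intro w
        obtain ⟨ρ, hρ, hρ'⟩ := hW w w.2
        rcases hρ' with h | h
        · exact ⟨0, by rw [← hρ, show ρ = 1 from Subtype.ext h, map_one]; rfl⟩
        obtain ⟨τ, hτ, hτ'⟩ := hW _ (mul_mem ha w.2)
        have hτe : τ = π * ρ := C.inj 1 (by rw [hτ, map_mul, hρ])
        rw [hτe] at hτ'
        rcases fours_mul _ hπ _ h hτ' with e | e | e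
        · exact ⟨1, by rw [← hρ, show ρ = π from Subtype.ext e]; rfl⟩
        · exact ⟨2, by rw [← hρ, show ρ = aP0 * π * aP0⁻¹ from Subtype.ext e]; rfl⟩
        · exact ⟨3, by rw [← hρ, show ρ = aP0⁻¹ * π * aP0 from Subtype.ext e]; rfl⟩
      choose k hk using hsub
      have := Nat.card_le_card_of_injective k fun w w' e => Subtype.ext (by rw [← hk w, ← hk w', e])
      simpa using this
    choose fz hfz fw hfw he using hel
    let f : Y → C.V × W := fun y => (⟨fz y y.2, hfz y y.2⟩, ⟨fw y y.2, hfw y y.2⟩)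
    have := Nat.card_le_card_of_injective f fun y y' e => Subtype.ext (by
      have e1 : fz y y.2 = fz y' y'.2 := congrArg (fun t : C.V × W => (t.1 : G)) e
      have e2 : fw y y.2 = fw y' y'.2 := congrArg (fun t : C.V × W => (t.2 : G)) e
      rw [he y y.2, he y' y'.2, e1, e2])
    rw [Nat.card_prod, C.card_V] at this
    omega
  · intro h7
    haveI : Fact (Nat.Prime 7) := ⟨by norm_num⟩
    obtain ⟨y, hy⟩ := exists_prime_orderOf_dvd_card' 7 h7
    obtain ⟨z, hz, w, hw, e⟩ := hel y y.2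
    have h2 : (y : G) ^ 2 = 1 := by
      rw [e, (C.commute_V hz (hY hw.1)).mul_pow, pow_two, pow_two, hV2 z hz, hW2 w hw, one_mul]
    have h2' : y ^ 2 = 1 := Subtype.ext h2
    have := orderOf_dvd_of_pow_eq_one h2'
    rw [hy] at this
    exact absurd this (by norm_num)

theorem card_CV_le [Finite G] (hB : centralizer ({S.b} : Set G) ≤ S.H) :
    Nat.card C.CV ≤ 240 := by
  have h := card_le_of_invariant C.CV C.V (C.A 2) (C.A 1) 16 C.V_le_CV
    (IsPGroup.of_card (n := 2) C.card_V) (fun z hz x hx => C.commute_V hz hx) C.A2_mem_CV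
    (C.A_cube 2) (C.A_ne_one 2) (fun x hx hc => C.cent_V_A2 hx hc) (C.A_cube 1) C.A1_normalizes
    (C.A_comm 1 2) (fun Y h1 h2 h3 h4 h5 => C.invariant_bound hB Y h1 h2 h3 h4 h5)
  rcases h with h | ⟨-, h⟩ <;> omega

/-- A non-trivial fixed element in an invariant subgroup gives `(0 1 6)` centralizing the
four-group. -/
theorem x6_of_fixed [Finite G] (hB : centralizer ({S.b} : Set G) ≤ S.H) {π : alternatingGroup (Fin 6)}
    (hπ : (π : Perm (Fin 6)) ∈ fours) (hmem : C.φ 1 π ∈ C.CV) :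
    ∃ ρ : alternatingGroup (Fin 6), (ρ : Perm (Fin 6)) = swap 3 4 * swap 4 0 ∧
      C.φ 1 ρ ∈ C.CV := by
  have hsτ : (swap (0 : Fin 6) 1 * swap 3 4 : Perm (Fin 6)) ∈ alternatingGroup (Fin 6) :=
    Perm.mem_alternatingGroup.2 (by decide +kernel)
  have hconj : ∀ ρ, C.φ 1 ρ ∈ C.CV → C.φ 1 (aP0 * ρ * aP0⁻¹) ∈ C.CV := fun ρ h => by
    rw [map_mul, map_mul, map_inv, C.phi1_p0]
    exact mul_mem (mul_mem C.A2_mem_CV h) (inv_mem C.A2_mem_CV)
  have hτ : ∀ ρ, C.φ 1 ρ ∈ C.CV → C.φ 1 (⟨_, hsτ⟩ * ρ * (⟨_, hsτ⟩ : alternatingGroup (Fin 6))⁻¹) ∈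
      C.CV := by
    intro ρ h
    obtain ⟨hsu, -, hsv⟩ := C.s_commute_V'
    have hs : C.s ∈ C.CV := C.mem_CV.2 ⟨hsu, hsv⟩
    have he := C.equiv 1 1 sW sW_mem _ W_facts.2.2.2.2.2.2.1 ρ
    rw [show (⟨_, hsτ⟩ * ρ * (⟨_, hsτ⟩ : alternatingGroup (Fin 6))⁻¹) =
      MulAut.conjNormal (swap (0 : Fin 6) 1 * swap 3 4) ρ from
        Subtype.ext (MulAut.conjNormal_apply _ _).symm, ← he]
    exact mul_mem (mul_mem hs h) (inv_mem hs)
  rcases fours_cases _ hπ with ⟨hc, hp, hp'⟩ | ⟨i, hi⟩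
  · exfalso
    obtain ⟨hu, hv⟩ := C.mem_CV.1 hmem
    obtain ⟨-, -, -, -, -, -, -, -, -, -, -, -, -, -, -, -, -, -, -, -, hxu, -⟩ := four_facts
    have hx : C.φ 2 (aU * aV') = ge S.e xW := C.agree 2 xW xW_mem _ W_facts.2.2.2.2.2.2.2.1
    have hcx : Commute (C.φ 1 π) (C.φ 2 (aU * aV')) := by
      rw [hx]
      have he := C.equiv 1 1 xW xW_mem _ W_facts.2.2.2.2.2.2.2.2.1 π
      rw [show MulAut.conjNormal (swap (3 : Fin 6) 4) π = π from Subtype.ext (by
        rw [MulAut.conjNormal_apply, ← hc, mul_inv_cancel_right])] at he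
      exact (mul_inv_eq_iff_eq_mul.1 he).symm
    have hv' : Commute (C.φ 1 π) C.v' := by
      have h := hu.mul_right hcx
      rwa [← map_mul, ← mul_assoc, (four6'_inv aU (by simp [four6'])).2, one_mul] at h
    rcases (C.centralizer_V' hB).2 _ hu hv' with e | e
    · rw [← C.phi1_p0, ← map_inv, ← map_mul, ← map_mul] at e
      exact hp (congrArg Subtype.val (C.inj 1 e))
    · rw [← C.phi1_p0, ← map_inv, ← map_mul, ← map_mul, ← map_inv] at e
      exact hp' (congrArg Subtype.val (C.inj 1 e))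
  have hpow : ∀ (n : ℕ) ρ, C.φ 1 ρ ∈ C.CV → C.φ 1 (aP0 ^ n * ρ * (aP0 ^ n)⁻¹) ∈ C.CV := by
    intro n
    induction n with
    | zero => intro ρ h; simpa using h
    | succ n ih =>
      intro ρ h
      rw [show aP0 ^ (n + 1) * ρ * (aP0 ^ (n + 1))⁻¹ = aP0 * (aP0 ^ n * ρ * (aP0 ^ n)⁻¹) * aP0⁻¹ by
        rw [pow_succ']; group]
      exact hconj _ (ih ρ h)
  set a : alternatingGroup (Fin 6) := ⟨swap 0 1 * swap 2 3,
    Perm.mem_alternatingGroup.2 (by decide +kernel)⟩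
  set b : alternatingGroup (Fin 6) := ⟨swap 0 1 * swap 2 4,
    Perm.mem_alternatingGroup.2 (by decide +kernel)⟩
  obtain ⟨hw, hab⟩ := word340
  have habA : (⟨_, hsτ⟩ * a * (⟨_, hsτ⟩ : alternatingGroup (Fin 6))⁻¹) = b := Subtype.ext hab
  have hba : (⟨_, hsτ⟩ * b * (⟨_, hsτ⟩ : alternatingGroup (Fin 6))⁻¹) = a := by
    rw [← habA]
    have hττ : (⟨_, hsτ⟩ : alternatingGroup (Fin 6)) * ⟨_, hsτ⟩ = 1 := Subtype.ext
      (by decide +kernel : (swap (0 : Fin 6) 1 * swap 3 4) * (swap (0 : Fin 6) 1 * swap 3 4) = 1)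
    rw [show ∀ t x : alternatingGroup (Fin 6), t * (t * x * t⁻¹) * t⁻¹ = t * t * x * (t * t)⁻¹ from
      fun t x => by group, hττ, inv_one, one_mul, mul_one]
  have hn := hpow i.val π hmem
  obtain ⟨haC, hbC⟩ : C.φ 1 a ∈ C.CV ∧ C.φ 1 b ∈ C.CV := by
    rcases hi with e | e
    · have : aP0 ^ i.val * π * (aP0 ^ i.val)⁻¹ = a := Subtype.ext e
      rw [this] at hn
      exact ⟨hn, habA ▸ hτ _ hn⟩
    · have : aP0 ^ i.val * π * (aP0 ^ i.val)⁻¹ = b := Subtype.ext e
      rw [this] at hn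
      exact ⟨hba ▸ hτ _ hn, hn⟩
  refine ⟨aP0 * b * a * aP0⁻¹, hw, ?_⟩
  rw [mul_assoc aP0 b a]
  exact hconj _ (by rw [map_mul]; exact mul_mem hbC haC)

end Coord

end CfsgLib.AltNine
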