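import Cfsg.Agent.Lib.Recognition.Nine.GramSearch
import Mathlib.Data.List.Dedup
import Mathlib.Tactic.LinearCombination
import Mathlib.Data.Fintype.BigOperators
import Mathlib.Algebra.BigOperators.Fin

/-!
Integer vectors of small norm with prescribed inner products, enumerated row by row up to signs
and permutations of the coordinates.
-/

set_option autoImplicit false

namespace CfsgLib.AltNine.Gram

/-- The square of the absolute value. -/
def sqn (x : ℤ) : ℕ := x.natAbs * x.natAbs

/-- `need - x • c`. -/
def sub (need c : List ℤ) (x : ℤ) : List ℤ := List.zipWith (fun a b => a - x * b) need c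

/-- The squared lengths of the rows restricted to the given columns. -/
def sqs : ℕ → List (List ℤ) → List ℤ
  | L, [] => List.replicate L 0
  | L, c :: cs => List.zipWith (fun q b => q + b * b) (sqs L cs) c

/-- The Cauchy-Schwarz test. -/
def csOK (cols : List (List ℤ)) (need : List ℤ) (left : ℕ) : Bool :=
  (List.zipWith (fun a q => decide (a * a ≤ (left : ℤ) * q)) need (sqs need.length cols)).all id

/-- All coefficient vectors on the given columns, with the remaining norm. -/
def coeffs : List (List ℤ) → List ℤ → ℕ → List (List ℤ × ℕ)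
  | [], need, left => if need.all (fun a => decide (a = 0)) then [([], left)] else []
  | c :: cs, need, left => if csOK (c :: cs) need left then
      [-2, -1, 0, 1, 2].flatMap fun x => if sqn x ≤ left then
        (coeffs cs (sub need c x) (left - sqn x)).map fun p => (x :: p.1, p.2) else []
    else []

/-- The possible absolute values of new coordinates. -/
def parts (l : ℕ) : List (List ℤ) := List.replicate l 1 :: if l = 4 then [[2]] else []

/-- Lexicographic comparison. -/
def le' : List ℤ → List ℤ → Bool
  | [], _ => true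
  | _ :: _, [] => false
  | a :: as, b :: bs => decide (a < b) || (decide (a = b) && le' as bs)

/-- Insertion. -/
def ins (c : List ℤ) : List (List ℤ) → List (List ℤ)
  | [] => [c]
  | d :: ds => if le' c d then c :: d :: ds else d :: ins c ds

/-- Insertion sort. -/
def srt : List (List ℤ) → List (List ℤ)
  | [] => []
  | c :: cs => ins c (srt cs)

/-- One more row. -/
def step (need : List ℤ) (n : ℕ) (states : List (List (List ℤ))) : List (List (List ℤ)) :=
  (states.flatMap fun s => (coeffs s need n).flatMap fun p => (parts p.2).map fun q =>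
    srt (List.zipWith (fun x c => x :: c) p.1 s ++
      q.map fun v => v :: List.replicate need.length 0)).dedup

/-- A linear combination of columns. -/
def lc : ℕ → List (ℤ × List ℤ) → List ℤ
  | L, [] => List.replicate L 0
  | L, p :: ps => List.zipWith (fun a b => a + p.1 * b) (lc L ps) p.2

theorem length_lc (L : ℕ) : ∀ ps : List (ℤ × List ℤ), (∀ p ∈ ps, p.2.length = L) →
    (lc L ps).length = L
  | [], _ => List.length_replicate ..
  | p :: ps, h => by
    simp [lc, length_lc L ps fun q hq => h q (List.mem_cons_of_mem _ hq), h p]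

theorem length_sqs (L : ℕ) : ∀ cs : List (List ℤ), (∀ c ∈ cs, c.length = L) →
    (sqs L cs).length = L
  | [], _ => List.length_replicate ..
  | p :: ps, h => by
    simp [sqs, length_sqs L ps fun q hq => h q (List.mem_cons_of_mem _ hq), h p]

theorem cs_lc (L : ℕ) : ∀ ps : List (ℤ × List ℤ), (∀ p ∈ ps, p.2.length = L) →
    ∀ j, (lc L ps).getD j 0 * (lc L ps).getD j 0 ≤
        ((ps.map fun p => sqn p.1).sum : ℕ) * (sqs L (ps.map Prod.snd)).getD j 0 ∧
      0 ≤ (sqs L (ps.map Prod.snd)).getD j 0
  | [], _, j => by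
    by_cases hj : j < L <;> simp [lc, sqs, List.getD_eq_getElem?_getD, hj]
  | p :: ps, h, j => by
    have hl := length_lc L ps fun q hq => h q (List.mem_cons_of_mem _ hq)
    have hs := length_sqs L (ps.map Prod.snd) fun q hq => by
      obtain ⟨r, hr, rfl⟩ := List.mem_map.1 hq
      exact h r (List.mem_cons_of_mem _ hr)
    obtain ⟨ih, ihq⟩ := cs_lc L ps (fun q hq => h q (List.mem_cons_of_mem _ hq)) j
    by_cases hj : j < L
    · have hp := h p (List.mem_cons_self ..)
      have hj2 : j < p.2.length := hp ▸ hj
      have hj3 : j < (lc L ps).length := by omega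
      have hj4 : j < (sqs L (ps.map Prod.snd)).length := by omega
      simp only [lc, sqs, List.map_cons, List.getD_eq_getElem?_getD, List.getElem?_zipWith,
        List.getElem?_eq_getElem hj2, List.getElem?_eq_getElem hj3,
        List.getElem?_eq_getElem hj4, Option.getD_some, List.sum_cons, Nat.cast_add] at *
      refine ⟨?_, add_nonneg ihq (mul_self_nonneg _)⟩
      have hx : ((sqn p.1 : ℕ) : ℤ) = p.1 * p.1 := Int.natAbs_mul_self' p.1
      rw [hx, add_comm ((p.1 * p.1) : ℤ)]
      exact CfsgLib.GramSearch.cs_add (Int.natCast_nonneg _) ihq (mul_self_nonneg _)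
        (mul_self_nonneg _) ih (le_of_eq (by ring))
    · simp [lc, sqs, List.getD_eq_getElem?_getD, hl, hs, hj]

theorem csOK_lc (L : ℕ) (ps : List (ℤ × List ℤ)) (h : ∀ p ∈ ps, p.2.length = L) (left : ℕ)
    (hle : (ps.map fun p => sqn p.1).sum ≤ left) :
    csOK (ps.map Prod.snd) (lc L ps) left = true := by
  rw [csOK, length_lc L ps h, List.all_eq_true]
  intro b hb
  obtain ⟨j, hj, rfl⟩ := List.mem_iff_getElem.1 hb
  obtain ⟨h1, h2⟩ := cs_lc L ps h j
  simp only [List.length_zipWith, lt_min_iff] at hj
  rw [List.getElem_zipWith, id_eq, decide_eq_true_eq]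
  simp only [List.getD_eq_getElem?_getD, List.getElem?_eq_getElem hj.1,
    List.getElem?_eq_getElem hj.2, Option.getD_some] at h1 h2
  exact h1.trans (mul_le_mul_of_nonneg_right (by exact_mod_cast hle) h2)

theorem mem_coeffs (L : ℕ) : ∀ (ps : List (ℤ × List ℤ)) (left : ℕ),
    (∀ p ∈ ps, p.2.length = L) → (∀ p ∈ ps, p.1.natAbs ≤ 2) →
    (ps.map fun p => sqn p.1).sum ≤ left →
    (ps.map Prod.fst, left - (ps.map fun p => sqn p.1).sum) ∈
      coeffs (ps.map Prod.snd) (lc L ps) left
  | [], left, _, _, _ => by simp [coeffs, lc]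
  | p :: ps, left, h, hb, hle => by
    have h' : ∀ q ∈ ps, q.2.length = L := fun q hq => h q (List.mem_cons_of_mem _ hq)
    have hc := csOK_lc L (p :: ps) h left hle
    rw [List.map_cons] at hc
    rw [List.map_cons, List.map_cons, coeffs, if_pos hc, List.mem_flatMap]
    simp only [List.map_cons, List.sum_cons] at hle ⊢
    refine ⟨p.1, ?_, ?_⟩
    · have := hb p (List.mem_cons_self ..)
      simp only [List.mem_cons, List.not_mem_nil, or_false]
      omega
    rw [if_pos (le_trans (Nat.le_add_right _ _) hle), List.mem_map]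
    have e : sub (lc L (p :: ps)) p.2 p.1 = lc L ps := by
      apply List.ext_getElem
      · simp [sub, lc, length_lc L ps h', h p]
      · intro i h1 h2
        simp [sub, lc, List.getElem_zipWith]
    rw [e]
    refine ⟨_, mem_coeffs L ps (left - sqn p.1) h'
      (fun q hq => hb q (List.mem_cons_of_mem _ hq)) (by omega), ?_⟩
    rw [Prod.ext_iff]
    exact ⟨rfl, by show left - _ - _ = _; omega⟩

theorem perm_ins (c : List ℤ) : ∀ ds, (ins c ds).Perm (c :: ds)
  | [] => List.Perm.refl _
  | d :: ds => by
    unfold ins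
    split
    · exact List.Perm.refl _
    · exact ((perm_ins c ds).cons d).trans (List.Perm.swap _ _ _)

theorem perm_srt : ∀ ds, (srt ds).Perm ds
  | [] => List.Perm.refl _
  | d :: ds => (perm_ins d _).trans ((perm_srt ds).cons d)

theorem exists_map_of_perm {α β : Type*} (g : α → β) {s t : List β} (h : s.Perm t) :
    ∀ f : List α, f.map g = t → ∃ f' : List α, f'.Perm f ∧ f'.map g = s := by
  induction h with
  | nil => intro f hf; exact ⟨f, List.Perm.refl _, hf⟩
  | cons x _ ih =>
    intro f hf
    obtain ⟨a, f', rfl, rfl, h2⟩ := List.map_eq_cons_iff.1 hf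
    obtain ⟨k, hk, rfl⟩ := ih f' h2
    exact ⟨a :: k, hk.cons a, rfl⟩
  | swap x y l =>
    intro f hf
    obtain ⟨a, f', rfl, rfl, h2⟩ := List.map_eq_cons_iff.1 hf
    obtain ⟨b, f'', rfl, rfl, rfl⟩ := List.map_eq_cons_iff.1 h2
    exact ⟨b :: a :: f'', List.Perm.swap _ _ _, rfl⟩
  | trans _ _ ih1 ih2 =>
    intro f hf
    obtain ⟨k, hk, hk'⟩ := ih2 f hf
    obtain ⟨m, hm, hm'⟩ := ih1 k hk'
    exact ⟨m, hm.trans hk, hm'⟩

variable {ι : Type*}

/-- The columns seen so far, up to sign and order, are one of the listed states. -/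
def Inv (rows : List (ι → ℤ)) (states : List (List (List ℤ))) : Prop :=
  ∃ s ∈ states, ∃ (f : List ι) (ε : ι → ℤ), f.Nodup ∧ (∀ i, ε i * ε i = 1) ∧
    (f.map fun i => rows.map fun m => ε i * m i) = s ∧ ∀ i, i ∉ f → ∀ m ∈ rows, m i = 0

theorem inv_nil : Inv ([] : List (ι → ℤ)) [[]] :=
  ⟨[], by simp, [], fun _ => 1, List.nodup_nil, by simp, rfl, by simp⟩

theorem lc_eq (f : List ι) (rows : List (ι → ℤ)) (ε : ι → ℤ) (hε : ∀ i, ε i * ε i = 1)
    (n : ι → ℤ) :
    lc rows.length (f.map fun i => (ε i * n i, rows.map fun m => ε i * m i)) =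
      rows.map fun m => (f.map fun i => n i * m i).sum := by
  induction f with
  | nil => simp [lc, List.map_const']
  | cons a f ih =>
    simp only [List.map_cons, lc, ih, List.zipWith_map]
    apply List.ext_getElem
    · simp
    · intro i h1 h2
      simp only [List.getElem_zipWith, List.getElem_map, List.sum_cons]
      linear_combination (n a * (rows[i]'(by simpa using h2)) a) * hε a

variable [Fintype ι]

theorem inv_step {rows : List (ι → ℤ)} {states : List (List (List ℤ))} (hinv : Inv rows states)
    (n : ι → ℤ) (need : List ℤ) (N : ℕ) (hN : N ≤ 4) (hn : ∑ i, n i * n i = (N : ℤ))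
    (hneed : need = rows.map fun m => ∑ i, n i * m i) :
    Inv (n :: rows) (step need N states) := by
  classical
  obtain ⟨s, hs, f, ε, hf, hε, hfs, hout⟩ := hinv
  have hsum : ∑ i, sqn (n i) = N := by
    have : ((∑ i, sqn (n i) : ℕ) : ℤ) = N := by
      rw [Nat.cast_sum, ← hn]
      exact Finset.sum_congr rfl fun i _ => Int.natAbs_mul_self' (n i)
    exact_mod_cast this
  have hb : ∀ i, sqn (n i) ≤ N := fun i =>
    hsum ▸ Finset.single_le_sum (f := fun i => sqn (n i)) (fun j _ => Nat.zero_le _)
      (Finset.mem_univ i)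
  have hb2 : ∀ i, (n i).natAbs ≤ 2 := fun i => by
    have h := (hb i).trans hN
    simp only [sqn] at h
    nlinarith
  have hεn : ∀ i x, (ε i * x).natAbs = x.natAbs := fun i x => by
    rcases mul_self_eq_one_iff.1 (hε i) with h | h <;> simp [h]
  let ps : List (ℤ × List ℤ) := f.map fun i => (ε i * n i, rows.map fun m => ε i * m i)
  have hps1 : ∀ p ∈ ps, p.2.length = rows.length := by
    intro p hp; obtain ⟨i, -, rfl⟩ := List.mem_map.1 hp; simp
  have hps2 : ∀ p ∈ ps, p.1.natAbs ≤ 2 := by
    intro p hp; obtain ⟨i, -, rfl⟩ := List.mem_map.1 hp; simpa [hεn] using hb2 i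
  have hsq : (ps.map fun p => sqn p.1).sum = ∑ i ∈ f.toFinset, sqn (n i) := by
    rw [List.sum_toFinset _ hf, List.map_map]
    congr 1
    exact List.map_congr_left fun i _ => by simp [sqn, hεn]
  have hle : (ps.map fun p => sqn p.1).sum ≤ N := by
    rw [hsq, ← hsum]
    exact Finset.sum_le_sum_of_subset (Finset.subset_univ _)
  have hmem := mem_coeffs rows.length ps N hps1 hps2 hle
  have hlc : lc rows.length ps = need := by
    rw [hneed, lc_eq f rows ε hε n]
    refine List.map_congr_left fun m hm => ?_
    rw [← List.sum_toFinset _ hf]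
    exact Finset.sum_subset (Finset.subset_univ _) fun i _ hi => by
      rw [hout i (fun h => hi (List.mem_toFinset.2 h)) m hm, mul_zero]
  have hsnd : ps.map Prod.snd = s := by rw [← hfs, List.map_map]; rfl
  rw [hlc, hsnd] at hmem
  let T : Finset ι := Finset.univ.filter fun i => i ∉ f ∧ n i ≠ 0
  have hT : ∑ i ∈ T, sqn (n i) = N - (ps.map fun p => sqn p.1).sum := by
    rw [hsq, ← hsum, ← Finset.sum_compl_add_sum f.toFinset, Nat.add_sub_cancel]
    refine Finset.sum_subset (fun i hi => ?_) fun i hi hiT => ?_
    · simpa [T] using (Finset.mem_filter.1 hi).2.1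
    · have : n i = 0 := by
        by_contra h
        exact hiT (by simpa [T, h] using hi)
      simp [sqn, this]
  let ε' : ι → ℤ := fun i => if i ∈ f then ε i else if 0 ≤ n i then 1 else -1
  have hpart : (T.toList.map fun i => ε' i * n i) ∈ parts (N - (ps.map fun p => sqn p.1).sum) := by
    have habs : ∀ i ∈ T, ε' i * n i = ((n i).natAbs : ℤ) := by
      intro i hi
      simp only [ε', if_neg (Finset.mem_filter.1 hi).2.1]
      split_ifs <;> omega
    have hpos : ∀ i ∈ T, 1 ≤ (n i).natAbs := fun i hi => by
      have := (Finset.mem_filter.1 hi).2.2; omega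
    by_cases h2 : ∀ i ∈ T, (n i).natAbs = 1
    · refine List.mem_cons.2 (Or.inl ?_)
      rw [List.eq_replicate_iff, List.length_map, Finset.length_toList, ← hT]
      refine ⟨?_, fun b hb' => ?_⟩
      · rw [Finset.card_eq_sum_ones]
        exact Finset.sum_congr rfl fun i hi => by simp [sqn, h2 i hi]
      · obtain ⟨i, hi, rfl⟩ := List.mem_map.1 hb'
        rw [habs i (Finset.mem_toList.1 hi), h2 i (Finset.mem_toList.1 hi)]; rfl
    · push_neg at h2
      obtain ⟨i, hi, hi2⟩ := h2
      have hi3 : (n i).natAbs = 2 := by have := hpos i hi; have := hb2 i; omega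
      have h4 : sqn (n i) = 4 := by simp [sqn, hi3]
      have hTle : ∑ j ∈ T, sqn (n j) ≤ N := by rw [hT]; omega
      rw [← Finset.add_sum_erase T _ hi, h4] at hTle
      have hTi : T = {i} := by
        refine Finset.eq_singleton_iff_unique_mem.2 ⟨hi, fun j hj => ?_⟩
        by_contra hne
        have h1 : sqn (n j) ≤ ∑ k ∈ T.erase i, sqn (n k) :=
          Finset.single_le_sum (f := fun k => sqn (n k)) (fun k _ => Nat.zero_le _)
            (Finset.mem_erase.2 ⟨hne, hj⟩)
        have := hpos j hj
        have h5 : 1 ≤ ∑ k ∈ T.erase i, sqn (n k) := le_trans (by simp only [sqn]; nlinarith) h1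
        omega
      rw [← hT, hTi, Finset.sum_singleton, h4, Finset.toList_singleton, List.map_singleton,
        habs i hi, hi3]
      exact List.mem_cons.2 (Or.inr (by simp))
  have hmapf : (f.map fun i => (n :: rows).map fun m => ε' i * m i) =
      List.zipWith (fun x c => x :: c) (ps.map Prod.fst) s := by
    rw [← hfs, List.map_map, List.zipWith_map, List.zipWith_self]
    refine List.map_congr_left fun i hi => ?_
    simp [ε', hi]
  have hmapT : (T.toList.map fun i => (n :: rows).map fun m => ε' i * m i) =
      (T.toList.map fun i => ε' i * n i).map fun v => v :: List.replicate need.length 0 := by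
    rw [List.map_map]
    refine List.map_congr_left fun i hi => ?_
    have hif := (Finset.mem_filter.1 (Finset.mem_toList.1 hi)).2.1
    simp only [List.map_cons, Function.comp_apply, List.cons.injEq, true_and]
    rw [hneed, List.length_map, List.eq_replicate_iff]
    refine ⟨List.length_map .., fun b hb' => ?_⟩
    obtain ⟨m, hm, rfl⟩ := List.mem_map.1 hb'
    rw [hout i hif m hm, mul_zero]
  obtain ⟨f', hf', hf'map⟩ := exists_map_of_perm (fun i => (n :: rows).map fun m => ε' i * m i)
    (perm_srt _) (f ++ T.toList) (by rw [List.map_append, hmapf, hmapT])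
  refine ⟨_, ?_, f', ε', ?_, ?_, hf'map, ?_⟩
  · rw [step, List.mem_dedup, List.mem_flatMap]
    exact ⟨s, hs, List.mem_flatMap.2 ⟨_, hmem, List.mem_map.2 ⟨_, hpart, rfl⟩⟩⟩
  · rw [hf'.nodup_iff, List.nodup_append]
    exact ⟨hf, T.nodup_toList, fun a ha b hb' hab =>
      (Finset.mem_filter.1 (Finset.mem_toList.1 hb')).2.1 (hab ▸ ha)⟩
  · intro i
    simp only [ε']
    split_ifs
    · exact hε i
    all_goals rfl
  · intro i hi m hm
    rw [hf'.mem_iff, List.mem_append, not_or] at hi
    rcases List.mem_cons.1 hm with rfl | hm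
    · by_contra h
      exact hi.2 (Finset.mem_toList.2 (Finset.mem_filter.2 ⟨Finset.mem_univ _, hi.1, h⟩))
    · exact hout i hi.1 m hm

end CfsgLib.AltNine.Gram
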