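import Cfsg.Agent.Lib.Characters.Induction
import Cfsg.Agent.Lib.Characters.Generalized
import Cfsg.Agent.Lib.Characters.Values
import Cfsg.Agent.Lib.Blocks.ClassCount

/-!
Class functions on a subgroup `H` supported on a set `D` whose `G`-fusion is induced by `H`:
induction is an isometry, and the induced coefficients give the numbers of products landing
in `D` of two classes of involutions, counted inside `H`.
-/

set_option autoImplicit false
set_option linter.unusedSectionVars false

namespace CfsgLib.AltNine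

open Cfsg CfsgLib.Characters CfsgLib.ClassCount
open scoped ComplexConjugate

universe u

variable {G : Type u} [Group G]

/-- A set of elements of `H` whose conjugations inside the set come from `H`. -/
structure SpecialSet (H : Subgroup G) (D : Set G) : Prop where
  le : ∀ d ∈ D, d ∈ H
  fus : ∀ x d, d ∈ D → x * d * x⁻¹ ∈ D → x ∈ H
  inv : ∀ d ∈ D, d⁻¹ ∈ D

/-- A function on `H` vanishing outside `D`. -/
def VanishOff (H : Subgroup G) (D : Set G) (F : H → ℂ) : Prop :=
  ∀ h : H, (h : G) ∉ D → F h = 0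

theorem SpecialSet.comap_mem {H : Subgroup G} {D : Set G} (hD : SpecialSet H D) {p q : G}
    (hp : p * p = 1) (hq : q * q = 1) (hpq : p * q ∈ D) : p ∈ H ∧ q ∈ H := by
  have hp' : p⁻¹ = p := inv_eq_of_mul_eq_one_right hp
  have hq' : q⁻¹ = q := inv_eq_of_mul_eq_one_right hq
  have h1 : p ∈ H := hD.fus p _ hpq (by
    have e : p * (p * q) * p⁻¹ = (p * q)⁻¹ := by
      rw [mul_inv_rev, hp', hq', ← mul_assoc p p q, hp, one_mul]
    rw [e]; exact hD.inv _ hpq)
  refine ⟨h1, ?_⟩
  have := mul_mem (inv_mem h1) (hD.le _ hpq)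
  rwa [inv_mul_cancel_left] at this

variable [Fintype G] {H : Subgroup G} {D : Set G}

theorem extendByZero_eq_zero {F : H → ℂ} (hF : VanishOff H D F) {g : G} (hg : g ∉ D) :
    extendByZero H F g = 0 := by
  by_cases hH : g ∈ H
  · rw [Induction.extendByZero_mem H F hH]; exact hF ⟨g, hH⟩ hg
  · exact Induction.extendByZero_notMem H F hH

theorem indFun_eq_zero {F : H → ℂ} (hF : VanishOff H D F) {g : G}
    (hg : ∀ x : G, x⁻¹ * g * x ∉ D) : indFun H F g = 0 := by
  rw [Induction.indFun_apply]
  simp [extendByZero_eq_zero hF (hg _)]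

theorem SpecialSet.indFun_apply_mem (hD : SpecialSet H D) {F : H → ℂ} (hcf : IsClassFunction H F)
    (hF : VanishOff H D F) {h : H} (hh : (h : G) ∈ D) : indFun H F h = F h := by
  classical
  rw [Induction.indFun_apply]
  have key : ∀ x : G, extendByZero H F (x⁻¹ * h * x) = if x ∈ H then F h else 0 := by
    intro x
    split_ifs with hx
    · have := Induction.extendByZero_conj H hcf (⟨x, hx⟩⁻¹ : H) (h : G)
      simp only [Subgroup.coe_inv, inv_inv] at this
      rw [this, Induction.extendByZero_coe]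
    · refine extendByZero_eq_zero hF fun hd => hx ?_
      exact hD.fus x _ hd (by rwa [show x * (x⁻¹ * h * x) * x⁻¹ = (h : G) by group])
  simp only [key]
  rw [← Finset.sum_filter, Finset.sum_const, nsmul_eq_mul]
  have hc : ((Finset.univ.filter fun x => x ∈ H).card : ℂ) = Nat.card H := by
    rw [Nat.card_eq_fintype_card, Fintype.card_subtype]
  rw [hc, ← mul_assoc, inv_mul_cancel₀ (Induction.natCard_ne_zero' (X := H)), one_mul]

theorem SpecialSet.classInner_indFun (hD : SpecialSet H D) [Fintype H] {F F' : H → ℂ}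
    (hF : VanishOff H D F) (hcf' : IsClassFunction H F') (hF' : VanishOff H D F') :
    classInner (indFun H F) (indFun H F') = classInner F F' := by
  rw [Induction.classInner_indFun H F (Induction.isClassFunction_indFun H F')]
  unfold classInner
  congr 1
  refine Finset.sum_congr rfl fun h _ => ?_
  by_cases hh : (h : G) ∈ D
  · show F h * conj (indFun H F' h) = _
    rw [hD.indFun_apply_mem hcf' hF' hh]
  · simp [hF h hh]

/-- The coefficients of an induced function against the product of two classes. -/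
theorem sum_coef_mul_values (F : H → ℂ) (a b : G) :
    (∑ χ : IrrCharacter G, classInner (indFun H F) (χ : G → ℂ) *
        ((χ : G → ℂ) a * (χ : G → ℂ) b / (χ : G → ℂ) 1)) * ((cls a).card * (cls b).card) =
      (H.index : ℂ) * ∑ p ∈ cls a, ∑ q ∈ cls b, extendByZero H F (p * q) := by
  classical
  have hcf := Induction.isClassFunction_indFun H F
  have e1 : ∑ p ∈ cls a, ∑ q ∈ cls b, indFun H F (p * q) =
      (∑ χ : IrrCharacter G, classInner (indFun H F) (χ : G → ℂ) *
        ((χ : G → ℂ) a * (χ : G → ℂ) b / (χ : G → ℂ) 1)) * ((cls a).card * (cls b).card) := by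
    conv_lhs => rw [classFunction_eq_sum hcf]
    simp only [Finset.sum_apply, Pi.smul_apply, smul_eq_mul]
    rw [Finset.sum_mul]
    rw [Finset.sum_comm_cycle]
    refine Finset.sum_congr rfl fun χ _ => ?_
    have := sum_char_mul χ a b 1
    simp only [mul_one] at this
    simp only [← Finset.mul_sum]
    rw [this, centralChar, centralChar, ← card_cls, ← card_cls]
    have h1 := irr_one_ne_zero χ
    field_simp
  have e2 : ∀ x : G, ∑ p ∈ cls a, ∑ q ∈ cls b, extendByZero H F (x⁻¹ * (p * q) * x) =
      ∑ p ∈ cls a, ∑ q ∈ cls b, extendByZero H F (p * q) := by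
    intro x
    have hmem : ∀ c p : G, p ∈ cls c → x⁻¹ * p * x ∈ cls c ∧ x * p * x⁻¹ ∈ cls c := by
      intro c p hp
      rw [mem_cls] at hp ⊢
      refine ⟨hp.trans (isConj_iff.2 ⟨x⁻¹, by group⟩), ?_⟩
      rw [mem_cls]
      exact hp.trans (isConj_iff.2 ⟨x, rfl⟩)
    refine Finset.sum_nbij' (fun p => x⁻¹ * p * x) (fun p => x * p * x⁻¹)
      (fun p hp => (hmem a p hp).1) (fun p hp => (hmem a p hp).2)
      (fun p _ => by group) (fun p _ => by group) fun p _ => ?_
    refine Finset.sum_nbij' (fun q => x⁻¹ * q * x) (fun q => x * q * x⁻¹)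
      (fun q hq => (hmem b q hq).1) (fun q hq => (hmem b q hq).2)
      (fun q _ => by group) (fun q _ => by group) fun q _ => ?_
    congr 1; group
  rw [← e1]
  simp only [Induction.indFun_apply, ← Finset.mul_sum]
  have e3 : (∑ p ∈ cls a, ∑ q ∈ cls b, ∑ x : G, extendByZero H F (x⁻¹ * (p * q) * x)) =
      ∑ x : G, ∑ p ∈ cls a, ∑ q ∈ cls b, extendByZero H F (x⁻¹ * (p * q) * x) := by
    exact Finset.sum_comm_cycle
  rw [e3]
  simp only [e2, Finset.sum_const, Finset.card_univ, nsmul_eq_mul]
  rw [← mul_assoc]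
  congr 1
  rw [← Nat.card_eq_fintype_card, ← H.card_mul_index, Nat.cast_mul, ← mul_assoc,
    inv_mul_cancel₀ (Induction.natCard_ne_zero' (X := H)), one_mul]

/-- For two involutions, only pairs inside `H` contribute. -/
theorem SpecialSet.sum_coef_involutions (hD : SpecialSet H D) [Fintype H] {F : H → ℂ}
    (hF : VanishOff H D F) {a b : G} (ha : a * a = 1) (hb : b * b = 1)
    [DecidablePred fun p : H => IsConj a (p : G)] [DecidablePred fun q : H => IsConj b (q : G)] :
    (∑ χ : IrrCharacter G, classInner (indFun H F) (χ : G → ℂ) *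
        ((χ : G → ℂ) a * (χ : G → ℂ) b / (χ : G → ℂ) 1)) * ((cls a).card * (cls b).card) =
      (H.index : ℂ) * ∑ p ∈ Finset.univ.filter (fun p : H => IsConj a (p : G)),
        ∑ q ∈ Finset.univ.filter (fun q : H => IsConj b (q : G)), F (p * q) := by
  classical
  rw [sum_coef_mul_values F a b]
  congr 1
  have hsq : ∀ c p : G, c * c = 1 → IsConj c p → p * p = 1 := by
    intro c p hc hp
    obtain ⟨x, rfl⟩ := isConj_iff.1 hp
    rw [show x * c * x⁻¹ * (x * c * x⁻¹) = x * (c * c) * x⁻¹ by group, hc]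
    group
  have hz : ∀ p ∈ cls a, ∀ q ∈ cls b, ¬ (p ∈ H ∧ q ∈ H) → extendByZero H F (p * q) = 0 := by
    intro p hp q hq hne
    refine extendByZero_eq_zero hF fun hd => hne ?_
    exact hD.comap_mem (hsq a p ha (mem_cls.1 hp)) (hsq b q hb (mem_cls.1 hq)) hd
  rw [← Finset.sum_filter_of_ne (s := cls a) (p := fun p => p ∈ H)]
  swap
  · intro p hp hne
    by_contra hpH
    exact hne (Finset.sum_eq_zero fun q hq => hz p hp q hq (fun h => hpH h.1))
  refine (Finset.sum_nbij (fun p : H => (p : G)) ?_ ?_ ?_ ?_).symm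
  · intro p hp
    simp only [Finset.mem_filter, Finset.mem_univ, true_and] at hp
    exact Finset.mem_filter.2 ⟨mem_cls.2 hp, p.2⟩
  · exact fun p _ p' _ h => Subtype.ext h
  · intro p hp
    obtain ⟨h1, h2⟩ := Finset.mem_filter.1 hp
    exact ⟨⟨p, h2⟩, Finset.mem_filter.2 ⟨Finset.mem_univ _, mem_cls.1 h1⟩, rfl⟩
  intro p hp
  simp only [Finset.mem_filter, Finset.mem_univ, true_and] at hp
  rw [← Finset.sum_filter_of_ne (s := cls b) (p := fun q => q ∈ H)
    (f := fun q => extendByZero H F ((p : G) * q))]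
  swap
  · intro q hq hne
    by_contra hqH
    exact hne (hz _ (mem_cls.2 hp) q hq fun h => hqH h.2)
  refine Finset.sum_nbij (fun q : H => (q : G)) ?_ ?_ ?_ ?_
  · intro q hq
    simp only [Finset.mem_filter, Finset.mem_univ, true_and] at hq
    exact Finset.mem_filter.2 ⟨mem_cls.2 hq, q.2⟩
  · exact fun q _ q' _ h => Subtype.ext h
  · intro q hq
    obtain ⟨h1, h2⟩ := Finset.mem_filter.1 hq
    exact ⟨⟨q, h2⟩, Finset.mem_filter.2 ⟨Finset.mem_univ _, mem_cls.1 h1⟩, rfl⟩
  intro q _
  rw [← Subgroup.coe_mul, Induction.extendByZero_coe]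

/-- The integral coefficients of an induced generalized character. -/
theorem exists_coef [Fintype H] {F : H → ℂ}
    (hF : IsGeneralizedCharacter H F) :
    ∃ m : IrrCharacter G → ℤ, (∀ χ : IrrCharacter G, classInner (indFun H F) (χ : G → ℂ) = m χ) ∧
      (∀ g : G, indFun H F g = ∑ χ, (m χ : ℂ) * (χ : G → ℂ) g) ∧
      (m (principalIrr G) : ℂ) = classInner F 1 := by
  classical
  have hgen : IsGeneralizedCharacter G (indFun H F) := by
    obtain ⟨a, b, ha, hb, rfl⟩ := hF
    rw [Induction.indFun_sub]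
    exact ⟨_, _, Induction.isCharacter_indFun H ha, Induction.isCharacter_indFun H hb, rfl⟩
  choose m hm using (isGeneralizedCharacter_iff.mp hgen).2
  refine ⟨m, hm, fun g => ?_, ?_⟩
  · conv_lhs => rw [classFunction_eq_sum (Induction.isClassFunction_indFun H F)]
    simp [hm]
  · rw [← hm, Induction.classInner_indFun H F (irr_isClassFunction _)]
    rfl

/-- An involution has integral character values. -/
theorem exists_int_of_involution (χ : IrrCharacter G) {t : G} (ht : t * t = 1) :
    ∃ z : ℤ, (χ : G → ℂ) t = z := by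
  obtain ⟨c, n, ρ, hρ, rfl⟩ := χ
  obtain ⟨ω, h1, -, h3⟩ := exists_eigenvalues ρ t
  have h2 : orderOf t ∣ 2 := orderOf_dvd_of_pow_eq_one (by rw [pow_two, ht])
  have hω : ∀ i, ∃ z : ℤ, ω i = z := by
    intro i
    obtain ⟨k, hk⟩ := h2
    have : ω i * ω i = 1 := by rw [← pow_two, hk, pow_mul, h1 i, one_pow]
    rcases mul_self_eq_one_iff.1 this with h | h
    · exact ⟨1, by simp [h]⟩
    · exact ⟨-1, by simp [h]⟩
  choose z hz using hω
  exact ⟨∑ i, z i, by simp only [h3, hz]; push_cast; rfl⟩

end CfsgLib.AltNine
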