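import Cfsg.Agent.Lib.Recognition.AltNine.Setup
import Cfsg.Agent.Lib.Recognition.AltNine.Chars
import Mathlib.GroupTheory.SpecificGroups.Alternating
import Mathlib.GroupTheory.Perm.Support
import Mathlib.GroupTheory.Perm.Sign

/-!
# The normalizer of three disjoint 3-cycles in the alternating group of degree 9
-/

set_option autoImplicit false
set_option linter.style.haveILetI false

namespace CfsgLib.AltNine

open Cfsg CfsgLib.ThreeCubed CfsgLib.ThreeCubedWreath Equiv

universe u

/-- The generating cycles. -/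
def cyc : Fin 3 → Perm (Fin 9) :=
  ![swap 0 1 * swap 1 2, swap 3 4 * swap 4 5, swap 6 7 * swap 7 8]

/-- The six cycles. -/
def six (p : Fin 3 × Fin 2) : Perm (Fin 9) := cyc p.1 ^ (p.2.val + 1)

/-- An odd permutation fixing the cycles up to inversion. -/
def odd0 (b : Bool) : Perm (Fin 9) := if b then swap 1 2 else 1

/-- The subgroup `J` of the model. -/
def Jsub : Subgroup W where
  carrier := {x | isJ x}
  one_mem' := isJ_one
  mul_mem' := isJ_mul
  inv_mem' := isJ_inv

/-- The generators of the model with their images. -/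
def genL : List W := [i1, gB, i4, gC]

theorem Jel_products : ∀ t : Fin 3 × Fin 3 × Fin 3, ∃ i j k : Fin 3,
    psi (Jel t) = cyc 0 ^ i.val * cyc 1 ^ j.val * cyc 2 ^ k.val := by decide +kernel

theorem cyc_images : (∀ i, ∃ t : Fin 3 × Fin 3 × Fin 3, psi (Jel t) = cyc i) ∧
    (∀ t, isJ (Jel t)) ∧
    (∀ x ∈ genL, Perm.sign (psi x) = 1) ∧
    ∀ t, (psi (Jel t)).support.card = 3 → ∃ p, psi (Jel t) = six p := by decide +kernel

theorem triples : ∀ p q r : Fin 3 × Fin 2, p.1 ≠ q.1 → p.1 ≠ r.1 → q.1 ≠ r.1 →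
    (el4.any fun x => [false, true].any fun b => decide
      ((psi x * odd0 b) * cyc 0 = six p * (psi x * odd0 b) ∧
       (psi x * odd0 b) * cyc 1 = six q * (psi x * odd0 b) ∧
       (psi x * odd0 b) * cyc 2 = six r * (psi x * odd0 b))) = true := by decide +kernel

theorem six_facts : (∀ i, (cyc i).support.card = 3) ∧ (∀ i, cyc i ^ 3 = 1) ∧
    (∀ p q : Fin 3 × Fin 2, p.1 = q.1 → six p = six q ∨ six p = (six q)⁻¹) ∧
    (∀ i j : Fin 3, cyc i = cyc j ∨ cyc i = (cyc j)⁻¹ → i = j) := by decide +kernel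

theorem commuting : ∀ i j k : Fin 9, i.val < 3 → 3 ≤ j.val → j.val < 6 → 6 ≤ k.val →
    ∃ t : Fin 3 × Fin 3 × Fin 3, psi (Jel t) 0 = i ∧ psi (Jel t) 3 = j ∧ psi (Jel t) 6 = k := by
  decide +kernel

theorem moved : ∀ i : Fin 9, (cyc 0 i ≠ i ↔ i.val < 3) ∧
    (cyc 1 i ≠ i ↔ 3 ≤ i.val ∧ i.val < 6) ∧ (cyc 2 i ≠ i ↔ 6 ≤ i.val) := by decide +kernel

theorem orbit : ∀ i : Fin 9, ∃ k : Fin 3, ∃ n : Fin 3,
    (cyc k ^ n.val) (![0, 3, 6] k) = i := by decide +kernel

attribute [local irreducible] el4 M4set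

theorem psi_Jsub_eq : Jsub.map psi = Subgroup.closure
    {swap (0 : Fin 9) 1 * swap 1 2, swap (3 : Fin 9) 4 * swap 4 5, swap (6 : Fin 9) 7 * swap 7 8} := by
  apply le_antisymm
  · rintro _ ⟨x, hx, rfl⟩
    obtain ⟨t, rfl⟩ := exists_Jel hx
    obtain ⟨i, j, k, h⟩ := Jel_products t
    rw [h]
    exact mul_mem (mul_mem (pow_mem (Subgroup.subset_closure (by simp [cyc])) _)
      (pow_mem (Subgroup.subset_closure (by simp [cyc])) _))
      (pow_mem (Subgroup.subset_closure (by simp [cyc])) _)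
  · rw [Subgroup.closure_le]
    intro y hy
    have : ∃ i, cyc i = y := by
      simp only [Set.mem_insert_iff, Set.mem_singleton_iff] at hy
      rcases hy with rfl | rfl | rfl
      exacts [⟨0, rfl⟩, ⟨1, rfl⟩, ⟨2, rfl⟩]
    obtain ⟨i, rfl⟩ := this
    obtain ⟨t, ht⟩ := cyc_images.1 i
    exact ⟨Jel t, cyc_images.2.1 t, ht⟩

theorem mem_of_commute (y : Perm (Fin 9)) (h : ∀ i, y * cyc i = cyc i * y) :
    y ∈ Jsub.map psi := by
  have pt : ∀ i x, y (cyc i x) = cyc i (y x) := fun i x => by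
    simpa using Equiv.congr_fun (h i) x
  have mv : ∀ i x, cyc i x ≠ x → cyc i (y x) ≠ y x := fun i x hx he => hx (y.injective (by
    rw [pt, he]))
  have a0 : (y 0).val < 3 := ((moved _).1).1 (mv 0 0 (((moved 0).1).2 (by decide)))
  have a3 := ((moved _).2.1).1 (mv 1 3 (((moved 3).2.1).2 (by decide)))
  have a6 : 6 ≤ (y 6).val := ((moved _).2.2).1 (mv 2 6 (((moved 6).2.2).2 (by decide)))
  obtain ⟨t, t0, t3, t6⟩ := commuting _ _ _ a0 a3.1 a3.2 a6
  refine ⟨Jel t, cyc_images.2.1 t, ?_⟩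
  have hc : ∀ i, psi (Jel t) * cyc i = cyc i * psi (Jel t) := by
    intro i
    obtain ⟨s, hs⟩ := cyc_images.1 i
    rw [← hs, ← map_mul, ← map_mul, isJ_comm (cyc_images.2.1 t) (cyc_images.2.1 s)]
  ext x
  obtain ⟨k, n, hkn⟩ := orbit x
  have e : ∀ z : Perm (Fin 9), (∀ i, z * cyc i = cyc i * z) →
      z x = (cyc k ^ n.val) (z (![0, 3, 6] k)) := fun z hz => by
    rw [← hkn]
    exact Equiv.congr_fun (Commute.pow_right (hz k) n.val).eq _
  rw [e _ hc, e _ h]
  congr 2
  fin_cases k <;> assumption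

theorem range_eq : M4.map psi =
    alternatingGroup (Fin 9) ⊓ Subgroup.normalizer ((Jsub.map psi : Subgroup (Perm (Fin 9))) :
      Set (Perm (Fin 9))) := by
  apply le_antisymm
  · rintro _ ⟨x, hx, rfl⟩
    refine Subgroup.mem_inf.2 ⟨?_, ?_⟩
    · rw [Perm.mem_alternatingGroup]
      have hle : M4 ≤ (Perm.sign.comp psi).ker := by
        rw [← closure_eq4, Subgroup.closure_le]
        intro z hz
        have : z ∈ genL := by
          simp only [Set.mem_insert_iff, Set.mem_singleton_iff] at hz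
          simp only [genL, List.mem_cons, List.not_mem_nil, or_false]
          exact hz
        exact cyc_images.2.2.1 z this
      exact hle hx
    · refine Subgroup.mem_normalizer_fintype fun y hy => ?_
      obtain ⟨j, hj, rfl⟩ := hy
      exact ⟨x * j * x⁻¹, isJ_conj hj hx, by simp⟩
  · intro g hg
    obtain ⟨hsign, hnorm⟩ := Subgroup.mem_inf.1 hg
    have img : ∀ i, ∃ p, g * cyc i * g⁻¹ = six p := by
      intro i
      obtain ⟨t0, ht0⟩ := cyc_images.1 i
      obtain ⟨y, hy, hy'⟩ := (Subgroup.mem_normalizer_iff.1 hnorm _).1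
        ⟨Jel t0, cyc_images.2.1 t0, ht0⟩
      obtain ⟨t, rfl⟩ := exists_Jel hy
      obtain ⟨p, hp⟩ := cyc_images.2.2.2 t (by rw [hy', Perm.card_support_conj]; exact six_facts.1 i)
      exact ⟨p, by rw [← hy', hp]⟩
    choose p hp using img
    have hne : ∀ i j, i ≠ j → (p i).1 ≠ (p j).1 := by
      intro i j hij he
      refine hij (six_facts.2.2.2 i j ?_)
      rcases six_facts.2.2.1 _ _ he with h | h
      · rw [← hp, ← hp] at h
        exact Or.inl (mul_left_cancel (mul_right_cancel h))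
      · rw [← hp, ← hp, show (g * cyc j * g⁻¹)⁻¹ = g * (cyc j)⁻¹ * g⁻¹ by group] at h
        exact Or.inr (mul_left_cancel (mul_right_cancel h))
    obtain ⟨x, hx, hb⟩ := List.any_eq_true.1 (triples (p 0) (p 1) (p 2) (hne 0 1 (by decide))
      (hne 0 2 (by decide)) (hne 1 2 (by decide)))
    obtain ⟨b, -, hb⟩ := List.any_eq_true.1 hb
    rw [decide_eq_true_eq] at hb
    have hm : (psi x * odd0 b)⁻¹ * g ∈ Jsub.map psi := by
      refine mem_of_commute _ fun i => ?_
      have e1 : g * cyc i = six (p i) * g := by rw [← hp]; group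
      have e2 : (psi x * odd0 b) * cyc i = six (p i) * (psi x * odd0 b) := by
        fin_cases i
        exacts [hb.1, hb.2.1, hb.2.2]
      calc (psi x * odd0 b)⁻¹ * g * cyc i = (psi x * odd0 b)⁻¹ * (g * cyc i) := mul_assoc _ _ _
        _ = (psi x * odd0 b)⁻¹ * (six (p i) * (psi x * odd0 b)) * ((psi x * odd0 b)⁻¹ * g) := by
          rw [e1]; group
        _ = cyc i * ((psi x * odd0 b)⁻¹ * g) := by rw [← e2]; group
    obtain ⟨j, hj, hj'⟩ := hm
    have hg' : g = psi x * odd0 b * psi j := by rw [hj']; group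
    have hle : M4 ≤ (Perm.sign.comp psi).ker := by
      rw [← closure_eq4, Subgroup.closure_le]
      intro z hz
      have : z ∈ genL := by
        simp only [Set.mem_insert_iff, Set.mem_singleton_iff] at hz
        simp only [genL, List.mem_cons, List.not_mem_nil, or_false]
        exact hz
      exact cyc_images.2.2.1 z this
    have hb0 : b = false := by
      rw [Perm.mem_alternatingGroup, hg', map_mul, map_mul] at hsign
      rw [show Perm.sign (psi x) = 1 from hle (mem_el4.1 hx),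
        show Perm.sign (psi j) = 1 from hle (isJ_iff.1 hj).1, one_mul, mul_one] at hsign
      cases b
      · rfl
      · exfalso
        simp [odd0] at hsign
    refine ⟨x * j, mul_mem (mem_el4.1 hx) (isJ_iff.1 hj).1, ?_⟩
    rw [hg', hb0, map_mul]
    simp [odd0]

theorem card_Jsub_le : ∀ (s : Finset W), (∀ x ∈ s, isJ x) → s.card ≤ 27 := by
  intro s hs
  refine le_trans (Finset.card_le_card (t := (Finset.univ : Finset (Fin 3 × Fin 3 × Fin 3)).image Jel)
    fun x hx => ?_) ((Finset.card_image_le).trans (by simp))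
  obtain ⟨t, ht⟩ := exists_Jel (hs x hx)
  exact Finset.mem_image.2 ⟨t, Finset.mem_univ _, ht⟩

/-- The configuration of the statement. -/
theorem exists_setup {G : Type u} [Group G] [Finite G] (J : Subgroup G) (hcomm : IsMulCommutative J)
    (hexp : ∀ a ∈ J, a ^ 3 = 1) (hcard : Nat.card J = 27)
    (H : Subgroup G) (hH : H = Subgroup.normalizer (J : Set G))
    (J₀ : Subgroup (Perm (Fin 9)))
    (hJ₀ : J₀ = Subgroup.closure {swap (0 : Fin 9) 1 * swap 1 2, swap (3 : Fin 9) 4 * swap 4 5,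
      swap (6 : Fin 9) 7 * swap 7 8})
    (eH : H ≃* ↥(alternatingGroup (Fin 9) ⊓ Subgroup.normalizer (J₀ : Set (Perm (Fin 9)))))
    (hcores : ∀ x ∈ H, orderOf x = 3 →
      Cfsg.pPrimeCore 3 (Subgroup.centralizer ({x} : Set G)) = ⊥) :
    ∃ S : Setup G, S.H = H := by
  classical
  haveI : Fact (Nat.Prime 3) := ⟨Nat.prime_three⟩
  rw [← psi_Jsub_eq] at hJ₀
  subst hJ₀
  let e : H ≃* M4 := (eH.trans (MulEquiv.subgroupCongr range_eq.symm)).trans
    (M4.equivMapOfInjective psi psi_injective).symm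
  have hJH : J ≤ H := hH ▸ Subgroup.le_normalizer
  have hn : (J.subgroupOf H).Normal := by subst hH; exact Subgroup.normal_in_normalizer
  have hp : IsPGroup 3 (J.subgroupOf H) := (IsPGroup.of_card (n := 3) (by
    rw [hcard]; norm_num) : IsPGroup 3 J).comap_subtype
  have hle := CfsgLib.PCore.le_pCore hn hp
  have key : ∀ h : H, (h : G) ∈ J → isJ (wim e h) := fun h hh =>
    (memJ_iff e (J := (Cfsg.pCore 3 ↥H).map H.subtype) rfl h).1 ⟨h, hle hh, rfl⟩
  refine ⟨⟨H, J, e, hH, fun h => ⟨key h, fun hh => ?_⟩, hcores⟩, rfl⟩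
  by_contra hn'
  letI : Fintype J := Fintype.ofFinite J
  let s : Finset W := insert (wim e h) ((Finset.univ : Finset J).image fun j : J => wim e ⟨(j : G), hJH j.2⟩)
  have h1 : s.card ≤ 27 := card_Jsub_le s fun x hx => by
    rcases Finset.mem_insert.1 hx with rfl | hx
    · exact hh
    · obtain ⟨j, -, rfl⟩ := Finset.mem_image.1 hx
      exact key _ j.2
  rw [Finset.card_insert_of_notMem, Finset.card_image_of_injective, Finset.card_univ,
    ← Nat.card_eq_fintype_card, hcard] at h1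
  · omega
  · exact fun a b hab => Subtype.ext (congrArg (fun x : H => (x : G)) (wim_inj e hab) : (a : G) = b)
  · intro hm
    obtain ⟨j, -, hj⟩ := Finset.mem_image.1 hm
    exact hn' ((congrArg (fun x : H => (x : G)) (wim_inj e hj) : (j : G) = h) ▸ j.2)

end CfsgLib.AltNine
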