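import Cfsg.Agent.Lib.Recognition.AltNine.Star

/-!
# Permutations of six and nine points
-/

set_option autoImplicit false

namespace CfsgLib.AltNine

open Equiv Subgroup

/-- `(0 1 2)`. -/
def p0 : Perm (Fin 6) := swap 0 1 * swap 1 2
/-- `(3 4 5)`. -/
def p1 : Perm (Fin 6) := swap 3 4 * swap 4 5
/-- `(0 3 1 4)(2 5)`. -/
def q0 : Perm (Fin 6) := swap 0 3 * swap 3 1 * swap 1 4 * swap 2 5
/-- `(0 1 3)`. -/
def w0p : Perm (Fin 6) := swap 0 1 * swap 1 3

/-- `(0 1 i+2)`. -/
def star3 (n : ℕ) (i : ℕ) : Perm (Fin (n + 2)) :=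
  swap 0 1 * swap 1 ⟨(i + 2) % (n + 2), Nat.mod_lt _ (by omega)⟩

theorem sign_star3 (n : ℕ) {i : ℕ} (hi : i < n) : Perm.sign (star3 n i) = 1 := by
  have h1 : (1 : Fin (n + 2)) ≠ ⟨(i + 2) % (n + 2), Nat.mod_lt _ (by omega)⟩ := by
    intro e
    have := congrArg Fin.val e
    simp only [Fin.val_one, Nat.mod_eq_of_lt (show i + 2 < n + 2 by omega)] at this
    omega
  rw [star3, Perm.sign_mul, Perm.sign_swap (by simp), Perm.sign_swap h1]
  rfl

/-- `(0 1 i+2)` in the alternating group. -/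
def starA (n : ℕ) (i : ℕ) : alternatingGroup (Fin (n + 2)) :=
  if h : i < n then ⟨star3 n i, Perm.mem_alternatingGroup.2 (sign_star3 n h)⟩ else 1

theorem coe_starA {n i : ℕ} (h : i < n) : (starA n i : Perm (Fin (n + 2))) = star3 n i := by
  rw [starA, dif_pos h]

theorem star_rels4 : (∀ i : Fin 4, star3 4 i ^ 3 = 1) ∧
    ∀ i j : Fin 4, i ≠ j → (star3 4 i * star3 4 j) ^ 2 = 1 := by decide +kernel

theorem star_rels7 : (∀ i : Fin 7, star3 7 i ^ 3 = 1) ∧
    ∀ i j : Fin 7, i ≠ j → (star3 7 i * star3 7 j) ^ 2 = 1 := by decide +kernel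

theorem starA_rels {n : ℕ} (h : (∀ i : Fin n, star3 n i ^ 3 = 1) ∧
    ∀ i j : Fin n, i ≠ j → (star3 n i * star3 n j) ^ 2 = 1) : StarRels (starA n) n := by
  refine ⟨fun i hi => Subtype.ext ?_, fun i j hi hj hne => Subtype.ext ?_⟩
  · rw [SubgroupClass.coe_pow, coe_starA hi]; exact h.1 ⟨i, hi⟩
  · rw [SubgroupClass.coe_pow, Subgroup.coe_mul, coe_starA hi, coe_starA hj]
    exact h.2 ⟨i, hi⟩ ⟨j, hj⟩ fun e => hne (congrArg Fin.val e)

/-- `(0 i j)` as a product of the generators. -/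
def c0 (n : ℕ) (i j : Fin (n + 2)) : Perm (Fin (n + 2)) :=
  if i = 1 then star3 n (j.val - 2) else if j = 1 then (star3 n (i.val - 2))⁻¹
  else star3 n (j.val - 2) * (star3 n (i.val - 2))⁻¹

/-- A three-cycle as a product of the generators. -/
def c3 (n : ℕ) (a b c : Fin (n + 2)) : Perm (Fin (n + 2)) :=
  if a = 0 then c0 n b c else if b = 0 then c0 n c a else if c = 0 then c0 n a b
  else c0 n a b * c0 n b c

theorem star_top {n : ℕ} (hn : 0 < n) (h : ∀ a b c : Fin (n + 2), a ≠ b → b ≠ c → a ≠ c →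
    swap a b * swap b c = c3 n a b c) :
    closure (starA n '' {i | i < n}) = ⊤ := by
  set S := closure (starA n '' {i | i < n})
  set T : Subgroup (Perm (Fin (n + 2))) := S.map (alternatingGroup _).subtype with hT
  have hk : ∀ i : Fin (n + 2), 2 ≤ i.val → star3 n (i.val - 2) ∈ T := fun i hi =>
    ⟨starA n (i.val - 2), subset_closure ⟨i.val - 2, by have := i.isLt; show _ < n; omega, rfl⟩,
      coe_starA (by have := i.isLt; omega)⟩
  have h0 : ∀ i j : Fin (n + 2), i ≠ 0 → j ≠ 0 → i ≠ j → c0 n i j ∈ T := by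
    intro i j hi hj hij
    have two : ∀ k : Fin (n + 2), k ≠ 0 → k ≠ 1 → 2 ≤ k.val := fun k a b => by
      have a' : k.val ≠ 0 := fun e => a (Fin.ext e)
      have b' : k.val ≠ 1 := fun e => b (Fin.ext (by rw [e, Fin.val_one]))
      omega
    unfold c0
    split_ifs with h1 h2
    · exact hk j (two j hj fun e => hij (h1.trans e.symm))
    · exact inv_mem (hk i (two i hi h1))
    · exact mul_mem (hk j (two j hj h2)) (inv_mem (hk i (two i hi h1)))
  have h3 : ∀ a b c : Fin (n + 2), a ≠ b → b ≠ c → a ≠ c → c3 n a b c ∈ T := by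
    intro a b c hab hbc hac
    unfold c3
    split_ifs with ha hb hc
    · subst ha; exact h0 b c hab.symm hac.symm hbc
    · subst hb; exact h0 c a hbc.symm hab hac.symm
    · subst hc; exact h0 a b hac hbc hab
    · exact mul_mem (h0 a b ha hb hab) (h0 b c hb hc hbc)
  have hle : alternatingGroup (Fin (n + 2)) ≤ T := by
    rw [← Perm.closure_three_cycles_eq_alternating, closure_le]
    intro σ hσ
    obtain ⟨a, ha⟩ : σ.support.Nonempty := by
      rw [← Finset.card_pos, hσ.card_support]; norm_num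
    have hnd := hσ.nodup_iff_mem_support.2 ha
    simp only [List.nodup_cons, List.mem_cons, List.not_mem_nil, or_false, not_or] at hnd
    rw [SetLike.mem_coe, hσ.eq_swap_mul_swap_iff_mem_support.2 ha,
      h _ _ _ hnd.1.1 hnd.2.1 hnd.1.2]
    exact h3 _ _ _ hnd.1.1 hnd.2.1 hnd.1.2
  refine eq_top_iff.2 fun x _ => ?_
  obtain ⟨y, hy, e⟩ := hle x.2
  exact Subtype.ext e ▸ hy

theorem star_top4 : closure (starA 4 '' {i | i < 4}) = ⊤ :=
  star_top (by norm_num) (by decide +kernel)

theorem star_top7 : closure (starA 7 '' {i | i < 7}) = ⊤ :=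
  star_top (by norm_num) (by decide +kernel)

/-- A homomorphism out of `A₆` from four elements. -/
theorem exists_hom6 {G : Type*} [Group G] [Finite G] (x : ℕ → G) (hx : StarRels x 4) :
    ∃ f : alternatingGroup (Fin 6) →* G, ∀ i, i < 4 → f (starA 4 i) = x i :=
  exists_hom_of_star (by norm_num) (by norm_num) (starA 4) (starA_rels star_rels4) star_top4 x hx

/-- A homomorphism out of `A₉` from seven elements. -/
theorem exists_hom9 {G : Type*} [Group G] [Finite G] (x : ℕ → G) (hx : StarRels x 7) :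
    ∃ f : alternatingGroup (Fin 9) →* G, ∀ i, i < 7 → f (starA 7 i) = x i :=
  exists_hom_of_star (by norm_num) (by norm_num) (starA 7) (starA_rels star_rels7) star_top7 x hx

end CfsgLib.AltNine
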