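import Cfsg.Agent.Lib.Recognition.AltNine.Auto6
import Cfsg.Agent.Lib.Recognition.AltNine.Chars

/-!
# Nine points, three blocks and the model
-/

set_option autoImplicit false
set_option maxRecDepth 10000

namespace CfsgLib.AltNine

open Equiv Subgroup CfsgLib.ThreeCubed CfsgLib.ThreeCubedWreath

/-- The points outside block `k`, starting with the next block. -/
def emb (k : Fin 3) (i : Fin 6) : Fin 9 := ⟨(3 + 3 * k.val + i.val) % 9, Nat.mod_lt _ (by norm_num)⟩

/-- Those points as a type. -/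
def embEquiv (k : Fin 3) : Fin 6 ≃ {x : Fin 9 // x.val / 3 ≠ k.val} where
  toFun i := ⟨emb k i, by revert k i; decide +kernel⟩
  invFun x := ⟨(x.1.val + 15 - 3 * k.val) % 9 % 6, Nat.mod_lt _ (by norm_num)⟩
  left_inv := by revert k; decide +kernel
  right_inv := by revert k; decide +kernel

/-- Permutations of the points outside block `k`. -/
def e9 (k : Fin 3) : Perm (Fin 6) →* Perm (Fin 9) := Perm.extendDomainHom (embEquiv k)

theorem e9_emb (k : Fin 3) (τ : Perm (Fin 6)) (i : Fin 6) : e9 k τ (emb k i) = emb k (τ i) :=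
  Perm.extendDomain_apply_image τ (embEquiv k) i

theorem e9_block (k : Fin 3) (τ : Perm (Fin 6)) {x : Fin 9} (hx : x.val / 3 = k.val) :
    e9 k τ x = x := Perm.extendDomain_apply_not_subtype τ (embEquiv k) (by simpa using hx)

theorem e9_injective (k : Fin 3) : Function.Injective (e9 k) :=
  Perm.extendDomainHom_injective (embEquiv k)

theorem sign_e9 (k : Fin 3) (τ : Perm (Fin 6)) : Perm.sign (e9 k τ) = Perm.sign τ :=
  Perm.sign_extendDomain τ (embEquiv k)

theorem emb_cases (k : Fin 3) (x : Fin 9) : x.val / 3 = k.val ∨ ∃ i, x = emb k i := by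
  by_cases h : x.val / 3 = k.val
  · exact Or.inl h
  · refine Or.inr ⟨(embEquiv k).symm ⟨x, h⟩, ?_⟩
    have := congrArg Subtype.val ((embEquiv k).apply_symm_apply ⟨x, h⟩)
    exact this.symm

/-- Conjugation by a permutation carrying the complement of one block onto that of another. -/
theorem e9_conj {k l : Fin 3} {σ : Perm (Fin 9)} {τ : Perm (Fin 6)}
    (h : ∀ i, σ (emb k i) = emb l (τ i)) (π : Perm (Fin 6)) :
    σ * e9 k π * σ⁻¹ = e9 l (τ * π * τ⁻¹) := by
  rw [mul_inv_eq_iff_eq_mul]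
  refine Equiv.ext fun x => ?_
  simp only [Perm.coe_mul, Function.comp_apply]
  rcases emb_cases k x with hx | ⟨i, rfl⟩
  · rw [e9_block k π hx]
    rcases emb_cases l (σ x) with hy | ⟨j, hj⟩
    · rw [e9_block l _ hy]
    · exfalso
      have : x = emb k (τ.symm j) := σ.injective (by rw [h, Equiv.apply_symm_apply, hj])
      revert hx
      rw [this]
      exact ((embEquiv k) (τ.symm j)).2
  · rw [e9_emb, h, h, e9_emb]
    simp

/-- The cycle of a block in the model. -/
def av (k : Fin 3) : W := gB ^ k.val * SemidirectProduct.inl g1 * (gB ^ k.val)⁻¹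

/-- The four-cycle with a transposition on the last two blocks. -/
def qW : W := ⟨(1, .sr 1, 1), .sr 0⟩

theorem av_facts : (∀ k, sg (av k).left * sgn (av k).right = 1) ∧
    sg qW.left * sgn qW.right = 1 ∧ av 0 = (jrep 0)⁻¹ ∧
    av 1 = SemidirectProduct.inl g2 ∧ av 2 = SemidirectProduct.inl g3 ∧
    qW ^ 4 = 1 ∧ qW * av 0 = av 0 * qW ∧ av 1 * av 0 = av 0 * av 1 ∧
    qW * av 1 * qW⁻¹ = av 2 ∧ qW * av 2 * qW⁻¹ = (av 1)⁻¹ ∧
    qW * qW * (av 1)⁻¹ * (qW * qW)⁻¹ = av 1 := by decide +kernel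

theorem av_mem (k : Fin 3) : av k ∈ M4 := mem_M4_iff.2 (av_facts.1 k)

theorem qW_mem : qW ∈ M4 := mem_M4_iff.2 av_facts.2.1

theorem bk_mem (k : Fin 3) : gB ^ k.val ∈ M4 :=
  pow_mem (mem_M4_iff.2 (base_mem gB (by simp))) _

theorem psi_facts : psi (av 1) = e9 0 p0 ∧ psi (av 2) = e9 0 p1 ∧ psi qW = e9 0 q0 ∧
    (∀ k : Fin 3, ∀ i, psi (gB ^ k.val) (emb 0 i) = emb k i) ∧
    (∀ k : Fin 3, psi (av (k + 1)) = e9 k p0 ∧ psi (av (k + 2)) = e9 k p1) := by
  decide +kernel

theorem fix_zero : (el4.all fun x => if psi x 0 == 0 && psi x 1 == 1 && psi x 2 == 2 then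
    (List.finRange 3).any fun i => (List.finRange 3).any fun j => (List.finRange 4).any fun c =>
      x == av 1 ^ i.val * av 2 ^ j.val * qW ^ c.val else true) = true := by
  decide +kernel

theorem stab_zero : (el4.all fun x => if (List.finRange 6).all fun i =>
    (psi x (emb 0 i)).val / 3 != 0 then
    x * av 0 * x⁻¹ == av 0 || x * av 0 * x⁻¹ == (av 0)⁻¹ else true) = true := by
  decide +kernel

end CfsgLib.AltNine
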