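import Cfsg.Agent.Lib.ThreeCubedWreath.Local
import Cfsg.Prelude.Def_CaseTheorems

/-!
# The configuration of a 3-local subgroup `3³ : S₄`

`a`, `b`, `c` are representatives of the three classes of `J`, with one, two and three non-trivial
coordinates.
-/

set_option autoImplicit false

namespace CfsgLib.AltNine

open Cfsg CfsgLib.ThreeCubed CfsgLib.ThreeCubedWreath

universe u

/-- The normalizer of an elementary abelian subgroup of order 27, in coordinates. -/
structure Setup (G : Type u) [Group G] where
  /-- The normalizer. -/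
  H : Subgroup G
  /-- The elementary abelian subgroup. -/
  J : Subgroup G
  /-- Coordinates. -/
  e : H ≃* M4
  normalizer_eq : H = Subgroup.normalizer (J : Set G)
  memJ : ∀ h : H, (h : G) ∈ J ↔ isJ (wim e h)
  cores : ∀ x ∈ H, orderOf x = 3 →
    Cfsg.pPrimeCore 3 (Subgroup.centralizer ({x} : Set G)) = ⊥

namespace Setup

variable {G : Type u} [Group G] (S : Setup G)

theorem le_H : S.J ≤ S.H := S.normalizer_eq ▸ Subgroup.le_normalizer

theorem hJ [Finite G] : S.J = (Cfsg.pCore 3 ↥S.H).map S.H.subtype := by
  ext g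
  constructor
  · intro hg
    exact (memJ_iff S.e rfl ⟨g, S.le_H hg⟩).2 ((S.memJ ⟨g, S.le_H hg⟩).1 hg)
  · intro hg
    have hgH : g ∈ S.H := Subgroup.map_subtype_le _ hg
    exact (S.memJ ⟨g, hgH⟩).2 ((memJ_iff S.e rfl ⟨g, hgH⟩).1 hg)

/-- The representative with one non-trivial coordinate. -/
noncomputable abbrev a : G := ge S.e (jrep 0)
/-- The representative with two non-trivial coordinates. -/
noncomputable abbrev b : G := ge S.e (jrep 1)
/-- The representative with three non-trivial coordinates. -/
noncomputable abbrev c : G := ge S.e (jrep 2)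

theorem jrep_sign (p : Fin 3) : sg (jrep p).left * sgn (jrep p).right = 1 :=
  mem_M4_iff.1 (isJ_iff.1 (jrep_mem p).1).1

theorem jrep_memJ (p : Fin 3) : ge S.e (jrep p) ∈ S.J :=
  (S.memJ _).2 (by rw [wim_el S.e (jrep_sign p)]; exact (jrep_mem p).1)

theorem jrep_ne_one (p : Fin 3) : ge S.e (jrep p) ≠ 1 := fun h => (jrep_mem p).2 (by
  rw [← wim_el S.e (jrep_sign p), show el S.e (jrep p) = 1 from Subtype.ext h, wim_one])

end Setup

end CfsgLib.AltNine
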