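import Mathlib

/-!
# Alternating groups generated by three-cycles through two common points

`x k` plays the rôle of the three-cycle `(0 1 k+2)`.
-/

set_option autoImplicit false

namespace CfsgLib.AltNine

open Subgroup

/-- The relations on the first `m` terms of a sequence. -/
structure StarRels {G : Type*} [Group G] (x : ℕ → G) (m : ℕ) : Prop where
  cube : ∀ i, i < m → x i ^ 3 = 1
  pair : ∀ i j, i < m → j < m → i ≠ j → (x i * x j) ^ 2 = 1

theorem StarRels.mono {G : Type*} [Group G] {x : ℕ → G} {m n : ℕ} (h : StarRels x m)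
    (hn : n ≤ m) : StarRels x n :=
  ⟨fun i hi => h.cube i (by omega), fun i j hi hj => h.pair i j (by omega) (by omega)⟩

variable {G : Type*} [Group G]

/-- A finite subset containing one and closed under right multiplication by generators contains
the subgroup they generate. -/
theorem closure_subset_of_mul_mem [Finite G] {S U : Set G} (h1 : (1 : G) ∈ U)
    (hU : ∀ u ∈ U, ∀ s ∈ S, u * s ∈ U) : ∀ g ∈ closure S, g ∈ U := by
  intro g hg
  suffices ∀ u ∈ U, u * g ∈ U by simpa using this 1 h1
  induction hg using closure_induction with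
  | mem s hs => exact fun u hu => hU u hu s hs
  | one => exact fun u hu => by simpa using hu
  | mul a b _ _ iha ihb => exact fun u hu => by rw [← mul_assoc]; exact ihb _ (iha u hu)
  | inv a _ iha =>
    intro u hu
    have : ∀ n : ℕ, u * a ^ n ∈ U := fun n => by
      induction n with
      | zero => simpa using hu
      | succ n ih => rw [pow_succ, ← mul_assoc]; exact iha _ ih
    obtain ⟨n, hn⟩ : a⁻¹ ∈ Submonoid.powers a :=
      (isOfFinOrder_of_finite a).mem_powers_iff_mem_zpowers.2 (inv_mem (mem_zpowers a))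
    rw [← show a ^ n = a⁻¹ from hn]
    exact this n

/-- Moving the last generator past another one. -/
theorem star_step {a y : G} (h : (a * y) ^ 2 = 1) : y * a = a⁻¹ * y⁻¹ ∧ y⁻¹ * a⁻¹ = a * y := by
  rw [pow_two] at h
  have h1 : y * a = a⁻¹ * y⁻¹ := by
    calc y * a = a⁻¹ * (a * y * (a * y)) * y⁻¹ := by group
      _ = a⁻¹ * y⁻¹ := by rw [h, mul_one]
  refine ⟨h1, ?_⟩
  calc y⁻¹ * a⁻¹ = (a * y)⁻¹ := by group
    _ = a * y := inv_eq_of_mul_eq_one_left h

theorem star_card_le [Finite G] : ∀ (m : ℕ) (x : ℕ → G), StarRels x m →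
    2 * Nat.card (closure (x '' {i | i < m}) : Subgroup G) ≤ (m + 2).factorial := by
  intro m
  induction m with
  | zero =>
    intro x _
    rw [show {i : ℕ | i < 0} = ∅ by simp, Set.image_empty, Subgroup.closure_empty, card_bot]
    simp [Nat.factorial]
  | succ m ih =>
    intro x h
    set K : Subgroup G := closure (x '' {i | i < m}) with hK
    have ihK := ih x (h.mono (by omega))
    set Y := x m with hY
    have hY3 : Y * Y * Y = 1 := by rw [← h.cube m (by omega), hY, pow_succ, pow_two]
    have hXK : ∀ i, i < m → x i ∈ K := fun i hi => subset_closure ⟨i, hi, rfl⟩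
    have hs : ∀ i, i < m → Y * x i = (x i)⁻¹ * Y⁻¹ ∧ Y⁻¹ * (x i)⁻¹ = x i * Y := fun i hi =>
      star_step (h.pair i m (by omega) (by omega) (by omega))
    let R : Fin (m + 3) → G := fun j =>
      if j.val = 0 then 1 else if j.val = 1 then Y else if j.val = 2 then Y⁻¹
      else Y⁻¹ * x (j.val - 3)
    let U : Set G := Set.range fun p : Fin (m + 3) × K => (p.2 : G) * R p.1
    have mem : ∀ (j : Fin (m + 3)) (k : G), k ∈ K → k * R j ∈ U := fun j k hk =>
      ⟨(j, ⟨k, hk⟩), rfl⟩
    have m0 : ∀ k, k ∈ K → k ∈ U := fun k hk => by simpa [R] using mem ⟨0, by omega⟩ k hk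
    have m1 : ∀ k, k ∈ K → k * Y ∈ U := fun k hk => by simpa [R] using mem ⟨1, by omega⟩ k hk
    have m2 : ∀ k, k ∈ K → k * Y⁻¹ ∈ U := fun k hk => by simpa [R] using mem ⟨2, by omega⟩ k hk
    have m3 : ∀ k i, k ∈ K → i < m → k * (Y⁻¹ * x i) ∈ U := fun k i hk hi => by
      refine ⟨(⟨i + 3, by omega⟩, ⟨k, hk⟩), ?_⟩
      show k * R _ = _
      simp only [R]
      rw [if_neg (by omega), if_neg (by omega), if_neg (by omega), Nat.add_sub_cancel]
    -- `Y (x i)⁻¹` lies in the coset of `Y⁻¹ x i`
    have hYinv : ∀ k i, k ∈ K → i < m → k * (Y * (x i)⁻¹) ∈ U := by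
      intro k i hk hi
      have hx3 : x i * x i * x i = 1 := by rw [← h.cube i (by omega), pow_succ, pow_two]
      rw [show k * (Y * (x i)⁻¹) = k * (x i)⁻¹ * (Y⁻¹ * x i) by
        rw [show (x i)⁻¹ = x i * x i from inv_eq_of_mul_eq_one_left hx3, ← mul_assoc Y,
          (hs i hi).1, show (x i)⁻¹ = x i * x i from inv_eq_of_mul_eq_one_left hx3]
        group]
      exact m3 _ i (mul_mem hk (inv_mem (hXK i hi))) hi
    have hcl : ∀ u ∈ U, ∀ s ∈ x '' {i | i < m + 1}, u * s ∈ U := by
      rintro _ ⟨⟨j, k, hk⟩, rfl⟩ _ ⟨i, hi, rfl⟩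
      simp only [Set.mem_setOf_eq] at hi
      show k * R j * x i ∈ U
      simp only [R]
      split_ifs with h0 h1 h2
      · rw [mul_one]
        rcases Nat.lt_succ_iff_lt_or_eq.1 hi with hi | rfl
        · exact m0 _ (mul_mem hk (hXK i hi))
        · exact m1 _ hk
      · rcases Nat.lt_succ_iff_lt_or_eq.1 hi with hi | rfl
        · rw [mul_assoc, (hs i hi).1, ← mul_assoc]
          exact m2 _ (mul_mem hk (inv_mem (hXK i hi)))
        · rw [← hY, mul_assoc, show Y * Y = Y⁻¹ from (inv_eq_of_mul_eq_one_left hY3).symm]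
          exact m2 _ hk
      · rcases Nat.lt_succ_iff_lt_or_eq.1 hi with hi | rfl
        · rw [mul_assoc]; exact m3 k i hk hi
        · rw [← hY, inv_mul_cancel_right]; exact m0 _ hk
      · obtain ⟨l, hl, hj⟩ : ∃ l, l < m ∧ l = j.val - 3 := ⟨_, by omega, rfl⟩
        rw [← hj]
        rcases Nat.lt_succ_iff_lt_or_eq.1 hi with hi | rfl
        · by_cases hli : l = i
          · subst hli
            have hx3 : x l * x l * x l = 1 := by rw [← h.cube l (by omega), pow_succ, pow_two]
            rw [show k * (Y⁻¹ * x l) * x l = k * (Y⁻¹ * (x l)⁻¹) by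
              rw [← inv_eq_of_mul_eq_one_left hx3 |>.symm]; group]
            rw [(hs l hl).2, ← mul_assoc]
            exact m1 _ (mul_mem hk (hXK l hl))
          · have e : x l * x i = (x i)⁻¹ * (x l)⁻¹ := by
              have := h.pair l i (by omega) (by omega) hli
              rw [pow_two] at this
              calc x l * x i = (x l * x i)⁻¹ := (inv_eq_of_mul_eq_one_left this).symm
                _ = _ := mul_inv_rev _ _
            rw [show k * (Y⁻¹ * x l) * x i = k * x i * (Y * (x l)⁻¹) by
              calc k * (Y⁻¹ * x l) * x i = k * (Y⁻¹ * (x i)⁻¹) * (x l)⁻¹ := by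
                    rw [mul_assoc, mul_assoc, e]; group
                _ = _ := by rw [(hs i hi).2]; group]
            exact hYinv _ l (mul_mem hk (hXK i hi)) hl
        · rw [← hY]
          rw [show k * (Y⁻¹ * x l) * Y = k * (Y * (x l)⁻¹) by
            calc k * (Y⁻¹ * x l) * Y = k * (Y⁻¹ * (x l * Y)) := by group
              _ = k * (Y⁻¹ * (Y⁻¹ * (x l)⁻¹)) := by rw [(hs l hl).2]
              _ = _ := by rw [← mul_assoc Y⁻¹, show Y⁻¹ * Y⁻¹ = Y by
                    rw [← mul_inv_rev]
                    exact inv_eq_of_mul_eq_one_right hY3]]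
          exact hYinv k l hk hl
    have hle : ∀ g ∈ closure (x '' {i | i < m + 1}), g ∈ U :=
      closure_subset_of_mul_mem (m0 1 (one_mem _)) hcl
    have hcard : Nat.card (closure (x '' {i | i < m + 1}) : Subgroup G) ≤
        (m + 3) * Nat.card K := by
      calc Nat.card (closure (x '' {i | i < m + 1}) : Subgroup G) ≤ Nat.card U :=
            Nat.card_le_card_of_injective (fun g => (⟨g.1, hle g.1 g.2⟩ : U))
              fun a b e => Subtype.ext (congrArg Subtype.val e :)
        _ ≤ Nat.card (Fin (m + 3) × K) := Finite.card_range_le _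
        _ = _ := by rw [Nat.card_prod, Nat.card_fin]
    calc 2 * Nat.card (closure (x '' {i | i < m + 1}) : Subgroup G) ≤
          2 * ((m + 3) * Nat.card K) := Nat.mul_le_mul_left _ hcard
      _ = (m + 3) * (2 * Nat.card K) := by ring
      _ ≤ (m + 3) * (m + 2).factorial := Nat.mul_le_mul_left _ ihK
      _ = _ := (Nat.factorial_succ _).symm

/-- Elements satisfying the relations of permutations generating an alternating group define a
homomorphism. -/
theorem exists_hom_of_star [Finite G] {n m : ℕ} (hnm : n = m + 2) (hn : 2 ≤ n)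
    (t : ℕ → alternatingGroup (Fin n)) (ht : StarRels t m)
    (htop : closure (t '' {i | i < m}) = ⊤) (x : ℕ → G) (hx : StarRels x m) :
    ∃ f : alternatingGroup (Fin n) →* G, ∀ i, i < m → f (t i) = x i := by
  haveI : Nontrivial (Fin n) := Fin.nontrivial_iff_two_le.2 hn
  let z : ℕ → alternatingGroup (Fin n) × G := fun i => (t i, x i)
  have hz : StarRels z m := ⟨fun i hi => Prod.ext (ht.cube i hi) (hx.cube i hi),
    fun i j hi hj hne => Prod.ext (ht.pair i j hi hj hne) (hx.pair i j hi hj hne)⟩
  set Γ : Subgroup (alternatingGroup (Fin n) × G) := closure (z '' {i | i < m}) with hΓ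
  have hmap : Γ.map (MonoidHom.fst _ _) = ⊤ := by
    rw [hΓ, MonoidHom.map_closure, ← Set.image_comp, ← htop]
    rfl
  let π : Γ →* alternatingGroup (Fin n) := (MonoidHom.fst _ _).comp Γ.subtype
  have hsurj : Function.Surjective π := fun a => by
    have : a ∈ Γ.map (MonoidHom.fst _ _) := hmap ▸ mem_top a
    obtain ⟨y, hy, e⟩ := this
    exact ⟨⟨y, hy⟩, e⟩
  have h1 : 2 * Nat.card Γ ≤ n.factorial := (star_card_le m z hz).trans_eq (by rw [hnm])
  have h2 : 2 * Nat.card (alternatingGroup (Fin n)) = n.factorial := by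
    rw [two_mul_nat_card_alternatingGroup, Nat.card_perm, Nat.card_fin]
  have h3 := Nat.card_le_card_of_surjective π hsurj
  have hbij : Function.Bijective π :=
    (Nat.bijective_iff_surjective_and_card π).2 ⟨hsurj, by omega⟩
  refine ⟨((MonoidHom.snd _ _).comp Γ.subtype).comp (MulEquiv.ofBijective π hbij).symm.toMonoidHom,
    fun i hi => ?_⟩
  have e : (MulEquiv.ofBijective π hbij).symm (t i) = ⟨z i, subset_closure ⟨i, hi, rfl⟩⟩ := by
    rw [MulEquiv.symm_apply_eq]; rfl
  show (((MulEquiv.ofBijective π hbij).symm (t i) : Γ) : alternatingGroup (Fin n) × G).2 = x i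
  rw [e]

end CfsgLib.AltNine
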